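import Groth.Agent.GammaLib.Univ
import Mathlib.RingTheory.TensorProduct.MvPolynomial
import Mathlib.Algebra.Polynomial.AlgebraMap

/-!
# Cayley-Hamilton for multiplicative polynomial laws
-/

set_option autoImplicit false

universe u

open scoped TensorProduct

namespace Groth.Agent.GammaLib

variable {A : Type u} [CommRing A] {B : Type u} [CommRing B] [Algebra A B] {d : ℕ}

/-- the value of a law with values in the base -/
noncomputable def valF (F : PolLaw.MulLaw A B A d) (S : Type u) [CommSemiring S] [Algebra A S] (z : S ⊗[A] B) : S :=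
  TensorProduct.rid A S (F.law.toFun' S z)

variable (F : PolLaw.MulLaw A B A d)

theorem valF_one (S : Type u) [CommSemiring S] [Algebra A S] : valF F S 1 = 1 := by
  rw [valF, (F.mult S).1, Algebra.TensorProduct.one_def, TensorProduct.rid_tmul, one_smul]

theorem valF_mul (S : Type u) [CommSemiring S] [Algebra A S] (x y : S ⊗[A] B) :
    valF F S (x * y) = valF F S x * valF F S y := by
  rw [valF, (F.mult S).2]
  exact map_mul (Algebra.TensorProduct.rid A S S) _ _

theorem valF_smul (S : Type u) [CommSemiring S] [Algebra A S] (s : S) (x : S ⊗[A] B) :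
    valF F S (s • x) = s ^ d * valF F S x := by
  rw [valF, F.homog S s x]
  exact map_smul (Algebra.TensorProduct.rid A S S) _ _

theorem valF_compat {S S' : Type u} [CommSemiring S] [Algebra A S] [CommSemiring S'] [Algebra A S']
    (φ : S →ₐ[A] S') (z : S ⊗[A] B) : φ (valF F S z) = valF F S' (φ.toLinearMap.rTensor B z) := by
  rw [valF, valF, ← law_compat]
  induction F.law.toFun' S z using TensorProduct.induction_on with
  | zero => simp
  | tmul s a => simp
  | add x y hx hy => simp only [map_add, hx, hy]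

theorem valF_sum {ι : Type} [Fintype ι] {S : Type u} [CommSemiring S] [Algebra A S] (x : ι → B) (s : ι → S) :
    valF F S (∑ i, s i ⊗ₜ[A] x i) = ∑ k ∈ cset ι d, coef F.law x k • mon s k := by
  rw [valF, law_sum_cset F.homog, map_sum]
  exact Finset.sum_congr rfl fun k _ => TensorProduct.rid_tmul _ _

/-- the law does not see the extension of its kernel -/
theorem valF_add_of_mem {S : Type u} [CommSemiring S] [Algebra A S] (x : S ⊗[A] B) {y : S ⊗[A] B}
    (hy : y ∈ (PolLaw.ker F.law).map (Algebra.TensorProduct.includeRight : B →ₐ[A] S ⊗[A] B)) :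
    valF F S (x + y) = valF F S x := by
  suffices h : ∀ x w : S ⊗[A] B, valF F S (x + w * y) = valF F S x by simpa using h x 1
  clear x
  induction hy using Submodule.span_induction with
  | mem y hy =>
    obtain ⟨b, hb, rfl⟩ := hy
    exact fun x w => congrArg (TensorProduct.rid A S) (hb S x w)
  | zero => intro x w; simp
  | add y y' _ _ h h' => intro x w; rw [mul_add, ← add_assoc, h', h]
  | smul c y _ h => intro x w; rw [smul_eq_mul, ← mul_assoc, h]

theorem valF_congr {S : Type u} [CommRing S] [Algebra A S] {x y : S ⊗[A] B}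
    (h : x - y ∈ (PolLaw.ker F.law).map (Algebra.TensorProduct.includeRight : B →ₐ[A] S ⊗[A] B)) :
    valF F S x = valF F S y := by
  conv_lhs => rw [← add_sub_cancel y x]
  exact valF_add_of_mem F y h

section Prod

variable {P : Type u} [CommRing P] [Algebra A P]

/-- the `i`-th coprojection into the tensor power -/
noncomputable abbrev inj (i : Fin d) : P →ₐ[A] ⨂[A] _ : Fin d, P :=
  PiTensorProduct.singleAlgHom (R := A) (A := fun _ : Fin d => P) i

theorem prod_sum_inj {U : Type u} [CommSemiring U] (j : (⨂[A] _ : Fin d, P) →+* U) {ι : Type} [Fintype ι]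
    (r : ι → U) (q : ι → P) :
    ∏ i, ∑ l, r l * j (inj i (q l)) = ∑ k ∈ cset ι d, mon r k * j (osum q k) := by
  classical
  rw [Fintype.prod_sum]
  simp only [osum, map_sum, Finset.mul_sum]
  rw [← Finset.sum_fiberwise_of_maps_to (s := Finset.univ) (t := cset ι d) (g := cnt)
    fun f _ => mem_cset.2 (sum_cnt f)]
  refine Finset.sum_congr rfl fun k _ => Finset.sum_congr rfl fun f hf => ?_
  rw [← (Finset.mem_filter.1 hf).2, mon_cnt, Finset.prod_mul_distrib, ← map_prod]
  exact congrArg (fun t => _ * j t) (prod_singleAlgHom _)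

variable {ι₀ : Type u} (b : Module.Basis ι₀ A P) (π : P →ₐ[A] B)

include b in
/-- Criterion for membership in the kernel. -/
theorem sum_smul_mem_ker (hπ : Function.Surjective π) {κ : Type} [Fintype κ] (t : κ → SymTen.TS A P d) (p : κ → P)
    (h : ∀ i : Fin d, ∑ l, (t l).1 * inj i (p l) = 0) :
    ∑ l, th b π F (t l) • π (p l) ∈ PolLaw.ker F.law := by
  intro S _ _ x w
  obtain ⟨n, s, x', rfl⟩ := exists_sum_tmul x
  obtain ⟨m, v, w', rfl⟩ := exists_sum_tmul w
  choose p₁ hp₁ using fun a => hπ (x' a)
  choose q hq using fun a => hπ (w' a)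
  let val := Algebra.TensorProduct.map (AlgHom.id A S) (SymTen.TS A P d).val
  have hval : Function.Injective val := fun a a' haa => lTensor_val_injective b S (by
    rw [PolLaw.lTensor_algHom_apply, PolLaw.lTensor_algHom_apply]; exact haa)
  let φ : S ⊗[A] SymTen.TS A P d →ₐ[A] S :=
    (Algebra.TensorProduct.rid A A S).toAlgHom.comp (Algebra.TensorProduct.map (AlgHom.id A S) (th b π F))
  let r : Fin n ⊕ (Fin m × κ) → S ⊗[A] SymTen.TS A P d :=
    Sum.elim (fun a => s a ⊗ₜ[A] 1) (fun bl => v bl.1 ⊗ₜ[A] t bl.2)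
  let Q : Fin n ⊕ (Fin m × κ) → P := Sum.elim p₁ (fun bl => q bl.1 * p bl.2)
  have key : ∑ k ∈ cset (Fin n ⊕ (Fin m × κ)) d, mon r k * (1 ⊗ₜ[A] oTS Q k) =
      ∑ k ∈ cset (Fin n) d, mon (fun a => s a ⊗ₜ[A] (1 : SymTen.TS A P d)) k * (1 ⊗ₜ[A] oTS p₁ k) := by
    refine hval ?_
    have h1 := prod_sum_inj (Algebra.TensorProduct.includeRight : (⨂[A] _ : Fin d, P) →ₐ[A] S ⊗[A] _).toRingHom
      (fun l => val (r l)) Q
    have h2 := prod_sum_inj (Algebra.TensorProduct.includeRight : (⨂[A] _ : Fin d, P) →ₐ[A] S ⊗[A] _).toRingHom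
      (fun a => val (s a ⊗ₜ[A] (1 : SymTen.TS A P d))) p₁
    simp only [map_sum, map_mul, map_mon]
    refine h1.symm.trans (Eq.trans ?_ h2)
    refine Finset.prod_congr rfl fun i _ => ?_
    rw [Fintype.sum_sum_type, Fintype.sum_prod_type]
    refine (congrArg₂ (· + ·) rfl (Finset.sum_eq_zero fun a _ => ?_)).trans (add_zero _)
    calc _ = ∑ l, v a ⊗ₜ[A] (inj i (q a) * ((t l).1 * inj i (p l))) :=
          Finset.sum_congr rfl fun l _ => by simp [r, Q, val, mul_left_comm, -PiTensorProduct.singleAlgHom_apply]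
      _ = 0 := by rw [← TensorProduct.tmul_sum, ← Finset.mul_sum, h i, mul_zero, TensorProduct.tmul_zero]
  have key' := congrArg φ key
  simp only [map_sum, map_mul, map_mon] at key'
  have e1 : ∀ {ι : Type} [Fintype ι] (g : ι → S) (q' : ι → P),
      ∑ k ∈ cset ι d, mon g k * φ (1 ⊗ₜ[A] oTS q' k) = valF F S (∑ l, g l ⊗ₜ[A] π (q' l)) := fun g q' => by
    rw [valF_sum]
    refine Finset.sum_congr rfl fun k hk => ?_
    simp [φ, th_oTS b π F q' (mem_cset.1 hk), Algebra.smul_def, mul_comm]
  rw [e1, e1] at key'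
  refine (TensorProduct.rid A S).injective ?_
  show valF F S _ = valF F S _
  convert key' using 2
  · rw [Fintype.sum_sum_type, Fintype.sum_prod_type, Finset.sum_mul]
    refine congrArg₂ (· + ·) (Finset.sum_congr rfl fun a _ => by simp [r, Q, φ, hp₁]) ?_
    refine Finset.sum_congr rfl fun a _ => ?_
    rw [Algebra.TensorProduct.tmul_mul_tmul, mul_one, Finset.mul_sum, TensorProduct.tmul_sum]
    refine Finset.sum_congr rfl fun l _ => ?_
    simp [r, Q, φ, hq, TensorProduct.smul_tmul]
  · simp [φ, hp₁]

end Prod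

section CayleyHamilton

variable (S : Type u) [CommRing S] [Algebra A S]

/-- the characteristic polynomial of an element of `S ⊗ B` -/
noncomputable def chiPoly (z : S ⊗[A] B) : Polynomial S :=
  valF F (Polynomial S) ((IsScalarTower.toAlgHom A S (Polynomial S)).toLinearMap.rTensor B z -
    Polynomial.X ⊗ₜ[A] (1 : B))

theorem chiPoly_sum {n : ℕ} (c : Fin n → S) (x : Fin n → B) :
    chiPoly F S (∑ j, c j ⊗ₜ[A] x j) = ∑ k ∈ cset (Option (Fin n)) d,
      coef F.law (fun o => o.elim 1 x) k • mon (fun o => o.elim (-Polynomial.X) fun j => Polynomial.C (c j)) k := by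
  rw [chiPoly, ← valF_sum]
  congr 1
  rw [Fintype.sum_option, map_sum, sub_eq_add_neg, add_comm]
  simp [TensorProduct.neg_tmul]

theorem coords_lTensor {N N' : Type u} [AddCommGroup N] [Module A N] [AddCommGroup N'] [Module A N'] {ι : Type}
    [Fintype ι] (g : N →ₗ[A] N') (z : MvPolynomial ι A ⊗[A] N) (l : ι →₀ ℕ) :
    coords (g.lTensor (MvPolynomial ι A) z) l = g (coords z l) := by
  classical
  conv_lhs => rw [← coords_sum z, map_sum]
  simp only [LinearMap.lTensor_tmul, coords_expansion]
  split_ifs with h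
  · rfl
  · rw [Finsupp.notMem_support_iff.1 h, map_zero]

theorem coords_zero {N : Type u} [AddCommGroup N] [Module A N] {ι : Type} [Fintype ι] (l : ι →₀ ℕ) :
    coords (0 : MvPolynomial ι A ⊗[A] N) l = 0 :=
  by classical exact DFunLike.congr_fun ((TensorProduct.equivFinsuppOfBasisLeft (MvPolynomial.basisMonomials ι A)).map_zero) l

/-- the universal Cayley-Hamilton identity, coordinatewise -/
theorem osum_mul_coords_eq_zero {P : Type u} [CommRing P] [Algebra A P] {n : ℕ} (x' : Fin n → P) (i : Fin d)
    (l : Fin n →₀ ℕ) :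
    ∑ k ∈ cset (Option (Fin n)) d, osum (A := A) (d := d) (fun o : Option (Fin n) => o.elim 1 x') k *
      inj i (coords (mon (fun o : Option (Fin n) => o.elim (-gen x')
        fun j => (MvPolynomial.X j : MvPolynomial (Fin n) A) ⊗ₜ[A] (1 : P)) k) l) = 0 := by
  classical
  let q : Option (Fin n) → P := fun o => o.elim 1 x'
  let u : Option (Fin n) → MvPolynomial (Fin n) A ⊗[A] P :=
    fun o => o.elim (-gen x') fun j => MvPolynomial.X j ⊗ₜ[A] 1
  let j := (Algebra.TensorProduct.includeRight :
    (⨂[A] _ : Fin d, P) →ₐ[A] MvPolynomial (Fin n) A ⊗[A] _)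
  let E := Algebra.TensorProduct.map (AlgHom.id A (MvPolynomial (Fin n) A)) (inj (A := A) (P := P) i)
  let g : (Option (Fin n) →₀ ℕ) → (P →ₗ[A] ⨂[A] _ : Fin d, P) := fun k =>
    { toFun := fun p => osum (A := A) (d := d) q k * inj i p
      map_add' := fun a b => by rw [map_add, mul_add]
      map_smul' := fun c a => by rw [map_smul, RingHom.id_apply, Algebra.mul_smul_comm] }
  have h1 : ∑ k ∈ cset (Option (Fin n)) d, (g k).lTensor _ (mon u k) = 0 := by
    have e : ∀ k w, (g k).lTensor _ w = E w * j (osum q k) := fun k w => by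
      induction w using TensorProduct.induction_on with
      | zero => simp
      | tmul a p => simp [g, E, j, mul_comm]
      | add a a' h h' => simp only [map_add, h, h', add_mul]
    simp only [e, map_mon]
    refine (prod_sum_inj j.toRingHom (fun o => E (u o)) q).symm.trans
      (Finset.prod_eq_zero (Finset.mem_univ i) ?_)
    rw [Fintype.sum_option]
    simp [q, u, E, j, gen, map_sum, map_neg, map_one, -PiTensorProduct.singleAlgHom_apply]
  have h2 := congrArg (fun w => coords w l) h1
  simp only [coords_finsetSum, Finsupp.finsetSum_apply, coords_lTensor] at h2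
  rw [coords_zero] at h2
  exact h2

/-- Cayley-Hamilton, with finitely many elements of the kernel for all combinations of given elements. -/
theorem exists_finset_aeval_mem {n : ℕ} (x : Fin n → B) :
    ∃ G : Finset B, (G : Set B) ⊆ PolLaw.ker F.law ∧ ∀ (S : Type u) [CommRing S] [Algebra A S] (c : Fin n → S),
      Polynomial.aeval (∑ j, c j ⊗ₜ[A] x j) (chiPoly F S (∑ j, c j ⊗ₜ[A] x j)) ∈
        (Ideal.span (G : Set B)).map (Algebra.TensorProduct.includeRight : B →ₐ[A] S ⊗[A] B) := by
  classical
  let π := piTaut A B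
  choose x' hx' using fun j => piTaut_surjective A B (x j)
  let q : Option (Fin n) → MvPolynomial B A := fun o => o.elim 1 x'
  have hq : (fun o => π (q o)) = fun o => o.elim 1 x := funext fun o => by cases o <;> simp [q, π, hx']
  let cf : (Option (Fin n) →₀ ℕ) → A := coef F.law (fun o => o.elim 1 x)
  let Z : MvPolynomial (Fin n) A ⊗[A] MvPolynomial B A := gen x'
  let uu : (Option (Fin n) →₀ ℕ) → MvPolynomial (Fin n) A ⊗[A] MvPolynomial B A :=
    mon fun o => o.elim (-Z) fun j => MvPolynomial.X j ⊗ₜ[A] 1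
  let W := ∑ k ∈ cset (Option (Fin n)) d, (cf k • π.toLinearMap).lTensor _ (uu k)
  have hW : ∀ l, coords W l ∈ PolLaw.ker F.law := fun l => by
    have h0 : ∀ i : Fin d, ∑ k : ↥(cset (Option (Fin n)) d),
        (oTS (d := d) q k.1 : SymTen.TS A (MvPolynomial B A) d).1 * inj i (coords (uu k.1) l) = 0 := fun i => by
      rw [Finset.sum_coe_sort (cset (Option (Fin n)) d)
        (fun k => (oTS (d := d) q k : SymTen.TS A (MvPolynomial B A) d).1 * inj i (coords (uu k) l))]
      exact osum_mul_coords_eq_zero x' i l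
    have h3 := sum_smul_mem_ker F (bTaut A B) π (piTaut_surjective A B) _ _ h0
    simp only [W, coords_finsetSum, Finsupp.finsetSum_apply, coords_lTensor]
    rw [← Finset.sum_coe_sort]
    refine Eq.mp (congrArg (· ∈ PolLaw.ker F.law) (Finset.sum_congr rfl fun k _ => ?_)) h3
    rw [th_oTS _ _ F q (mem_cset.1 k.2), hq]
    rfl
  refine ⟨(coords W).support.image (coords W), fun g hg => ?_, fun S _ _ c => ?_⟩
  · obtain ⟨l, -, rfl⟩ := Finset.mem_image.1 (Finset.mem_coe.1 hg)
    exact hW l
  let ev := Algebra.TensorProduct.map (MvPolynomial.aeval c : MvPolynomial (Fin n) A →ₐ[A] S) (AlgHom.id A B)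
  have hmem : ev W ∈ (Ideal.span (↑((coords W).support.image (coords W)) : Set B)).map (Algebra.TensorProduct.includeRight : B →ₐ[A] S ⊗[A] B) := by
    rw [show ev W = ∑ l ∈ (coords W).support, ev (MvPolynomial.monomial l (1 : A) ⊗ₜ[A] coords W l) by
      rw [← map_sum, coords_sum]]
    refine Submodule.sum_mem _ fun l hl => ?_
    rw [Algebra.TensorProduct.map_tmul, AlgHom.id_apply]
    have := Ideal.mul_mem_left _ (MvPolynomial.aeval c (MvPolynomial.monomial l (1 : A)) ⊗ₜ[A] (1 : B))
      (Ideal.mem_map_of_mem (Algebra.TensorProduct.includeRight : B →ₐ[A] S ⊗[A] B)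
        (Ideal.subset_span (Finset.mem_coe.2 (Finset.mem_image_of_mem (coords W) hl))))
    simpa using this
  convert hmem using 1
  rw [chiPoly_sum, map_sum, map_sum]
  refine Finset.sum_congr rfl fun k _ => ?_
  have e : ∀ w, ev ((cf k • π.toLinearMap).lTensor _ w) =
      cf k • Algebra.TensorProduct.map (MvPolynomial.aeval c : MvPolynomial (Fin n) A →ₐ[A] S) π w := fun w => by
    induction w using TensorProduct.induction_on with
    | zero => simp
    | tmul a p => simp [ev]
    | add a a' h h' => simp only [map_add, smul_add, h, h']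
  rw [e, map_mon, Algebra.smul_def, map_mul, IsScalarTower.algebraMap_apply A S (Polynomial S), Polynomial.algebraMap_eq,
    Polynomial.aeval_C, ← IsScalarTower.algebraMap_apply, ← Algebra.smul_def, map_mon]
  congr 2
  funext o
  cases o with
  | none => simp [Z, gen, map_sum, π, hx']
  | some j => simp [Algebra.TensorProduct.algebraMap_apply]

/-- Cayley-Hamilton for laws. -/
theorem aeval_chiPoly_mem (z : S ⊗[A] B) :
    Polynomial.aeval z (chiPoly F S z) ∈
      (PolLaw.ker F.law).map (Algebra.TensorProduct.includeRight : B →ₐ[A] S ⊗[A] B) := by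
  obtain ⟨n, c, x, rfl⟩ := exists_sum_tmul z
  obtain ⟨G, hG, h⟩ := exists_finset_aeval_mem F x
  exact Ideal.map_mono (Ideal.span_le.2 hG) (h S c)

theorem coef_one {n : ℕ} (x : Fin n → B) : coef F.law (fun o : Option (Fin n) => o.elim 1 x) (Finsupp.single none d) = 1 := by
  classical
  have h := valF_sum F (fun o : Option (Fin n) => o.elim 1 x) (fun o => o.elim (1 : A) fun _ => 0)
  rw [Fintype.sum_option] at h
  simp only [Option.elim_none, Option.elim_some, TensorProduct.zero_tmul, Finset.sum_const_zero, add_zero, ← Algebra.TensorProduct.one_def,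
    valF_one] at h
  rw [Finset.sum_eq_single (Finsupp.single none d)] at h
  · simpa [mon, Fintype.prod_option] using h.symm
  · intro k hk hne
    have : ∃ j, k (some j) ≠ 0 := by
      by_contra hn
      push Not at hn
      refine hne (Finsupp.ext fun o => ?_)
      cases o with
      | none => simpa [Fintype.sum_option, hn] using mem_cset.1 hk
      | some j => simp [hn j]
    obtain ⟨j, hj⟩ := this
    rw [mon, Finset.prod_eq_zero (Finset.mem_univ (some j)) (by simp [zero_pow hj]), smul_zero]
  · exact fun hn => absurd (mem_cset.2 (by simp [Fintype.sum_option])) hn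

theorem chiPoly_natDegree_coeff (z : S ⊗[A] B) :
    (chiPoly F S z).natDegree ≤ d ∧ (chiPoly F S z).coeff d = (-1) ^ d := by
  classical
  obtain ⟨n, c, x, rfl⟩ := exists_sum_tmul z
  have hT : ∀ k : Option (Fin n) →₀ ℕ,
      coef F.law (fun o => o.elim 1 x) k • mon (fun o => o.elim (-Polynomial.X) fun j => Polynomial.C (c j)) k =
        Polynomial.C (algebraMap A S (coef F.law (fun o => o.elim 1 x) k) * ((-1) ^ k none * ∏ j, c j ^ k (some j))) *
          Polynomial.X ^ k none := fun k => by
    simp only [mon, Fintype.prod_option, Option.elim_none, Option.elim_some, map_mul, map_pow, map_neg, map_one,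
      map_prod, Algebra.smul_def, IsScalarTower.algebraMap_apply A S (Polynomial S), Polynomial.algebraMap_eq,
      neg_pow (Polynomial.X : Polynomial S)]
    ring
  rw [chiPoly_sum]
  constructor
  · refine Polynomial.natDegree_sum_le_of_forall_le _ _ fun k hk => ?_
    rw [hT]
    refine (Polynomial.natDegree_C_mul_X_pow_le _ _).trans ?_
    have := mem_cset.1 hk
    rw [Fintype.sum_option] at this
    omega
  · rw [Polynomial.finsetSum_coeff, Finset.sum_eq_single (Finsupp.single none d)]
    · rw [hT, Polynomial.coeff_C_mul_X_pow, coef_one F]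
      simp
    · intro k hk hne
      rw [hT, Polynomial.coeff_C_mul_X_pow, if_neg fun h => hne ?_]
      have := mem_cset.1 hk
      rw [Fintype.sum_option, ← h] at this
      refine Finsupp.ext fun o => ?_
      cases o with
      | none => simp [h]
      | some j =>
        have h0 : ∑ j, k (some j) = 0 := by omega
        simp [Finset.sum_eq_zero_iff.1 h0 j (Finset.mem_univ j)]
    · exact fun hn => absurd (mem_cset.2 (by simp)) hn

theorem exists_monic_eval (b : B) : ∃ p : Polynomial A, p.Monic ∧ Polynomial.aeval b p ∈ PolLaw.ker F.law := by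
  obtain ⟨h1, h2⟩ := chiPoly_natDegree_coeff F A ((1 : A) ⊗ₜ[A] b)
  refine ⟨Polynomial.C ((-1 : A) ^ d) * chiPoly F A ((1 : A) ⊗ₜ[A] b),
    Polynomial.monic_of_natDegree_le_of_coeff_eq_one d ((Polynomial.natDegree_C_mul_le _ _).trans h1)
      (by rw [Polynomial.coeff_C_mul, h2, ← mul_pow]; simp), ?_⟩
  rw [map_mul]
  refine Ideal.mul_mem_left _ _ ?_
  have h := aeval_chiPoly_mem F A ((1 : A) ⊗ₜ[A] b)
  have h' := Ideal.mem_map_of_mem (Algebra.TensorProduct.lid A B).toAlgHom h
  rw [Ideal.map_mapₐ] at h'
  have e : ((Algebra.TensorProduct.lid A B).toAlgHom).comp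
      (Algebra.TensorProduct.includeRight : B →ₐ[A] A ⊗[A] B) = AlgHom.id A B := by ext; simp
  rw [e] at h'
  simpa [← Polynomial.aeval_algHom_apply] using h'

end CayleyHamilton

end Groth.Agent.GammaLib
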