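import Groth.Agent.GammaLib.CH
import Mathlib.RingTheory.IntegralClosure.Algebra.Basic
import Mathlib.RingTheory.Artinian.Module
import Mathlib.RingTheory.Ideal.Quotient.Operations
import Mathlib.RingTheory.Polynomial.UniqueFactorization

/-!
# Consequences of Cayley-Hamilton: points of the image of a law
-/

set_option autoImplicit false
set_option linter.style.haveILetI false

universe u

open scoped TensorProduct

namespace Groth.Agent.GammaLib

variable {A : Type u} [CommRing A] {B : Type u} [CommRing B] [Algebra A B] {d : ℕ} (F : PolLaw.MulLaw A B A d)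

/-- the extension of the kernel -/
noncomputable abbrev mapKer (S : Type u) [CommRing S] [Algebra A S] : Ideal (S ⊗[A] B) :=
  (PolLaw.ker F.law).map (Algebra.TensorProduct.includeRight : B →ₐ[A] S ⊗[A] B)

theorem rTensor_eq_map {S S' : Type u} [CommRing S] [Algebra A S] [CommRing S'] [Algebra A S'] (φ : S →ₐ[A] S')
    (z : S ⊗[A] B) : φ.toLinearMap.rTensor B z = Algebra.TensorProduct.map φ (AlgHom.id A B) z := by
  induction z using TensorProduct.induction_on with
  | zero => simp
  | tmul a b => rfl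
  | add a b ha hb => simp [ha, hb]

theorem mapKer_map {S S' : Type u} [CommRing S] [Algebra A S] [CommRing S'] [Algebra A S'] (φ : S →ₐ[A] S') :
    (mapKer F S).map (Algebra.TensorProduct.map φ (AlgHom.id A B)) = mapKer F S' := by
  rw [Ideal.map_mapₐ]
  congr 1
  ext b
  simp

theorem chiPoly_compat {S S' : Type u} [CommRing S] [Algebra A S] [CommRing S'] [Algebra A S'] (φ : S →ₐ[A] S')
    (z : S ⊗[A] B) : (chiPoly F S z).map φ.toRingHom = chiPoly F S' (φ.toLinearMap.rTensor B z) := by
  show Polynomial.mapAlgHom φ (chiPoly F S z) = _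
  rw [chiPoly, valF_compat, chiPoly, map_sub, ← LinearMap.comp_apply, ← LinearMap.rTensor_comp,
    ← LinearMap.comp_apply, ← LinearMap.rTensor_comp, LinearMap.rTensor_tmul]
  congr 3
  · exact congrArg (LinearMap.rTensor B) (LinearMap.ext fun s => by simp)
  · simp

theorem valF_algebraMap (S : Type u) [CommSemiring S] [Algebra A S] (s : S) :
    valF F S (s ⊗ₜ[A] 1) = s ^ d := by
  rw [show s ⊗ₜ[A] (1 : B) = s • (1 : S ⊗[A] B) by simp [Algebra.TensorProduct.one_def, TensorProduct.smul_tmul'],
    valF_smul, valF_one, mul_one]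

theorem chiPoly_of_mem {S : Type u} [CommRing S] [Algebra A S] {z : S ⊗[A] B} (hz : z ∈ mapKer F S) :
    chiPoly F S z = (-Polynomial.X) ^ d := by
  rw [chiPoly, ← valF_algebraMap F (Polynomial S) (-Polynomial.X)]
  refine valF_congr F ?_
  rw [TensorProduct.neg_tmul, sub_neg_eq_add, sub_add_cancel, rTensor_eq_map]
  have := Ideal.mem_map_of_mem (Algebra.TensorProduct.map (IsScalarTower.toAlgHom A S (Polynomial S)) (AlgHom.id A B)) hz
  rwa [mapKer_map] at this

theorem chiPoly_of_mem_kerBC {S : Type u} [CommRing S] [Algebra A S] {z : S ⊗[A] B}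
    (hz : z ∈ PolLaw.kerBC F.law S) : chiPoly F S z = (-Polynomial.X) ^ d := by
  rw [chiPoly, ← valF_algebraMap F (Polynomial S) (-Polynomial.X), TensorProduct.neg_tmul, rTensor_eq_map]
  have := hz (Polynomial S) (-((Polynomial.X : Polynomial S) ⊗ₜ[A] (1 : B))) 1
  rw [one_mul] at this
  rw [sub_eq_neg_add]
  exact congrArg (TensorProduct.rid A (Polynomial S)) this

theorem pow_mem_of_chiPoly {S : Type u} [CommRing S] [Algebra A S] {z : S ⊗[A] B}
    (hz : chiPoly F S z = (-Polynomial.X) ^ d) : z ^ d ∈ mapKer F S := by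
  have h := aeval_chiPoly_mem F S z
  rw [hz, map_pow, map_neg, Polynomial.aeval_X] at h
  have := Ideal.mul_mem_left _ ((-1) ^ d) h
  rwa [← mul_pow, neg_one_mul, neg_neg] at this

/-- in a domain nilpotents modulo the kernel have trivial characteristic polynomial -/
theorem chiPoly_of_pow_mem {S : Type u} [CommRing S] [IsDomain S] [Algebra A S] {z : S ⊗[A] B} {N : ℕ}
    (hz : z ^ N ∈ mapKer F S) : chiPoly F S z = (-Polynomial.X) ^ d := by
  let a : Polynomial S ⊗[A] B := (IsScalarTower.toAlgHom A S (Polynomial S)).toLinearMap.rTensor B z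
  let t : Polynomial S ⊗[A] B := (Polynomial.X : Polynomial S) ⊗ₜ[A] (1 : B)
  obtain ⟨w, hw⟩ : a - t ∣ a ^ N - t ^ N := sub_dvd_pow_sub_pow _ _ N
  have hv : valF F _ (a ^ N - t ^ N) = ((-1) * (Polynomial.X : Polynomial S) ^ N) ^ d := by
    rw [← valF_algebraMap F (Polynomial S)]
    refine valF_congr F ?_
    rw [show a = Algebra.TensorProduct.map (IsScalarTower.toAlgHom A S (Polynomial S)) (AlgHom.id A B) z from
      rTensor_eq_map _ z, ← map_pow]
    have := Ideal.mem_map_of_mem (Algebra.TensorProduct.map (IsScalarTower.toAlgHom A S (Polynomial S)) (AlgHom.id A B)) hz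
    rw [mapKer_map] at this
    simpa [t, TensorProduct.neg_tmul, Algebra.TensorProduct.tmul_pow] using this
  rw [hw, valF_mul] at hv
  have hdvd : chiPoly F S z ∣ (Polynomial.X : Polynomial S) ^ (N * d) := by
    refine ⟨(-1) ^ d * valF F _ w, ?_⟩
    rw [show chiPoly F S z = valF F _ (a - t) from rfl, mul_left_comm, hv, mul_pow, ← mul_assoc, ← mul_pow,
      neg_one_mul, neg_neg, one_pow, one_mul, pow_mul]
  obtain ⟨i, hi, hassoc⟩ := (dvd_prime_pow Polynomial.prime_X _).1 hdvd
  obtain ⟨u, hu⟩ := hassoc.symm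
  obtain ⟨r, hr, hru⟩ := Polynomial.isUnit_iff.1 u.isUnit
  obtain ⟨h1, h2⟩ := chiPoly_natDegree_coeff F S z
  rw [← hu, ← hru, mul_comm, Polynomial.coeff_C_mul_X_pow] at h2
  split_ifs at h2 with hdi
  · rw [← hu, ← hru, ← hdi, h2, map_pow, map_neg, map_one, mul_comm, ← neg_pow]
  · exact absurd h2.symm (pow_ne_zero _ (neg_ne_zero.2 one_ne_zero))

theorem valF_eq_zero_or_one {K : Type u} [CommRing K] [IsDomain K] [Algebra A K] {e : K ⊗[A] B}
    (he : e * e - e ∈ mapKer F K) : valF F K e = 0 ∨ valF F K e = 1 := by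
  have h := valF_congr F he
  rw [valF_mul] at h
  rcases eq_or_ne (valF F K e) 0 with h0 | h0
  · exact Or.inl h0
  · exact Or.inr (mul_left_cancel₀ h0 (h.trans (mul_one _).symm))

/-- idempotents off which the law is invertible vanish -/
theorem valF_one_sub_eq_zero {K : Type u} [CommRing K] [IsDomain K] [Algebra A K] {e : K ⊗[A] B}
    (he : e * e - e ∈ mapKer F K) (hne : e ∉ (mapKer F K).radical) : valF F K (1 - e) = 0 := by
  have he' : (1 - e) * (1 - e) - (1 - e) ∈ mapKer F K := by ring_nf; ring_nf at he; exact he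
  refine (valF_eq_zero_or_one F he').resolve_right fun h1 => hne ⟨d, pow_mem_of_chiPoly F ?_⟩
  let φ := IsScalarTower.toAlgHom A K (Polynomial K)
  let a : Polynomial K ⊗[A] B := φ.toLinearMap.rTensor B e
  let t : Polynomial K ⊗[A] B := (Polynomial.X : Polynomial K) ⊗ₜ[A] (1 : B)
  have hc : valF F _ ((a - t) * (1 - a)) = valF F _ (-t * (1 - a)) := by
    refine valF_congr F ?_
    rw [← sub_mul, show a - t - -t = a by ring, mul_sub, mul_one, ← neg_sub, neg_mem_iff,
      show a = Algebra.TensorProduct.map φ (AlgHom.id A B) e from rTensor_eq_map _ e, ← map_mul, ← map_sub]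
    have := Ideal.mem_map_of_mem (Algebra.TensorProduct.map φ (AlgHom.id A B)) he
    rwa [mapKer_map] at this
  have h1a : valF F _ (1 - a) = 1 := by
    have : (1 : Polynomial K ⊗[A] B) - a = φ.toLinearMap.rTensor B (1 - e) := by
      rw [map_sub]; simp [a, Algebra.TensorProduct.one_def]
    rw [this, ← valF_compat, h1, map_one]
  rw [valF_mul, valF_mul, h1a, mul_one, mul_one] at hc
  refine hc.trans ?_
  show valF F _ (-((Polynomial.X : Polynomial K) ⊗ₜ[A] (1 : B))) = _
  rw [← TensorProduct.neg_tmul, valF_algebraMap]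

/-- the image of a law is integral -/
theorem isIntegral_image : Algebra.IsIntegral A (PolLaw.image F.law) := ⟨fun x => by
  obtain ⟨b, rfl⟩ := Ideal.Quotient.mk_surjective x
  obtain ⟨p, hp, hp'⟩ := exists_monic_eval F b
  refine ⟨p, hp, ?_⟩
  show Polynomial.aeval (Ideal.Quotient.mkₐ A (PolLaw.ker F.law) b) p = 0
  rw [Polynomial.aeval_algHom_apply]
  exact Ideal.Quotient.eq_zero_iff_mem.2 hp'⟩

end Groth.Agent.GammaLib
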