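import Groth.Agent.GammaLib.CH2
import Mathlib.LinearAlgebra.TensorProduct.RightExactness
import Mathlib.RingTheory.Ideal.GoingUp
import Mathlib.RingTheory.MvPolynomial.Homogeneous

/-!
# Fibres of the image of a law
-/

set_option autoImplicit false
set_option linter.style.haveILetI false

universe u

open scoped TensorProduct

namespace Groth.Agent.GammaLib

variable {A : Type u} [CommRing A] {B : Type u} [CommRing B] [Algebra A B] {d : ℕ} (F : PolLaw.MulLaw A B A d)

/-- the projection onto the base-changed image -/
noncomputable abbrev toImage (S : Type u) [CommRing S] [Algebra A S] :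
    S ⊗[A] B →ₐ[A] S ⊗[A] PolLaw.image F.law :=
  Algebra.TensorProduct.map (AlgHom.id A S) (Ideal.Quotient.mkₐ A (PolLaw.ker F.law))

theorem toImage_surjective (S : Type u) [CommRing S] [Algebra A S] : Function.Surjective (toImage F S) :=
  LinearMap.lTensor_surjective S (Ideal.Quotient.mkₐ_surjective A _)

theorem ker_toImage (S : Type u) [CommRing S] [Algebra A S] : RingHom.ker (toImage F S) = mapKer F S := by
  rw [Algebra.TensorProduct.lTensor_ker _ (Ideal.Quotient.mkₐ_surjective A _)]
  congr 1
  exact Ideal.Quotient.mkₐ_ker A _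

theorem toImage_eq_zero {S : Type u} [CommRing S] [Algebra A S] {z : S ⊗[A] B} :
    toImage F S z = 0 ↔ z ∈ mapKer F S := by
  rw [← ker_toImage, RingHom.mem_ker]

theorem isIntegral_baseChange (S : Type u) [CommRing S] [Algebra A S] :
    Algebra.IsIntegral S (S ⊗[A] PolLaw.image F.law) :=
  haveI := isIntegral_image F
  inferInstance

theorem exists_idempotent {K R : Type u} [Field K] [CommRing R] [Algebra K R] [Algebra.IsIntegral K R] (a : R) :
    ∃ e : R, e * e = e ∧ ∀ Q : Ideal R, Q.IsPrime → (a ∈ Q → e ∈ Q) ∧ (a - 1 ∈ Q → e - 1 ∈ Q) := by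
  let C := Algebra.adjoin K ({a} : Set R)
  haveI : Module.Finite K C := Algebra.finite_adjoin_simple_of_isIntegral (Algebra.IsIntegral.isIntegral a)
  haveI : IsArtinianRing C := IsArtinianRing.of_finite K C
  obtain ⟨n, y, hy⟩ := IsArtinian.exists_pow_succ_smul_dvd
    (⟨a, Algebra.subset_adjoin rfl⟩ : C) (1 : C)
  simp only [smul_eq_mul, mul_one] at hy
  have hy' : a ^ (n + 1) * (y : R) = a ^ n := congrArg Subtype.val hy
  have hk : ∀ k, a ^ (n + k) * (y : R) ^ k = a ^ n := fun k => by
    induction k with
    | zero => simp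
    | succ k ih =>
      calc a ^ (n + (k + 1)) * (y : R) ^ (k + 1) = (a ^ (n + 1) * (y : R)) * (a ^ k * (y : R) ^ k) := by ring
        _ = a ^ n := by rw [hy', ← mul_assoc, ← pow_add, ih]
  refine ⟨a ^ (n + 1) * (y : R) ^ (n + 1), ?_, fun Q hQ => ⟨fun h => ?_, fun h => ?_⟩⟩
  · calc _ = (a ^ (n + (n + 1)) * (y : R) ^ (n + 1)) * (a * (y : R) ^ (n + 1)) := by ring
      _ = _ := by rw [hk]; ring
  · exact Ideal.mul_mem_right _ Q (Ideal.pow_mem_of_mem Q h _ n.succ_pos)
  · have ha : Ideal.Quotient.mk Q a = 1 := by
      rw [← sub_eq_zero, ← map_one (Ideal.Quotient.mk Q), ← map_sub]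
      exact Ideal.Quotient.eq_zero_iff_mem.2 h
    have hy1 := congrArg (Ideal.Quotient.mk Q) hy'
    rw [map_mul, map_pow, map_pow, ha, one_pow, one_pow, one_mul] at hy1
    refine Ideal.Quotient.eq_zero_iff_mem.1 ?_
    simp [ha, hy1]

theorem isMaximal_of_prime {K : Type u} [Field K] [Algebra A K] (Q : Ideal (K ⊗[A] PolLaw.image F.law)) [Q.IsPrime] :
    Q.IsMaximal :=
  haveI := isIntegral_baseChange F K
  Ideal.isMaximal_of_isIntegral_of_isMaximal_comap Q (by
    haveI : (Q.comap (algebraMap K (K ⊗[A] PolLaw.image F.law))).IsPrime := Ideal.comap_isPrime _ _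
    rw [Ideal.eq_bot_of_prime (I := Q.comap (algebraMap K (K ⊗[A] PolLaw.image F.law)))]
    exact Ideal.bot_isMaximal)

/-- A fibre of the image has at most `d` points. -/
theorem not_injective_primes (K : Type u) [Field K] [Algebra A K]
    (f : Fin (d + 1) → PrimeSpectrum (K ⊗[A] PolLaw.image F.law)) : ¬ Function.Injective f := by
  classical
  intro hf
  haveI := isIntegral_baseChange F K
  haveI := fun i => isMaximal_of_prime F (f i).asIdeal
  have hco : Pairwise (Function.onFun IsCoprime fun i => (f i).asIdeal) := fun i j hij =>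
    Ideal.isCoprime_iff_sup_eq.2 (Ideal.IsMaximal.coprime_of_ne inferInstance inferInstance
      fun h => hij (hf (PrimeSpectrum.ext h)))
  choose a ha using fun i => Ideal.exists_forall_sub_mem_ideal hco (Pi.single i (1 : K ⊗[A] PolLaw.image F.law))
  choose e he he' using fun i => exists_idempotent (K := K) (a i)
  have h1 : ∀ i, e i - 1 ∈ (f i).asIdeal := fun i => (he' i _ (f i).isPrime).2 (by simpa using ha i i)
  have h0 : ∀ i j, j ≠ i → e i ∈ (f j).asIdeal := fun i j h => (he' i _ (f j).isPrime).1 (by simpa [h] using ha i j)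
  let E : Fin (d + 1) → K ⊗[A] PolLaw.image F.law := fun i => e i * ∏ j ∈ Finset.univ.erase i, (1 - e j)
  have hidem : ∀ i, E i * E i = E i := fun i => by
    simp only [E]
    rw [mul_mul_mul_comm, he, ← Finset.prod_mul_distrib]
    refine congrArg _ (Finset.prod_congr rfl fun j _ => ?_)
    linear_combination he j
  have horth : ∀ i j, j ≠ i → E j * (1 - E i) = E j := fun i j hji => by
    have : E j * E i = 0 := by
      simp only [E]
      rw [← Finset.mul_prod_erase (Finset.univ.erase j) (fun l => 1 - e l)
        (Finset.mem_erase.2 ⟨Ne.symm hji, Finset.mem_univ i⟩)]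
      linear_combination (-(e j) * (∏ l ∈ (Finset.univ.erase j).erase i, (1 - e l)) *
        (∏ l ∈ Finset.univ.erase i, (1 - e l))) * he i
    rw [mul_sub, mul_one, this, sub_zero]
  have hnz : ∀ i, E i ∉ (f i).asIdeal := fun i => by
    intro hmem
    rcases (f i).isPrime.mem_or_mem hmem with h | h
    · exact (f i).isPrime.ne_top ((Ideal.eq_top_iff_one _).2 (by simpa using Ideal.sub_mem _ h (h1 i)))
    · haveI := (f i).isPrime
      obtain ⟨j, hj, hj'⟩ := Ideal.IsPrime.prod_mem_iff.1 h
      exact (f i).isPrime.ne_top ((Ideal.eq_top_iff_one _).2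
        (by simpa using Ideal.add_mem _ hj' (h0 j i (Finset.ne_of_mem_erase hj).symm)))
  choose z hz using fun i => toImage_surjective F K (E i)
  have hv : ∀ i, valF F K (1 - z i) = 0 := fun i => valF_one_sub_eq_zero F
    ((toImage_eq_zero F).1 (by rw [map_sub, map_mul, hz, hidem, sub_self])) (fun ⟨N, hN⟩ => hnz i (by
      have := (toImage_eq_zero F).2 hN
      rw [map_pow, hz] at this
      exact (f i).isPrime.mem_of_pow_mem N (this ▸ Ideal.zero_mem _)))
  let z0 := 1 - ∑ i, z i
  let zz : Option (Fin (d + 1)) → K ⊗[A] B := fun o => o.elim z0 z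
  let P := MvPolynomial (Option (Fin (d + 1))) K
  let up : K ⊗[A] B →ₐ[A] P ⊗[A] B := Algebra.TensorProduct.map (IsScalarTower.toAlgHom A K P) (AlgHom.id A B)
  let G : P := valF F P (∑ o, (MvPolynomial.X o : P) • up (zz o))
  have hev : ∀ s : Option (Fin (d + 1)) → K, MvPolynomial.aeval s G = valF F K (∑ o, s o • zz o) := fun s => by
    let φ : P →ₐ[A] K := (MvPolynomial.aeval s).restrictScalars A
    show φ G = _
    rw [valF_compat, map_sum]
    refine congrArg _ (Finset.sum_congr rfl fun o _ => ?_)
    rw [rTensor_smul, rTensor_eq_map]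
    have hup : ∀ w : K ⊗[A] B, Algebra.TensorProduct.map φ (AlgHom.id A B) (up w) = w := fun w => by
      induction w using TensorProduct.induction_on with
      | zero => simp
      | tmul k b => simp [up, φ]
      | add w w' h h' => rw [map_add, map_add, h, h']
    rw [hup]
    exact congrArg (· • zz o) (MvPolynomial.aeval_X s o)
  have hG0 : ∀ i : Fin (d + 1), MvPolynomial.aeval
      (fun o => if o = some i then 0 else (MvPolynomial.X o : P)) G = 0 := fun i => by
    let φ : P →ₐ[A] P :=
      (MvPolynomial.aeval fun o => if o = some i then 0 else (MvPolynomial.X o : P)).restrictScalars A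
    show φ G = 0
    rw [valF_compat, map_sum]
    have hup : ∀ w : K ⊗[A] B, φ.toLinearMap.rTensor B (up w) = up w := fun w => by
      induction w using TensorProduct.induction_on with
      | zero => simp
      | tmul k b =>
        show φ (algebraMap K P k) ⊗ₜ[A] b = algebraMap K P k ⊗ₜ[A] b
        exact congrArg (· ⊗ₜ[A] b) ((MvPolynomial.aeval fun o => if o = some i then 0 else (MvPolynomial.X o : P)).commutes k)
      | add w w' h h' => rw [map_add, map_add, h, h']
    simp only [rTensor_smul, hup]
    have hzero : valF F P (up (1 - z i)) = 0 := by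
      rw [← rTensor_eq_map, ← valF_compat, hv i, map_zero]
    have hmem : ∀ o, o ≠ some i → up (zz o) * up (1 - z i) - up (zz o) ∈ mapKer F P := fun o ho => by
      rw [← map_mul, ← map_sub, ← mapKer_map F (IsScalarTower.toAlgHom A K P)]
      refine Ideal.mem_map_of_mem _ ((toImage_eq_zero F).1 ?_)
      rw [map_sub, map_mul, map_sub, map_one, hz]
      cases o with
      | none =>
        simp only [zz, Option.elim_none, z0, map_sub, map_one, map_sum, hz]
        have hs : (∑ j, E j) * E i = E i := by
          rw [Finset.sum_mul, Finset.sum_eq_single i]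
          · exact hidem i
          · intro j _ hj
            linear_combination (-1 : K ⊗[A] PolLaw.image F.law) * horth i j hj
          · simp
        linear_combination hs
      | some j =>
        simp only [zz, Option.elim_some, hz]
        rw [horth i j fun h => ho (congrArg some h), sub_self]
    refine Eq.trans (valF_congr F (y := (∑ o, φ (MvPolynomial.X o) • up (zz o)) * up (1 - z i)) ?_) ?_
    · rw [← neg_sub, neg_mem_iff, Finset.sum_mul, ← Finset.sum_sub_distrib]
      refine Ideal.sum_mem _ fun o _ => ?_
      rw [smul_mul_assoc, ← smul_sub]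
      by_cases ho : o = some i
      · have h0' : φ (MvPolynomial.X o) = 0 := by
          show MvPolynomial.aeval _ _ = 0
          rw [MvPolynomial.aeval_X, if_pos ho]
        rw [h0', zero_smul]
        exact Ideal.zero_mem _
      · exact Submodule.smul_of_tower_mem _ _ (hmem o ho)
    · rw [valF_mul, hzero, mul_zero]
  have hhom : G.IsHomogeneous d := by
    choose m c x hcx using fun o => exists_sum_tmul (zz o)
    have : G = valF F P (∑ l : (Σ o, Fin (m o)),
        (MvPolynomial.X l.1 * MvPolynomial.C (c l.1 l.2) : P) ⊗ₜ[A] x l.1 l.2) := by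
      refine congrArg (valF F P) ?_
      rw [Fintype.sum_sigma]
      refine Finset.sum_congr rfl fun o _ => ?_
      rw [hcx, map_sum, Finset.smul_sum]
      refine Finset.sum_congr rfl fun l _ => ?_
      simp [up, TensorProduct.smul_tmul']
      rfl
    rw [this, valF_sum]
    refine MvPolynomial.IsHomogeneous.sum _ _ _ fun k hk => ?_
    rw [Algebra.smul_def, IsScalarTower.algebraMap_apply A K P, MvPolynomial.algebraMap_eq]
    have hmon : (mon (fun l : (Σ o, Fin (m o)) => (MvPolynomial.X l.1 * MvPolynomial.C (c l.1 l.2) : P)) k).IsHomogeneous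
        (∑ l, k l) := by
      refine MvPolynomial.IsHomogeneous.prod _ _ _ fun l _ => ?_
      have := ((MvPolynomial.isHomogeneous_X K l.1).mul (MvPolynomial.isHomogeneous_C _ (c l.1 l.2))).pow (k l)
      simpa using this
    rw [mem_cset.1 hk] at hmon
    have := (MvPolynomial.isHomogeneous_C (σ := Option (Fin (d + 1))) (algebraMap A K (coef F.law (fun l : (Σ o, Fin (m o)) => x l.1 l.2) k))).mul hmon
    rwa [zero_add] at this
  have hG : G = 0 := by
    refine MvPolynomial.ext _ _ fun k => ?_
    rw [MvPolynomial.coeff_zero]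
    by_contra hk
    have hdeg := hhom hk
    have hall : ∀ i, k (some i) ≠ 0 := fun i hki => hk (by
      have h := congrArg (MvPolynomial.coeff k) (hG0 i)
      rw [MvPolynomial.coeff_zero, G.as_sum, map_sum, MvPolynomial.coeff_sum, Finset.sum_eq_single k] at h
      · rw [MvPolynomial.aeval_monomial, MvPolynomial.algebraMap_eq] at h
        rw [show (k.prod fun o e => (if o = some i then 0 else (MvPolynomial.X o : P)) ^ e) =
          k.prod fun o e => (MvPolynomial.X o : P) ^ e from Finset.prod_congr rfl fun o ho => by
            have : o ≠ some i := fun h' => (Finsupp.mem_support_iff.1 ho) (h' ▸ hki)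
            simp [this], ← MvPolynomial.monomial_eq] at h
        simpa using h
      · intro l hl hne
        by_cases hli : l (some i) = 0
        · rw [MvPolynomial.aeval_monomial, MvPolynomial.algebraMap_eq,
            show (l.prod fun o e => (if o = some i then 0 else (MvPolynomial.X o : P)) ^ e) =
              l.prod fun o e => (MvPolynomial.X o : P) ^ e from Finset.prod_congr rfl fun o ho => by
              have : o ≠ some i := fun h' => (Finsupp.mem_support_iff.1 ho) (h' ▸ hli)
              simp [this], ← MvPolynomial.monomial_eq, MvPolynomial.coeff_monomial, if_neg hne]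
        · rw [MvPolynomial.aeval_monomial, Finsupp.prod,
            Finset.prod_eq_zero (Finsupp.mem_support_iff.2 hli) (by simp [zero_pow hli]), mul_zero,
            MvPolynomial.coeff_zero]
      · intro hns
        simp [MvPolynomial.notMem_support_iff.1 hns])
    have h1 : ∑ o, k o = d := by
      refine Eq.trans ?_ hdeg
      rw [Finsupp.weight_apply, Finsupp.sum_fintype _ _ (by simp)]
      simp
    rw [Fintype.sum_option] at h1
    have h2 : d + 1 ≤ ∑ i, k (some i) := by
      calc d + 1 = ∑ _i : Fin (d + 1), 1 := by simp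
        _ ≤ _ := Finset.sum_le_sum fun i _ => Nat.one_le_iff_ne_zero.2 (hall i)
    omega
  have := hev fun _ => 1
  rw [hG, map_zero, Fintype.sum_option] at this
  simp only [one_smul, zz, Option.elim_none, Option.elim_some, z0, sub_add_cancel, valF_one] at this
  exact one_ne_zero this.symm

theorem finite_primes (K : Type u) [Field K] [Algebra A K] :
    Finite (PrimeSpectrum (K ⊗[A] PolLaw.image F.law)) ∧ Nat.card (PrimeSpectrum (K ⊗[A] PolLaw.image F.law)) ≤ d := by
  have hfin : Finite (PrimeSpectrum (K ⊗[A] PolLaw.image F.law)) := by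
    by_contra h
    rw [not_finite_iff_infinite] at h
    exact not_injective_primes F K _ ((Infinite.natEmbedding _).injective.comp Fin.val_injective)
  refine ⟨hfin, ?_⟩
  by_contra h
  haveI := Fintype.ofFinite (PrimeSpectrum (K ⊗[A] PolLaw.image F.law))
  rw [Nat.card_eq_fintype_card, not_le] at h
  exact not_injective_primes F K _
    ((Fintype.equivFin _).symm.injective.comp (Fin.castLE_injective h))

end Groth.Agent.GammaLib
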