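import Groth.Agent.GammaLib.CH3
import Mathlib.RingTheory.Localization.FractionRing
import Mathlib.RingTheory.Spectrum.Prime.Topology

/-!
# Going down and openness for the image of a law
-/

set_option autoImplicit false
set_option linter.style.haveILetI false

universe u

open scoped TensorProduct

namespace Groth.Agent.GammaLib

variable {A : Type u} [CommRing A] {B : Type u} [CommRing B] [Algebra A B] {d : ℕ} (F : PolLaw.MulLaw A B A d)

/-- base change of the base-changed image -/
noncomputable abbrev chImage {S S' : Type u} [CommRing S] [Algebra A S] [CommRing S'] [Algebra A S'] (φ : S →ₐ[A] S') :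
    S ⊗[A] PolLaw.image F.law →ₐ[A] S' ⊗[A] PolLaw.image F.law :=
  Algebra.TensorProduct.map φ (AlgHom.id A _)

theorem toImage_chImage {S S' : Type u} [CommRing S] [Algebra A S] [CommRing S'] [Algebra A S'] (φ : S →ₐ[A] S')
    (z : S ⊗[A] B) : chImage F φ (toImage F S z) = toImage F S' (φ.toLinearMap.rTensor B z) := by
  induction z using TensorProduct.induction_on with
  | zero => simp
  | tmul a b => simp
  | add a b ha hb => simp only [map_add, ha, hb]

theorem chImage_algebraMap {S S' : Type u} [CommRing S] [Algebra A S] [CommRing S'] [Algebra A S'] (φ : S →ₐ[A] S')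
    (s : S) : chImage F φ (algebraMap S _ s) = algebraMap S' _ (φ s) := by simp [chImage]

theorem isNilpotent_of_chiPoly {S : Type u} [CommRing S] [Algebra A S] {z : S ⊗[A] B}
    (hz : chiPoly F S z = (-Polynomial.X) ^ d) : IsNilpotent (toImage F S z) :=
  ⟨d, by rw [← map_pow]; exact (toImage_eq_zero F).2 (pow_mem_of_chiPoly F hz)⟩

theorem chiPoly_of_isNilpotent {K : Type u} [CommRing K] [IsDomain K] [Algebra A K] {z : K ⊗[A] B}
    (hz : IsNilpotent (toImage F K z)) : chiPoly F K z = (-Polynomial.X) ^ d := by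
  obtain ⟨N, hN⟩ := hz
  exact chiPoly_of_pow_mem F (N := N) ((toImage_eq_zero F).1 (by rw [map_pow, hN]))

/-- Over a domain every prime generizes to one over the generic point. -/
theorem exists_generization (R : Type u) [CommRing R] [IsDomain R] [Algebra A R]
    (Q : Ideal (R ⊗[A] PolLaw.image F.law)) [Q.IsPrime] :
    ∃ P : Ideal (R ⊗[A] PolLaw.image F.law), P.IsPrime ∧ P ≤ Q ∧ P.comap (algebraMap R _) = ⊥ := by
  classical
  let K := FractionRing R
  let ι : R →ₐ[A] K := IsScalarTower.toAlgHom A R K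
  have hι : Function.Injective ι := IsFractionRing.injective R K
  obtain ⟨hfin, -⟩ := finite_primes F K
  by_contra hno
  push Not at hno
  have hP : ∀ p : PrimeSpectrum (K ⊗[A] PolLaw.image F.law), ∃ r, r ∈ p.asIdeal.comap (chImage F ι) ∧ r ∉ Q := by
    intro p
    haveI : (p.asIdeal.comap (chImage F ι)).IsPrime := Ideal.comap_isPrime _ _
    refine Set.not_subset.1 fun hle => hno _ inferInstance hle ?_
    refine le_bot_iff.1 fun s hs => ?_
    rw [Ideal.mem_comap, Ideal.mem_comap, chImage_algebraMap] at hs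
    by_contra hs0
    exact p.isPrime.ne_top (Ideal.eq_top_of_isUnit_mem _ hs
      ((isUnit_iff_ne_zero.2 ((map_ne_zero_iff ι hι).2 fun e => hs0 (by rw [e]; exact Ideal.zero_mem _))).map (algebraMap K _)))
  choose r hr hrQ using hP
  haveI := Fintype.ofFinite (PrimeSpectrum (K ⊗[A] PolLaw.image F.law))
  obtain ⟨z, hz⟩ := toImage_surjective F R (∏ p, r p)
  have hQ : ∏ p, r p ∉ Q := fun h => by
    obtain ⟨p, -, hp⟩ := Ideal.IsPrime.prod_mem_iff.1 h
    exact hrQ p hp
  have hnil : IsNilpotent (toImage F K (ι.toLinearMap.rTensor B z)) := by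
    rw [← toImage_chImage, hz, ← mem_nilradical, nilradical_eq_sInf, Submodule.mem_sInf]
    intro p hp
    rw [map_prod]
    exact Ideal.prod_mem (hi := Finset.mem_univ ⟨p, hp⟩) (hfi := Ideal.mem_comap.1 (hr ⟨p, hp⟩))
  have hchi := chiPoly_of_isNilpotent F hnil
  rw [← chiPoly_compat] at hchi
  have hchi' : chiPoly F R z = (-Polynomial.X) ^ d :=
    Polynomial.map_injective ι.toRingHom hι (hchi.trans (by simp))
  obtain ⟨N, hN⟩ := isNilpotent_of_chiPoly F hchi'
  exact hQ (hz ▸ (inferInstance : Q.IsPrime).mem_of_pow_mem N (hN ▸ Ideal.zero_mem _))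

/-- going down for the base change of the image -/
theorem exists_le_comap_eq (A' : Type u) [CommRing A'] [Algebra A A'] (Q : Ideal (A' ⊗[A] PolLaw.image F.law))
    [Q.IsPrime] (q : Ideal A') [q.IsPrime] (hq : q ≤ Q.comap (algebraMap A' _)) :
    ∃ P : Ideal (A' ⊗[A] PolLaw.image F.law), P.IsPrime ∧ P ≤ Q ∧ P.comap (algebraMap A' _) = q := by
  let R := A' ⧸ q
  let π : A' →ₐ[A] R := Ideal.Quotient.mkₐ A q
  let h := chImage F π
  have hsurj : Function.Surjective h := Algebra.TensorProduct.map_surjective _ _ (Ideal.Quotient.mkₐ_surjective A q) (fun x => ⟨x, rfl⟩)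
  have hker : RingHom.ker h ≤ Q := by
    rw [Algebra.TensorProduct.rTensor_ker _ (Ideal.Quotient.mkₐ_surjective A q), Ideal.map_le_iff_le_comap]
    intro s hs
    exact hq (Ideal.Quotient.eq_zero_iff_mem.1 (RingHom.mem_ker.1 hs))
  haveI : (Q.map h).IsPrime := Ideal.map_isPrime_of_surjective hsurj hker
  obtain ⟨P, hP, hle, hbot⟩ := exists_generization F R (Q.map h)
  refine ⟨P.comap h, Ideal.comap_isPrime _ _, ?_, ?_⟩
  · refine (Ideal.comap_mono hle).trans ?_
    rw [Ideal.comap_map_of_surjective _ hsurj, ← RingHom.ker_eq_comap_bot]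
    exact sup_le le_rfl hker
  · ext s
    rw [Ideal.mem_comap, Ideal.mem_comap, chImage_algebraMap, ← Ideal.mem_comap, hbot, Ideal.mem_bot]
    exact Ideal.Quotient.eq_zero_iff_mem

theorem generalizingMap_baseChange (A' : Type u) [CommRing A'] [Algebra A A'] :
    GeneralizingMap (PrimeSpectrum.comap (algebraMap A' (A' ⊗[A] PolLaw.image F.law))) := by
  intro Q q hq
  obtain ⟨P, hP, hle, hPq⟩ := exists_le_comap_eq F A' Q.asIdeal q.asIdeal
    ((PrimeSpectrum.le_iff_specializes _ _).2 hq)
  exact ⟨⟨P, hP⟩, (PrimeSpectrum.le_iff_specializes _ _).1 hle, PrimeSpectrum.ext hPq⟩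

theorem isOpenMap_baseChange (A' : Type u) [CommRing A'] [Algebra A A'] :
    IsOpenMap (PrimeSpectrum.comap (algebraMap A' (A' ⊗[A] PolLaw.image F.law))) := by
  rw [PrimeSpectrum.isTopologicalBasis_basic_opens.isOpenMap_iff]
  rintro _ ⟨r, rfl⟩
  obtain ⟨z, rfl⟩ := toImage_surjective F A' r
  let δ : Polynomial A' := chiPoly F A' z - (-Polynomial.X) ^ d
  have hmem : ∀ q : PrimeSpectrum A', q ∈ PrimeSpectrum.comap (algebraMap A' (A' ⊗[A] PolLaw.image F.law)) ''
      ↑(PrimeSpectrum.basicOpen (toImage F A' z)) ↔ ∃ i, δ.coeff i ∉ q.asIdeal := by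
    intro q
    let R := A' ⧸ q.asIdeal
    let π : A' →ₐ[A] R := Ideal.Quotient.mkₐ A q.asIdeal
    have hsurj : Function.Surjective (chImage F π) :=
      Algebra.TensorProduct.map_surjective _ _ (Ideal.Quotient.mkₐ_surjective A q.asIdeal) (fun x => ⟨x, rfl⟩)
    have hδ : (∀ i, δ.coeff i ∈ q.asIdeal) ↔ chiPoly F R (π.toLinearMap.rTensor B z) = (-Polynomial.X) ^ d := by
      rw [← chiPoly_compat, ← sub_eq_zero]
      have : (chiPoly F A' z).map π.toRingHom - (-Polynomial.X) ^ d = δ.map π.toRingHom := by simp [δ]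
      rw [this, Polynomial.ext_iff]
      refine forall_congr' fun i => ?_
      rw [Polynomial.coeff_map, Polynomial.coeff_zero]
      exact Ideal.Quotient.eq_zero_iff_mem.symm
    constructor
    · rintro ⟨Q, hQ, rfl⟩
      by_contra hall
      push Not at hall
      have hnil := isNilpotent_of_chiPoly F (hδ.1 hall)
      rw [← toImage_chImage] at hnil
      obtain ⟨N, hN⟩ := hnil
      rw [← map_pow] at hN
      have hk : RingHom.ker (chImage F π) ≤ Q.asIdeal := by
        rw [Algebra.TensorProduct.rTensor_ker _ (Ideal.Quotient.mkₐ_surjective A _), Ideal.map_le_iff_le_comap]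
        intro s hs
        exact (Ideal.Quotient.eq_zero_iff_mem.1 (RingHom.mem_ker.1 hs) :)
      exact hQ (Q.isPrime.mem_of_pow_mem N (hk (RingHom.mem_ker.2 hN)))
    · intro hex
      let K := FractionRing R
      let ι : R →ₐ[A] K := IsScalarTower.toAlgHom A R K
      have hn : ¬ IsNilpotent (toImage F K (ι.toLinearMap.rTensor B (π.toLinearMap.rTensor B z))) := fun hn => by
        obtain ⟨i, hi⟩ := hex
        have := chiPoly_of_isNilpotent F hn
        rw [← chiPoly_compat] at this
        exact hi (hδ.2 (Polynomial.map_injective ι.toRingHom (IsFractionRing.injective R K) (this.trans (by simp))) i)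
      rw [← mem_nilradical, nilradical_eq_sInf, Submodule.mem_sInf] at hn
      push Not at hn
      obtain ⟨P, hP, hzP⟩ := hn
      haveI : Ideal.IsPrime P := hP
      rw [← toImage_chImage, ← toImage_chImage] at hzP
      let P' : Ideal (A' ⊗[A] PolLaw.image F.law) :=
        Ideal.comap (chImage F π) (Ideal.comap (chImage F ι) P)
      refine ⟨⟨P', Ideal.comap_isPrime _ _⟩, hzP, PrimeSpectrum.ext ?_⟩
      ext s
      show s ∈ P'.comap (algebraMap A' _) ↔ _
      rw [Ideal.mem_comap, Ideal.mem_comap, Ideal.mem_comap, chImage_algebraMap, chImage_algebraMap]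
      refine ⟨fun h => ?_, fun h => ?_⟩
      · by_contra hs
        exact hP.ne_top (Ideal.eq_top_of_isUnit_mem _ h ((isUnit_iff_ne_zero.2
          ((map_ne_zero_iff ι (IsFractionRing.injective R K)).2 fun e => hs (Ideal.Quotient.eq_zero_iff_mem.1 e))).map
            (algebraMap K _)))
      · rw [show π s = 0 from Ideal.Quotient.eq_zero_iff_mem.2 h, map_zero, map_zero]
        exact P.zero_mem
  have : PrimeSpectrum.comap (algebraMap A' (A' ⊗[A] PolLaw.image F.law)) ''
      ↑(PrimeSpectrum.basicOpen (toImage F A' z)) = ⋃ i, (↑(PrimeSpectrum.basicOpen (δ.coeff i)) : Set (PrimeSpectrum A')) := by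
    ext q
    rw [hmem, Set.mem_iUnion]
    rfl
  rw [this]
  exact isOpen_iUnion fun i => PrimeSpectrum.isOpen_basicOpen

end Groth.Agent.GammaLib
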