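import Groth.Agent.GammaLib.Sym

/-!
# Symmetric tensors of a free algebra are its divided powers
-/

set_option autoImplicit false

universe u

open scoped TensorProduct

namespace Groth.Agent.GammaLib

variable {A : Type u} [CommRing A] {d : ℕ}

theorem rTensor_lTensor {N N' : Type u} [AddCommMonoid N] [Module A N] [AddCommMonoid N'] [Module A N']
    {S S' : Type u} [CommSemiring S] [Algebra A S] [CommSemiring S'] [Algebra A S']
    (φ : S →ₐ[A] S') (g : N →ₗ[A] N') (z : S ⊗[A] N) :
    φ.toLinearMap.rTensor N' (g.lTensor S z) = g.lTensor S' (φ.toLinearMap.rTensor N z) := by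
  rw [← LinearMap.comp_apply, LinearMap.rTensor_comp_lTensor, ← LinearMap.lTensor_comp_rTensor,
    LinearMap.comp_apply]

section Algebra

variable {P : Type u} [CommRing P] [Algebra A P] {ι : Type u} (b : Module.Basis ι A P)

/-- the retraction onto the subalgebra of symmetric tensors -/
noncomputable def rTS : (⨂[A] _ : Fin d, P) →ₗ[A] SymTen.TS A P d where
  toFun t := ⟨rT b t, isSymm_rT b t⟩
  map_add' s t := Subtype.ext (map_add _ s t)
  map_smul' r t := Subtype.ext (map_smul _ r t)

theorem rTS_val (t : SymTen.TS A P d) : rTS b t.1 = t := Subtype.ext (rT_of_isSymm b t.2)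

theorem val_comp_rTS : (SymTen.TS A P d).val.toLinearMap ∘ₗ rTS b = rT b := rfl

include b in
theorem lTensor_val_injective (S : Type u) [CommSemiring S] [Algebra A S] :
    Function.Injective ((SymTen.TS A P d).val.toLinearMap.lTensor S) := by
  refine Function.LeftInverse.injective (g := (rTS b).lTensor S) fun z => ?_
  rw [← LinearMap.comp_apply, ← LinearMap.lTensor_comp,
    show rTS b ∘ₗ (SymTen.TS A P d).val.toLinearMap = LinearMap.id from LinearMap.ext (rTS_val b),
    LinearMap.lTensor_id, LinearMap.id_apply]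

theorem reindex_tpow {B : Type u} [CommRing B] [Algebra A B] {S : Type u} [CommSemiring S] [Algebra A S]
    (σ : Equiv.Perm (Fin d)) (x : S ⊗[A] B) :
    (PiTensorProduct.reindex A (fun _ : Fin d => B) σ).toLinearMap.lTensor S ((SymTen.tpowLaw A B d).law.toFun' S x) =
      (SymTen.tpowLaw A B d).law.toFun' S x := by
  obtain ⟨n, s, y, rfl⟩ := exists_sum_tmul x
  simp only [tpow_sum, map_sum, LinearMap.lTensor_tmul, LinearEquiv.coe_coe, reindex_osum]

/-- the value of the diagonal law in symmetric tensors -/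
noncomputable def tFun (S : Type u) [CommSemiring S] [Algebra A S] (x : S ⊗[A] P) : S ⊗[A] SymTen.TS A P d :=
  (rTS b).lTensor S ((SymTen.tpowLaw A P d).law.toFun' S x)

theorem val_tFun (S : Type u) [CommSemiring S] [Algebra A S] (x : S ⊗[A] P) :
    (SymTen.TS A P d).val.toLinearMap.lTensor S (tFun b S x) = (SymTen.tpowLaw A P d).law.toFun' S x := by
  rw [tFun, ← LinearMap.comp_apply, ← LinearMap.lTensor_comp, val_comp_rTS]
  exact rT_lTensor_of_fixed b _ fun σ => reindex_tpow σ x

/-- the diagonal law with values in symmetric tensors -/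
noncomputable def tLaw : PolLaw.MulLaw A P (SymTen.TS A P d) d where
  law :=
  { toFun' := fun S _ _ => tFun b S
    isCompat' := fun {S} _ _ {S'} _ _ φ => funext fun x => by
      show φ.toLinearMap.rTensor _ (tFun b S x) = tFun b S' (φ.toLinearMap.rTensor P x)
      rw [tFun, rTensor_lTensor, law_compat]
      rfl }
  homog S _ _ s x := lTensor_val_injective b S (by
    show (SymTen.TS A P d).val.toLinearMap.lTensor S (tFun b S (s • x)) =
      (SymTen.TS A P d).val.toLinearMap.lTensor S (s ^ d • tFun b S x)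
    rw [val_tFun, (SymTen.tpowLaw A P d).homog S s x, ← val_tFun b S x, PolLaw.lTensor_algHom_apply,
      PolLaw.lTensor_algHom_apply, map_smul])
  mult S _ _ := by
    refine ⟨lTensor_val_injective b S ?_, fun x y => lTensor_val_injective b S ?_⟩
    · show (SymTen.TS A P d).val.toLinearMap.lTensor S (tFun b S 1) = _
      rw [val_tFun, ((SymTen.tpowLaw A P d).mult S).1, PolLaw.lTensor_algHom_apply, map_one]
    · show (SymTen.TS A P d).val.toLinearMap.lTensor S (tFun b S (x * y)) =
        (SymTen.TS A P d).val.toLinearMap.lTensor S (tFun b S x * tFun b S y)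
      rw [val_tFun, ((SymTen.tpowLaw A P d).mult S).2, ← val_tFun b S x, ← val_tFun b S y,
        PolLaw.lTensor_algHom_apply, PolLaw.lTensor_algHom_apply, PolLaw.lTensor_algHom_apply, map_mul]

theorem postcomp_val_tLaw : PolLaw.MulLaw.postcomp (SymTen.TS A P d).val (tLaw (d := d) b) = SymTen.tpowLaw A P d :=
  PolLaw.MulLaw.ext (PolynomialLaw.ext (funext fun S => funext fun _ => funext fun _ => funext fun x =>
    val_tFun b S x))

/-- symmetric sums as symmetric tensors -/
noncomputable def oTS {κ : Type} [Fintype κ] (x : κ → P) (k : κ →₀ ℕ) : SymTen.TS A P d :=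
  ⟨osum x k, fun σ => reindex_osum σ x k⟩

theorem coef_tLaw {κ : Type} [Fintype κ] (x : κ → P) {k : κ →₀ ℕ} (hk : ∑ i, k i = d) :
    coef (tLaw (d := d) b).law x k = oTS (d := d) x k := by
  refine Subtype.ext ?_
  have h := coef_postcomp (SymTen.TS A P d).val.toLinearMap (tLaw (d := d) b).law x k
  rw [show PolLaw.postcomp (SymTen.TS A P d).val.toLinearMap (tLaw (d := d) b).law = (SymTen.tpowLaw A P d).law from
    congrArg PolLaw.MulLaw.law (postcomp_val_tLaw b), coef_tpow x hk] at h
  exact h.symm

include b in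
theorem exists_basis_sum {S : Type u} [CommSemiring S] [Algebra A S] (x : S ⊗[A] P) :
    ∃ (r : ℕ) (e : Fin r → ι) (s : Fin r → S), Function.Injective e ∧ x = ∑ i, s i ⊗ₜ[A] b (e i) := by
  classical
  let c := (Algebra.TensorProduct.basis S b).repr x
  refine ⟨c.support.card, fun i => (c.support.equivFin.symm i : ι),
    fun i => c (c.support.equivFin.symm i : ι), Subtype.val_injective.comp c.support.equivFin.symm.injective, ?_⟩
  rw [Equiv.sum_comp c.support.equivFin.symm (fun i : c.support => c (i : ι) ⊗ₜ[A] b (i : ι)),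
    Finset.sum_coe_sort c.support fun i => c i ⊗ₜ[A] b i]
  conv_lhs => rw [← (Algebra.TensorProduct.basis S b).linearCombination_repr x]
  rw [Finsupp.linearCombination_apply, Finsupp.sum]
  refine Finset.sum_congr rfl fun i _ => ?_
  rw [Algebra.TensorProduct.basis_apply, TensorProduct.smul_tmul', smul_eq_mul, mul_one]

section chi

variable {C : Type u} [AddCommGroup C] [Module A C] (G : P →ₚₗ[A] C)

/-- the coefficient attached to a tuple of basis vectors -/
noncomputable def coefF (f : Fin d → ι) : C :=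
  coef G (fun i => b ((exists_enum f).choose_spec.choose i)) (cnt (exists_enum f).choose_spec.choose_spec.choose)

theorem coef_enum_eq {κ κ' : Type} [Fintype κ] [Fintype κ'] (e : κ → ι) (he : Function.Injective e)
    (e' : κ' → ι) (he' : Function.Injective e') (f : Fin d → κ) (f' : Fin d → κ')
    {σ : Equiv.Perm (Fin d)} (h : e ∘ f = (e' ∘ f') ∘ σ) :
    coef G (fun i => b (e i)) (cnt f) = coef G (fun i => b (e' i)) (cnt f') := by
  classical
  let U := Finset.univ.image e ∪ Finset.univ.image e'
  let E : Fin U.card → ι := fun i => (U.equivFin.symm i : ι)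
  have hE : Function.Injective E := Subtype.val_injective.comp U.equivFin.symm.injective
  let j : κ → Fin U.card := fun i =>
    U.equivFin ⟨e i, Finset.mem_union_left _ (Finset.mem_image.2 ⟨i, Finset.mem_univ i, rfl⟩)⟩
  let j' : κ' → Fin U.card := fun i =>
    U.equivFin ⟨e' i, Finset.mem_union_right _ (Finset.mem_image.2 ⟨i, Finset.mem_univ i, rfl⟩)⟩
  have hj : ∀ i, E (j i) = e i := fun i => by simp [E, j]
  have hj' : ∀ i, E (j' i) = e' i := fun i => by simp [E, j']
  have hji : Function.Injective j := fun a c hac => he (by rw [← hj, ← hj, hac])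
  have hji' : Function.Injective j' := fun a c hac => he' (by rw [← hj', ← hj', hac])
  rw [show (fun i => b (e i)) = fun i => b (E (j i)) from funext fun i => by rw [hj],
    show (fun i => b (e' i)) = fun i => b (E (j' i)) from funext fun i => by rw [hj'],
    coef_comp G (fun m => b (E m)) j hji, coef_comp G (fun m => b (E m)) j' hji']
  congr 1
  rw [cnt, cnt, Finsupp.mapDomain_finsetSum, Finsupp.mapDomain_finsetSum]
  simp only [Finsupp.mapDomain_single]
  rw [← Equiv.sum_comp σ fun a => Finsupp.single (j' (f' a)) 1]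
  refine Finset.sum_congr rfl fun a _ => ?_
  congr 1
  refine hE ?_
  rw [hj, hj']
  exact congrFun h a

open scoped Classical in
/-- the linear map on symmetric tensors attached to a law -/
noncomputable def chi : SymTen.TS A P d →ₗ[A] C :=
  ((bT b).constr A fun f => if rep f = f then coefF b G f else 0) ∘ₗ (SymTen.TS A P d).val.toLinearMap

theorem chi_oTS {κ : Type} [Fintype κ] (e : κ → ι) (he : Function.Injective e) (f₀ : Fin d → κ) :
    chi (d := d) b G (oTS (d := d) (fun i => b (e i)) (cnt f₀)) = coef G (fun i => b (e i)) (cnt f₀) := by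
  classical
  rw [chi, LinearMap.comp_apply, show (SymTen.TS A P d).val.toLinearMap (oTS (d := d) (fun i => b (e i)) (cnt f₀)) =
    orb b (e ∘ f₀) from (orb_eq_osum b e he f₀).symm, orb, map_sum,
    Finset.sum_eq_single (rep (e ∘ f₀)) (fun g hg hne => ?_) fun hn => ?_]
  · rw [Module.Basis.constr_basis, if_pos]
    · obtain ⟨σ, hσ⟩ := rep_spec (e ∘ f₀)
      have hspec := (exists_enum (rep (e ∘ f₀))).choose_spec.choose_spec.choose_spec
      refine coef_enum_eq b G _ hspec.1 e he _ f₀ (σ := σ.symm) ?_
      rw [← hspec.2]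
      conv_rhs => rw [hσ]
      funext a
      simp
    · obtain ⟨σ, hσ⟩ := rep_spec (e ∘ f₀)
      have h := rep_comp (rep (e ∘ f₀)) σ
      rw [← hσ] at h
      exact h.symm
  · rw [Module.Basis.constr_basis, if_neg]
    intro h
    obtain ⟨σ, hσ⟩ := mem_orbit.1 hg
    exact hne (by rw [← h, hσ, rep_comp])
  · refine absurd (mem_orbit.2 ?_) hn
    obtain ⟨σ, hσ⟩ := rep_spec (e ∘ f₀)
    refine ⟨σ.symm, ?_⟩
    conv_rhs => rw [hσ]
    funext a
    simp

theorem TS_eq_top_of_oTS (W : Submodule A (SymTen.TS A P d))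
    (h : ∀ (r : ℕ) (e : Fin r → ι), Function.Injective e → ∀ f₀ : Fin d → Fin r,
      oTS (d := d) (fun i => b (e i)) (cnt f₀) ∈ W) : W = ⊤ := by
  classical
  refine eq_top_iff.2 fun t _ => ?_
  rw [← rTS_val b t]
  have hspan : ∀ z ∈ Submodule.span A (Set.range (bT (d := d) b)), rTS b z ∈ W := fun z hz => by
    induction hz using Submodule.span_induction with
    | mem z hz =>
      obtain ⟨f, rfl⟩ := hz
      by_cases hf : rep f = f
      · obtain ⟨r, e, f₀, he, rfl⟩ := exists_enum f
        convert h r e he f₀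
        exact Subtype.ext (by
          show rT b (bT b (e ∘ f₀)) = osum (fun i => b (e i)) (cnt f₀)
          rw [rT, Module.Basis.constr_basis, if_pos hf, orb_eq_osum b e he f₀])
      · convert W.zero_mem
        exact Subtype.ext (by
          show rT b (bT b f) = 0
          rw [rT, Module.Basis.constr_basis, if_neg hf])
    | zero => rw [map_zero]; exact W.zero_mem
    | add x y _ _ hx hy => rw [map_add]; exact W.add_mem hx hy
    | smul a x _ hx => rw [map_smul]; exact W.smul_mem a hx
  exact hspan _ ((bT b).span_eq ▸ Submodule.mem_top)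

theorem chi_tLaw (hG : PolLaw.IsHomog G d) (S : Type u) [CommSemiring S] [Algebra A S] (x : S ⊗[A] P) :
    (chi (d := d) b G).lTensor S ((tLaw (d := d) b).law.toFun' S x) = G.toFun' S x := by
  obtain ⟨r, e, s, he, rfl⟩ := exists_basis_sum b x
  rw [law_sum_cset (tLaw (d := d) b).homog, law_sum_cset hG, map_sum]
  refine Finset.sum_congr rfl fun k hk => ?_
  obtain ⟨f₀, rfl⟩ := exists_cnt (mem_cset.1 hk)
  rw [LinearMap.lTensor_tmul, coef_tLaw b _ (sum_cnt f₀), chi_oTS b G e he]

theorem chi_unique (hG : PolLaw.IsHomog G d) (f : SymTen.TS A P d →ₗ[A] C)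
    (hf : PolLaw.postcomp f (tLaw (d := d) b).law = G) : f = chi (d := d) b G := by
  refine LinearMap.ext fun t => ?_
  have h := TS_eq_top_of_oTS b (LinearMap.eqLocus f (chi (d := d) b G)) fun r e he f₀ => by
    show f _ = chi (d := d) b G _
    rw [chi_oTS b G e he, ← hf, coef_postcomp, coef_tLaw b _ (sum_cnt f₀)]
  exact (h ▸ Submodule.mem_top : t ∈ LinearMap.eqLocus f (chi (d := d) b G))

end chi

section chiAlg

variable {C : Type u} [CommRing C] [Algebra A C] (G : PolLaw.MulLaw A P C d)

theorem chi_one : chi (d := d) b G.law (1 : SymTen.TS A P d) = 1 := by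
  have h := chi_tLaw b G.law G.homog A 1
  rw [((tLaw (d := d) b).mult A).1, (G.mult A).1] at h
  rw [Algebra.TensorProduct.one_def, LinearMap.lTensor_tmul, Algebra.TensorProduct.one_def] at h
  simpa using congrArg (TensorProduct.lid A C) h

theorem chi_mul_oTS {r r' : ℕ} (e : Fin r → ι) (he : Function.Injective e) (e' : Fin r' → ι)
    (he' : Function.Injective e') (f₀ : Fin d → Fin r) (f₁ : Fin d → Fin r') :
    chi (d := d) b G.law (oTS (d := d) (fun i => b (e i)) (cnt f₀) * oTS (d := d) (fun i => b (e' i)) (cnt f₁)) =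
      chi (d := d) b G.law (oTS (d := d) (fun i => b (e i)) (cnt f₀)) * chi (d := d) b G.law (oTS (d := d) (fun i => b (e' i)) (cnt f₁)) := by
  classical
  let X : Fin r → MvPolynomial (Fin r ⊕ Fin r') A := fun i => MvPolynomial.X (Sum.inl i)
  let Y : Fin r' → MvPolynomial (Fin r ⊕ Fin r') A := fun i => MvPolynomial.X (Sum.inr i)
  have h := chi_tLaw b G.law G.homog _ ((∑ i, X i ⊗ₜ[A] b (e i)) * ∑ j, Y j ⊗ₜ[A] b (e' j))
  rw [((tLaw (d := d) b).mult _).2, (G.mult _).2, ← chi_tLaw b G.law G.homog _ (∑ i, X i ⊗ₜ[A] b (e i)),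
    ← chi_tLaw b G.law G.homog _ (∑ j, Y j ⊗ₜ[A] b (e' j)), law_sum_cset (tLaw (d := d) b).homog,
    law_sum_cset (tLaw (d := d) b).homog] at h
  simp only [map_sum, Finset.sum_mul, Finset.mul_sum, LinearMap.lTensor_tmul,
    Algebra.TensorProduct.tmul_mul_tmul] at h
  have e1 : ∀ (k : Fin r →₀ ℕ) (l : Fin r' →₀ ℕ), mon X k * mon Y l =
      MvPolynomial.monomial (k.mapDomain Sum.inl + l.mapDomain Sum.inr) (1 : A) := fun k l => by
    calc mon X k * mon Y l = MvPolynomial.monomial (k.mapDomain Sum.inl) (1 : A) *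
          MvPolynomial.monomial (l.mapDomain Sum.inr) 1 := by
          rw [← MvPolynomial.rename_monomial, ← MvPolynomial.rename_monomial,
            ← mon_X (ι := Fin r) (A := A) k, ← mon_X (ι := Fin r') (A := A) l, map_mon, map_mon]
          simp [X, Y]
      _ = _ := by rw [MvPolynomial.monomial_mul, mul_one]
  have inj : ∀ (k k' : Fin r →₀ ℕ) (l l' : Fin r' →₀ ℕ),
      k.mapDomain Sum.inl + l.mapDomain (Sum.inr : Fin r' → Fin r ⊕ Fin r') =
        k'.mapDomain Sum.inl + l'.mapDomain Sum.inr → k = k' ∧ l = l' := fun k k' l l' h => by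
    constructor <;> ext i
    · simpa [Finsupp.mapDomain_apply Sum.inl_injective,
        Finsupp.mapDomain_of_notMem_range] using DFunLike.congr_fun h (Sum.inl i)
    · simpa [Finsupp.mapDomain_apply Sum.inr_injective,
        Finsupp.mapDomain_of_notMem_range] using DFunLike.congr_fun h (Sum.inr i)
  have key := congrArg (fun z => coords z ((cnt f₀).mapDomain Sum.inl + (cnt f₁).mapDomain Sum.inr)) h
  simp only [e1, coords_finsetSum, Finsupp.finsetSum_apply, coords_tmul, Finsupp.single_apply,
    coef_tLaw b _ (mem_cset.1 ((mem_cset).2 (sum_cnt f₀)))] at key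
  have hsum : ∀ (c : (Fin r →₀ ℕ) → (Fin r' →₀ ℕ) → C),
      (∑ l ∈ cset (Fin r') d, ∑ k ∈ cset (Fin r) d,
        if k.mapDomain Sum.inl + l.mapDomain (Sum.inr : Fin r' → Fin r ⊕ Fin r') =
          (cnt f₀).mapDomain Sum.inl + (cnt f₁).mapDomain Sum.inr then c k l else 0) = c (cnt f₀) (cnt f₁) := by
    intro c
    rw [Finset.sum_eq_single (cnt f₁), Finset.sum_eq_single (cnt f₀), if_pos rfl]
    · exact fun k _ hk => if_neg fun h => hk (inj _ _ _ _ h).1
    · exact fun hn => absurd (mem_cset.2 (sum_cnt f₀)) hn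
    · exact fun l _ hl => Finset.sum_eq_zero fun k _ => if_neg fun h => hl (inj _ _ _ _ h).2
    · exact fun hn => absurd (mem_cset.2 (sum_cnt f₁)) hn
  rw [hsum fun k l => chi (d := d) b G.law (coef (tLaw (d := d) b).law (fun i => b (e i)) k * coef (tLaw (d := d) b).law (fun j => b (e' j)) l),
    hsum fun k l => chi (d := d) b G.law (coef (tLaw (d := d) b).law (fun i => b (e i)) k) *
      chi (d := d) b G.law (coef (tLaw (d := d) b).law (fun j => b (e' j)) l)] at key
  rwa [coef_tLaw b _ (sum_cnt f₀), coef_tLaw b _ (sum_cnt f₁)] at key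

theorem chi_mul (t t' : SymTen.TS A P d) : chi (d := d) b G.law (t * t') = chi (d := d) b G.law t * chi (d := d) b G.law t' := by
  have h : ∀ (r : ℕ) (e : Fin r → ι), Function.Injective e → ∀ (f₀ : Fin d → Fin r) (y : SymTen.TS A P d),
      chi (d := d) b G.law (oTS (d := d) (fun i => b (e i)) (cnt f₀) * y) =
        chi (d := d) b G.law (oTS (d := d) (fun i => b (e i)) (cnt f₀)) * chi (d := d) b G.law y := fun r e he f₀ y => by
    have h2 := TS_eq_top_of_oTS b
      (LinearMap.eqLocus ((chi (d := d) b G.law) ∘ₗ LinearMap.mulLeft A (oTS (d := d) (fun i => b (e i)) (cnt f₀)))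
        (LinearMap.mulLeft A (chi (d := d) b G.law (oTS (d := d) (fun i => b (e i)) (cnt f₀))) ∘ₗ chi (d := d) b G.law))
      fun r' e' he' f₁ => chi_mul_oTS b G e he e' he' f₀ f₁
    exact (h2 ▸ Submodule.mem_top : y ∈ LinearMap.eqLocus _ _)
  have h1 := TS_eq_top_of_oTS b
    (LinearMap.eqLocus ((chi (d := d) b G.law) ∘ₗ LinearMap.mulRight A t')
      (LinearMap.mulRight A (chi (d := d) b G.law t') ∘ₗ chi (d := d) b G.law)) fun r e he f₀ => h r e he f₀ t'
  exact (h1 ▸ Submodule.mem_top : t ∈ LinearMap.eqLocus _ _)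

/-- the algebra map attached to a multiplicative law -/
noncomputable def chiAlg : SymTen.TS A P d →ₐ[A] C :=
  AlgHom.ofLinearMap (chi (d := d) b G.law) (chi_one b G) (chi_mul b G)

theorem chiAlg_apply (t : SymTen.TS A P d) : chiAlg b G t = chi (d := d) b G.law t := rfl

theorem postcomp_chiAlg : PolLaw.MulLaw.postcomp (chiAlg b G) (tLaw (d := d) b) = G :=
  PolLaw.MulLaw.ext (PolynomialLaw.ext (funext fun S => funext fun _ => funext fun _ => funext fun x =>
    chi_tLaw b G.law G.homog S x))

theorem eq_chiAlg (f : SymTen.TS A P d →ₐ[A] C) (hf : PolLaw.MulLaw.postcomp f (tLaw (d := d) b) = G) :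
    f = chiAlg b G :=
  AlgHom.ext fun t => LinearMap.congr_fun
    (chi_unique b G.law G.homog f.toLinearMap (congrArg PolLaw.MulLaw.law hf)) t

theorem tLaw_isGammaD : PolLaw.IsGammaD (tLaw (d := d) b) := fun _ _ _ F =>
  ⟨chiAlg b F, congrArg PolLaw.MulLaw.law (postcomp_chiAlg b F),
    fun f hf => eq_chiAlg b F f (PolLaw.MulLaw.ext hf)⟩

end chiAlg

end Algebra

end Groth.Agent.GammaLib
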