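import Groth.Prelude.Def_PolLaw2
import Mathlib.RingTheory.MvPolynomial.Basic
import Mathlib.LinearAlgebra.TensorProduct.Basis
import Mathlib.Data.Finsupp.Multiset

/-!
# Coefficients of polynomial laws at finite families

`coef G x k` is the coefficient of `X ^ k` in the value of `G` at the generic combination `∑ X i ⊗ x i`.
-/

set_option autoImplicit false

universe u

open scoped TensorProduct

namespace Groth.Agent.GammaLib

variable {A : Type u} [CommRing A] {M N P : Type u} [AddCommGroup M] [Module A M]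
  [AddCommGroup N] [Module A N] [AddCommGroup P] [Module A P]
variable {ι κ : Type} [Fintype ι] [Fintype κ]

/-- the monomial `∏ i, s i ^ k i` -/
def mon {S : Type u} [CommSemiring S] (s : ι → S) (k : ι →₀ ℕ) : S := ∏ i, s i ^ k i

theorem map_mon {S S' : Type u} [CommSemiring S] [CommSemiring S'] {F : Type*} [FunLike F S S']
    [MonoidHomClass F S S'] (φ : F) (s : ι → S) (k : ι →₀ ℕ) : φ (mon s k) = mon (fun i => φ (s i)) k := by
  simp [mon, map_prod, map_pow]

theorem mon_X (k : ι →₀ ℕ) : mon (fun i => (MvPolynomial.X i : MvPolynomial ι A)) k = MvPolynomial.monomial k 1 := by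
  rw [MvPolynomial.monomial_eq, map_one, one_mul, Finsupp.prod_fintype _ _ (fun i => pow_zero _), mon]

theorem mon_mul {S : Type u} [CommSemiring S] (s t : ι → S) (k : ι →₀ ℕ) :
    mon (fun i => s i * t i) k = mon s k * mon t k := by
  simp [mon, mul_pow, Finset.prod_mul_distrib]

theorem mon_const {S : Type u} [CommSemiring S] (c : S) (k : ι →₀ ℕ) :
    mon (fun _ => c) k = c ^ ∑ i, k i := by
  simp [mon, Finset.prod_pow_eq_pow_sum]

theorem law_compat (G : M →ₚₗ[A] N) {S S' : Type u} [CommSemiring S] [Algebra A S] [CommSemiring S']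
    [Algebra A S'] (φ : S →ₐ[A] S') (x : S ⊗[A] M) :
    φ.toLinearMap.rTensor N (G.toFun' S x) = G.toFun' S' (φ.toLinearMap.rTensor M x) :=
  congrFun (G.isCompat' φ) x

theorem rTensor_smul {Q : Type u} [AddCommGroup Q] [Module A Q]
    {S S' : Type u} [CommSemiring S] [Algebra A S] [CommSemiring S'] [Algebra A S']
    (φ : S →ₐ[A] S') (s : S) (z : S ⊗[A] Q) :
    φ.toLinearMap.rTensor Q (s • z) = φ s • φ.toLinearMap.rTensor Q z := by
  induction z using TensorProduct.induction_on with
  | zero => simp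
  | tmul t n => simp [TensorProduct.smul_tmul']
  | add x y hx hy => simp only [smul_add, map_add, hx, hy]

/-- the generic combination -/
noncomputable def gen (x : ι → M) : MvPolynomial ι A ⊗[A] M := ∑ i, MvPolynomial.X i ⊗ₜ[A] x i

/-- the coordinates of a polynomial valued tensor -/
noncomputable def coords (z : MvPolynomial ι A ⊗[A] N) : (ι →₀ ℕ) →₀ N := by
  classical exact TensorProduct.equivFinsuppOfBasisLeft (MvPolynomial.basisMonomials ι A) z

theorem coords_tmul (k : ι →₀ ℕ) (n : N) :
    coords (MvPolynomial.monomial k (1 : A) ⊗ₜ[A] n) = Finsupp.single k n := by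
  classical
  rw [coords, TensorProduct.equivFinsuppOfBasisLeft_apply_tmul,
    show MvPolynomial.monomial k (1 : A) = MvPolynomial.basisMonomials ι A k from
      congrFun (MvPolynomial.coe_basisMonomials ι A).symm k,
    Module.Basis.repr_self, Finsupp.mapRange_single, one_smul]

theorem coords_injective : Function.Injective (coords (A := A) (N := N) (ι := ι)) := by
  classical exact (TensorProduct.equivFinsuppOfBasisLeft _).injective

theorem coords_sum (z : MvPolynomial ι A ⊗[A] N) :
    ∑ k ∈ (coords z).support, MvPolynomial.monomial k (1 : A) ⊗ₜ[A] coords z k = z := by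
  classical
  conv_rhs => rw [← (TensorProduct.equivFinsuppOfBasisLeft (MvPolynomial.basisMonomials ι A)).symm_apply_apply z,
    TensorProduct.equivFinsuppOfBasisLeft_symm_apply]
  rw [Finsupp.sum]
  refine Finset.sum_congr rfl fun k _ => ?_
  rw [MvPolynomial.coe_basisMonomials]
  rfl

theorem coords_finsetSum {T : Type*} (K : Finset T) (z : T → MvPolynomial ι A ⊗[A] N) :
    coords (∑ k ∈ K, z k) = ∑ k ∈ K, coords (z k) := by
  classical exact map_sum (TensorProduct.equivFinsuppOfBasisLeft (MvPolynomial.basisMonomials ι A)) _ _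

/-- the coefficient of `X ^ k` at the family `x` -/
noncomputable def coef (G : M →ₚₗ[A] N) (x : ι → M) (k : ι →₀ ℕ) : N :=
  coords (G.toFun' (MvPolynomial ι A) (gen x)) k

theorem coords_expansion (K : Finset (ι →₀ ℕ)) (c : (ι →₀ ℕ) → N) (k : ι →₀ ℕ) [DecidableEq (ι →₀ ℕ)] :
    coords (∑ l ∈ K, MvPolynomial.monomial l (1 : A) ⊗ₜ[A] c l) k = if k ∈ K then c k else 0 := by
  rw [coords_finsetSum, Finsupp.finsetSum_apply]
  simp only [coords_tmul, Finsupp.single_apply]
  rw [Finset.sum_ite_eq' K k c]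

theorem rTensor_gen {S : Type u} [CommSemiring S] [Algebra A S] (φ : MvPolynomial ι A →ₐ[A] S) (x : ι → M) :
    φ.toLinearMap.rTensor M (gen x) = ∑ i, φ (MvPolynomial.X i) ⊗ₜ[A] x i := by
  simp [gen]

theorem law_sum (G : M →ₚₗ[A] N) {S : Type u} [CommSemiring S] [Algebra A S] (x : ι → M) (s : ι → S) :
    G.toFun' S (∑ i, s i ⊗ₜ[A] x i) =
      ∑ k ∈ (coords (G.toFun' (MvPolynomial ι A) (gen x))).support, mon s k ⊗ₜ[A] coef G x k := by
  let φ : MvPolynomial ι A →ₐ[A] S := MvPolynomial.aeval s
  have hx : φ.toLinearMap.rTensor M (gen x) = ∑ i, s i ⊗ₜ[A] x i := by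
    rw [rTensor_gen]; simp [φ]
  rw [← hx, ← law_compat]
  conv_lhs => rw [← coords_sum (G.toFun' (MvPolynomial ι A) (gen x))]
  rw [map_sum]
  refine Finset.sum_congr rfl fun k _ => ?_
  rw [LinearMap.rTensor_tmul, AlgHom.toLinearMap_apply, ← mon_X, map_mon]
  simp [φ, coef]

theorem law_sum_of_subset (G : M →ₚₗ[A] N) {S : Type u} [CommSemiring S] [Algebra A S] (x : ι → M) (s : ι → S)
    {K : Finset (ι →₀ ℕ)} (hK : ∀ k, k ∉ K → coef G x k = 0) :
    G.toFun' S (∑ i, s i ⊗ₜ[A] x i) = ∑ k ∈ K, mon s k ⊗ₜ[A] coef G x k := by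
  rw [law_sum]
  refine Finset.sum_subset (fun k hk => ?_) (fun k _ hk => ?_)
  · by_contra h
    exact (Finsupp.mem_support_iff.1 hk) (hK k h)
  · rw [show coef G x k = 0 from Finsupp.notMem_support_iff.1 hk, TensorProduct.tmul_zero]

theorem coef_eq_of_expansion (G : M →ₚₗ[A] N) (x : ι → M) (K : Finset (ι →₀ ℕ)) (c : (ι →₀ ℕ) → N)
    (h : G.toFun' (MvPolynomial ι A) (gen x) =
      ∑ k ∈ K, mon (fun i => (MvPolynomial.X i : MvPolynomial ι A)) k ⊗ₜ[A] c k)
    (k : ι →₀ ℕ) [DecidableEq (ι →₀ ℕ)] : coef G x k = if k ∈ K then c k else 0 := by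
  simp only [mon_X] at h
  rw [coef, h, coords_expansion]

theorem coef_eq_zero (G : M →ₚₗ[A] N) (x : ι → M) {k : ι →₀ ℕ} {i : ι} (hx : x i = 0) (hk : k i ≠ 0) :
    coef G x k = 0 := by
  classical
  let φ : MvPolynomial ι A →ₐ[A] MvPolynomial ι A :=
    MvPolynomial.aeval fun j => if j = i then 0 else MvPolynomial.X j
  have hφ : φ.toLinearMap.rTensor M (gen x) = gen x := by
    rw [rTensor_gen]
    refine Finset.sum_congr rfl fun j _ => ?_
    by_cases h : j = i
    · subst h; simp [hx]
    · simp [φ, h]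
  let z := G.toFun' (MvPolynomial ι A) (gen x)
  have hz : z = ∑ l ∈ (coords z).support.filter (fun l => l i = 0),
      MvPolynomial.monomial l (1 : A) ⊗ₜ[A] coords z l := by
    conv_lhs => rw [show z = φ.toLinearMap.rTensor N z by rw [law_compat, hφ], ← coords_sum z]
    rw [map_sum, Finset.sum_filter]
    refine Finset.sum_congr rfl fun l _ => ?_
    rw [LinearMap.rTensor_tmul, AlgHom.toLinearMap_apply, ← mon_X, map_mon]
    split_ifs with h
    · congr 1
      refine Finset.prod_congr rfl fun j _ => ?_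
      by_cases hj : j = i
      · subst hj; simp [h]
      · simp [φ, hj]
    · rw [mon, Finset.prod_eq_zero (Finset.mem_univ i), TensorProduct.zero_tmul]
      simp [φ, zero_pow h]
  show coords z k = 0
  rw [hz, coords_expansion, if_neg]
  simp [hk]

theorem postcomp_apply (g : N →ₗ[A] P) (G : M →ₚₗ[A] N) (S : Type u) [CommSemiring S] [Algebra A S]
    (x : S ⊗[A] M) : (PolLaw.postcomp g G).toFun' S x = g.lTensor S (G.toFun' S x) := rfl

theorem precomp_apply (G : N →ₚₗ[A] P) (g : M →ₗ[A] N) (S : Type u) [CommSemiring S] [Algebra A S]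
    (x : S ⊗[A] M) : (PolLaw.precomp G g).toFun' S x = G.toFun' S (g.lTensor S x) := rfl

theorem coef_postcomp (g : N →ₗ[A] P) (G : M →ₚₗ[A] N) (x : ι → M) (k : ι →₀ ℕ) :
    coef (PolLaw.postcomp g G) x k = g (coef G x k) := by
  classical
  rw [coef_eq_of_expansion _ x (coords (G.toFun' (MvPolynomial ι A) (gen x))).support (fun l => g (coef G x l)) ?_ k]
  · split_ifs with h
    · rfl
    · rw [show coef G x k = 0 from Finsupp.notMem_support_iff.1 h, map_zero]
  · rw [postcomp_apply]
    conv_lhs => rw [gen, law_sum G x]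
    simp [map_sum]

theorem coef_precomp (G : N →ₚₗ[A] P) (g : M →ₗ[A] N) (x : ι → M) (k : ι →₀ ℕ) :
    coef (PolLaw.precomp G g) x k = coef G (fun i => g (x i)) k := by
  rw [coef, coef, precomp_apply]
  simp [gen, map_sum]

theorem coef_comp (G : M →ₚₗ[A] N) (x : κ → M) (j : ι → κ) (hj : Function.Injective j) (k : ι →₀ ℕ) :
    coef G (fun i => x (j i)) k = coef G x (k.mapDomain j) := by
  classical
  let K := (coords (G.toFun' (MvPolynomial κ A) (gen x))).support
  let s : κ → MvPolynomial ι A := Function.extend j MvPolynomial.X 0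
  have hs : ∑ l, s l ⊗ₜ[A] x l = gen fun i => x (j i) := by
    rw [gen, ← Finset.sum_subset (Finset.subset_univ (Finset.univ.image j)) fun l _ hl => ?_,
      Finset.sum_image fun a _ b _ h => hj h]
    · simp [s, hj.extend_apply]
    · have : ¬ ∃ i, j i = l := fun ⟨i, hi⟩ => hl (Finset.mem_image.2 ⟨i, Finset.mem_univ i, hi⟩)
      simp [s, Function.extend_apply' _ _ _ this]
  have hrange : ∀ l : κ →₀ ℕ, mon s l =
      if ↑l.support ⊆ Set.range j then mon (fun i => (MvPolynomial.X i : MvPolynomial ι A)) (l.comapDomain j hj.injOn)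
      else 0 := fun l => by
    split_ifs with h
    · rw [mon, mon, ← Finset.prod_subset (Finset.subset_univ (Finset.univ.image j)) fun m _ hm => ?_,
        Finset.prod_image fun a _ b _ h => hj h]
      · simp [s, hj.extend_apply, Finsupp.comapDomain_apply]
      · rw [show l m = 0 from Finsupp.notMem_support_iff.1 fun hm' => hm (by
          obtain ⟨i, hi⟩ := h (Finset.mem_coe.2 hm')
          exact Finset.mem_image.2 ⟨i, Finset.mem_univ i, hi⟩), pow_zero]
    · obtain ⟨m, hm, hmr⟩ := Set.not_subset.1 h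
      rw [mon, Finset.prod_eq_zero (Finset.mem_univ m)]
      have hm' : ¬ ∃ i, j i = m := hmr
      rw [show s m = 0 by simp [s, Function.extend_apply' _ _ _ hm'],
        zero_pow (Finsupp.mem_support_iff.1 (Finset.mem_coe.1 hm))]
  have h := law_sum G x s
  rw [hs] at h
  rw [coef, h, coords_finsetSum, Finsupp.finsetSum_apply,
    Finset.sum_eq_single (k.mapDomain j) (fun l _ hl => ?_) fun hn => ?_]
  · rw [hrange, if_pos, mon_X, Finsupp.comapDomain_mapDomain j hj, coords_tmul, Finsupp.single_eq_same]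
    intro m hm
    obtain ⟨i, -, rfl⟩ := Finset.mem_image.1 (Finsupp.mapDomain_support hm)
    exact ⟨i, rfl⟩
  · rw [hrange]
    split_ifs with hr
    · rw [mon_X, coords_tmul, Finsupp.single_eq_of_ne']
      intro he
      exact hl (by rw [← he, Finsupp.mapDomain_comapDomain j hj l hr])
    · rw [TensorProduct.zero_tmul]
      exact DFunLike.congr_fun ((TensorProduct.equivFinsuppOfBasisLeft (MvPolynomial.basisMonomials ι A)).map_zero) k
  · rw [show coef G x (k.mapDomain j) = 0 from Finsupp.notMem_support_iff.1 hn, TensorProduct.tmul_zero]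
    exact DFunLike.congr_fun ((TensorProduct.equivFinsuppOfBasisLeft (MvPolynomial.basisMonomials ι A)).map_zero) k

/-- every tensor is a finite combination -/
theorem exists_sum_tmul {S : Type u} [CommSemiring S] [Algebra A S] (z : S ⊗[A] M) :
    ∃ (n : ℕ) (s : Fin n → S) (x : Fin n → M), z = ∑ i, s i ⊗ₜ[A] x i := by
  induction z using TensorProduct.induction_on with
  | zero => exact ⟨0, Fin.elim0, Fin.elim0, by simp⟩
  | tmul a b => exact ⟨1, fun _ => a, fun _ => b, by simp⟩
  | add a b ha hb =>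
    obtain ⟨n, s, x, rfl⟩ := ha
    obtain ⟨m, t, y, rfl⟩ := hb
    refine ⟨n + m, Fin.append s t, Fin.append x y, ?_⟩
    rw [Fin.sum_univ_add]
    simp

theorem law_ext {G H : M →ₚₗ[A] N}
    (h : ∀ (n : ℕ) (x : Fin n → M) (k : Fin n →₀ ℕ), coef G x k = coef H x k) : G = H := by
  refine PolynomialLaw.ext ?_
  funext S _ _ z
  obtain ⟨n, s, x, rfl⟩ := exists_sum_tmul z
  classical
  let K := (coords (G.toFun' (MvPolynomial (Fin n) A) (gen x))).support ∪
    (coords (H.toFun' (MvPolynomial (Fin n) A) (gen x))).support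
  rw [law_sum_of_subset G x s (K := K) (fun k hk => Finsupp.notMem_support_iff.1 fun h' =>
      hk (Finset.mem_union_left _ h')),
    law_sum_of_subset H x s (K := K) (fun k hk => Finsupp.notMem_support_iff.1 fun h' =>
      hk (Finset.mem_union_right _ h'))]
  simp only [h]

/-- a family of multiplicities attached to a function -/
noncomputable def cnt {d : ℕ} (f : Fin d → ι) : ι →₀ ℕ := ∑ a, Finsupp.single (f a) 1

theorem sum_cnt {d : ℕ} (f : Fin d → ι) : ∑ i, cnt f i = d := by
  simp only [cnt, Finsupp.finsetSum_apply]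
  rw [Finset.sum_comm]
  simp

theorem mon_cnt {d : ℕ} {S : Type u} [CommSemiring S] (s : ι → S) (f : Fin d → ι) :
    mon s (cnt f) = ∏ a, s (f a) := by
  rw [show mon s (cnt f) = (cnt f).prod fun i e => s i ^ e from
    (Finsupp.prod_fintype _ _ fun i => pow_zero _).symm, cnt,
    ← Finsupp.prod_finsetSum_index (fun i => pow_zero _) fun i e e' => pow_add _ _ _]
  simp

theorem exists_cnt {d : ℕ} {k : ι →₀ ℕ} (hk : ∑ i, k i = d) : ∃ f : Fin d → ι, cnt f = k := by
  classical
  subst hk
  refine ⟨fun a => ((Fintype.equivFinOfCardEq (show Fintype.card (Σ i, Fin (k i)) = ∑ i, k i by simp)).symm a).1, ?_⟩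
  rw [cnt, Equiv.sum_comp (Fintype.equivFinOfCardEq (show Fintype.card (Σ i, Fin (k i)) = ∑ i, k i by simp)).symm
    (fun σ => Finsupp.single σ.1 (1 : ℕ)), Fintype.sum_sigma]
  ext i
  simp [Finsupp.finsetSum_apply, Finsupp.single_apply]

/-- the possible multiplicities in degree `d` -/
noncomputable def cset (ι : Type) [Fintype ι] (d : ℕ) : Finset (ι →₀ ℕ) := by
  classical exact Finset.univ.image (cnt (d := d))

theorem mem_cset {d : ℕ} {k : ι →₀ ℕ} : k ∈ cset ι d ↔ ∑ i, k i = d := by
  classical
  constructor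
  · intro h
    obtain ⟨f, -, rfl⟩ := Finset.mem_image.1 h
    exact sum_cnt f
  · intro h
    obtain ⟨f, rfl⟩ := exists_cnt h
    exact Finset.mem_image.2 ⟨f, Finset.mem_univ f, rfl⟩

theorem coef_eq_zero_of_homog {G : M →ₚₗ[A] N} {d : ℕ} (hG : PolLaw.IsHomog G d) (x : ι → M) (k : ι →₀ ℕ)
    (hk : ∑ i, k i ≠ d) : coef G x k = 0 := by
  classical
  let t : MvPolynomial (Option ι) A := MvPolynomial.X none
  let s : ι → MvPolynomial (Option ι) A := fun i => MvPolynomial.X (some i)
  have h : G.toFun' (MvPolynomial (Option ι) A) (∑ i, (t * s i) ⊗ₜ[A] x i) =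
      t ^ d • G.toFun' (MvPolynomial (Option ι) A) (∑ i, s i ⊗ₜ[A] x i) := by
    rw [← hG]
    simp [Finset.smul_sum, TensorProduct.smul_tmul']
  rw [law_sum, law_sum, Finset.smul_sum] at h
  have e : ∀ (l : ι →₀ ℕ) (m : ℕ), t ^ m * mon s l =
      MvPolynomial.monomial (Finsupp.single none m + l.mapDomain some) (1 : A) := fun l m => by
    calc t ^ m * mon s l =
        MvPolynomial.monomial (Finsupp.single none m) (1 : A) * MvPolynomial.monomial (l.mapDomain some) 1 := by
          rw [← MvPolynomial.rename_monomial, ← mon_X (ι := ι) (A := A) l, map_mon, ← MvPolynomial.X_pow_eq_monomial]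
          simp [s, t]
      _ = _ := by rw [MvPolynomial.monomial_mul, mul_one]
  have key := congrArg (fun z => coords z (Finsupp.single none (∑ i, k i) + k.mapDomain some)) h
  simp only [mon_mul, mon_const, TensorProduct.smul_tmul', smul_eq_mul, e, coords_finsetSum,
    Finsupp.finsetSum_apply, coords_tmul, Finsupp.single_apply] at key

  have inj : ∀ (l : ι →₀ ℕ) (m m' : ℕ),
      Finsupp.single none m + l.mapDomain some = Finsupp.single none m' + k.mapDomain some → l = k ∧ m = m' :=
    fun l m m' h => by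
      refine ⟨Finsupp.ext fun i => ?_, ?_⟩
      · have := DFunLike.congr_fun h (some i)
        simpa [Finsupp.mapDomain_apply (Option.some_injective _)] using this
      · have := DFunLike.congr_fun h none
        simpa [Finsupp.mapDomain_of_notMem_range] using this
  by_contra hne
  rw [Finset.sum_eq_single k (fun l _ hl => if_neg fun h => hl (inj _ _ _ h).1)
      (fun hn => absurd (Finsupp.notMem_support_iff.1 hn) hne), if_pos rfl] at key
  refine hne (key.trans (Finset.sum_eq_zero fun l _ => if_neg fun h => ?_))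
  exact hk (inj _ _ _ h).2.symm

theorem law_sum_cset {G : M →ₚₗ[A] N} {d : ℕ} (hG : PolLaw.IsHomog G d) {S : Type u} [CommSemiring S]
    [Algebra A S] (x : ι → M) (s : ι → S) :
    G.toFun' S (∑ i, s i ⊗ₜ[A] x i) = ∑ k ∈ cset ι d, mon s k ⊗ₜ[A] coef G x k :=
  law_sum_of_subset G x s fun k hk => coef_eq_zero_of_homog hG x k fun h => hk (mem_cset.2 h)

end Groth.Agent.GammaLib
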