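import Groth.Agent.GammaLib.Sym
import Mathlib.RingTheory.Flat.EquationalCriterion

/-!
# Tensor powers of flat modules come from finite free modules
-/

set_option autoImplicit false

universe u

open scoped TensorProduct

namespace Groth.Agent.GammaLib

variable {A : Type u} [CommRing A] {d : ℕ} {M N Q : Type u} [AddCommGroup M] [Module A M] [AddCommGroup N]
  [Module A N] [AddCommGroup Q] [Module A Q]

/-- the map on tensor powers -/
noncomputable abbrev mp (h : M →ₗ[A] N) : (⨂[A] _ : Fin d, M) →ₗ[A] (⨂[A] _ : Fin d, N) :=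
  PiTensorProduct.map fun _ => h

theorem mp_comp (g : N →ₗ[A] Q) (h : M →ₗ[A] N) (z : ⨂[A] _ : Fin d, M) : mp (g ∘ₗ h) z = mp g (mp h z) :=
  LinearMap.congr_fun (PiTensorProduct.map_comp (fun _ => g) (fun _ => h)) z

theorem mp_reindex (h : M →ₗ[A] N) (σ : Equiv.Perm (Fin d)) (z : ⨂[A] _ : Fin d, M) :
    mp h (PiTensorProduct.reindex A (fun _ : Fin d => M) σ z) =
      PiTensorProduct.reindex A (fun _ : Fin d => N) σ (mp h z) := by
  induction z using PiTensorProduct.induction_on with
  | smul_tprod r f => simp [PiTensorProduct.reindex_tprod]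
  | add x y hx hy => simp [hx, hy]

theorem mp_surjective (π : M →ₗ[A] N) (hπ : Function.Surjective π) : Function.Surjective (mp (d := d) π) := by
  intro z
  induction z using PiTensorProduct.induction_on with
  | smul_tprod r v =>
    choose w hw using fun a => hπ (v a)
    exact ⟨r • PiTensorProduct.tprod A w, by simp [hw]⟩
  | add x y hx hy =>
    obtain ⟨x', rfl⟩ := hx
    obtain ⟨y', rfl⟩ := hy
    exact ⟨x' + y', map_add _ _ _⟩

section slot

variable (π : M →ₗ[A] N)

/-- the tensors with a slot in the kernel -/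
def slotSet : Set (⨂[A] _ : Fin d, M) := {z | ∃ f : Fin d → M, (∃ a, π (f a) = 0) ∧ z = PiTensorProduct.tprod A f}

theorem tprod_sub_mem_span (f g : Fin d → M) (h : ∀ a, π (f a) = π (g a)) :
    PiTensorProduct.tprod A f - PiTensorProduct.tprod A g ∈ Submodule.span A (slotSet (d := d) π) := by
  classical
  suffices H : ∀ s : Finset (Fin d),
      PiTensorProduct.tprod A (fun a => if a ∈ s then f a else g a) - PiTensorProduct.tprod A g ∈
        Submodule.span A (slotSet π) by
    simpa using H Finset.univ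
  intro s
  induction s using Finset.induction_on with
  | empty => simp
  | insert c s hc ih =>
    let m := fun a => if a ∈ s then f a else g a
    have e1 : (fun a => if a ∈ insert c s then f a else g a) = Function.update m c (f c) := by
      funext a
      by_cases ha : a = c
      · subst ha; simp
      · simp [ha, m]
    have e2 : m = Function.update m c (g c) := by
      rw [show g c = m c by simp [m, hc], Function.update_eq_self]
    have hd : PiTensorProduct.tprod A (Function.update m c (f c - g c)) ∈ Submodule.span A (slotSet π) :=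
      Submodule.subset_span ⟨_, ⟨c, by simp [h c]⟩, rfl⟩
    rw [MultilinearMap.map_update_sub, ← e1, ← e2] at hd
    simpa [m] using add_mem hd ih

theorem mem_span_slot (hπ : Function.Surjective π) {z : ⨂[A] _ : Fin d, M} (hz : mp π z = 0) :
    z ∈ Submodule.span A (slotSet π) := by
  classical
  let Q := (Submodule.span A (slotSet (d := d) π)).mkQ
  have wd : ∀ f g : Fin d → M, (∀ a, π (f a) = π (g a)) →
      Q (PiTensorProduct.tprod A f) = Q (PiTensorProduct.tprod A g) := fun f g h =>
    (Submodule.Quotient.eq _).2 (tprod_sub_mem_span π f g h)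
  let Ψ : MultilinearMap A (fun _ : Fin d => N) ((⨂[A] _ : Fin d, M) ⧸ Submodule.span A (slotSet (d := d) π)) :=
    MultilinearMap.mk' (fun v => Q (PiTensorProduct.tprod A fun a => Function.surjInv hπ (v a)))
      (fun v c x y => by
        rw [← map_add, wd _ (Function.update (fun a => Function.surjInv hπ (v a)) c
            (Function.surjInv hπ x + Function.surjInv hπ y)) fun a => ?_,
          MultilinearMap.map_update_add]
        · simp only [map_add]
          congr 1 <;> refine wd _ _ fun a => ?_ <;>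
            (by_cases ha : a = c <;> [(subst ha; simp [Function.surjInv_eq hπ]); simp [ha]])
        · by_cases ha : a = c <;> [(subst ha; simp [Function.surjInv_eq hπ]); simp [ha]])
      (fun v c r x => by
        rw [← map_smul, wd _ (Function.update (fun a => Function.surjInv hπ (v a)) c
            (r • Function.surjInv hπ x)) fun a => ?_, MultilinearMap.map_update_smul]
        · simp only [map_smul]
          congr 1
          refine wd _ _ fun a => ?_
          by_cases ha : a = c <;> [(subst ha; simp [Function.surjInv_eq hπ]); simp [ha]]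
        · by_cases ha : a = c <;> [(subst ha; simp [Function.surjInv_eq hπ]); simp [ha]])
  have h : PiTensorProduct.lift Ψ ∘ₗ mp π = Q := by
    refine PiTensorProduct.ext (MultilinearMap.ext fun f => ?_)
    show PiTensorProduct.lift Ψ (mp π (PiTensorProduct.tprod A f)) = Q (PiTensorProduct.tprod A f)
    rw [PiTensorProduct.map_tprod, PiTensorProduct.lift.tprod]
    exact wd _ _ fun a => Function.surjInv_eq hπ _
  refine (Submodule.Quotient.mk_eq_zero _).1 ?_
  rw [← Submodule.mkQ_apply, show (Submodule.span A (slotSet π)).mkQ z = Q z from rfl, ← h,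
    LinearMap.comp_apply, hz, map_zero]

end slot

/-- finitely many vectors of a free module lie in a finite free direct summand -/
theorem exists_retract {X : Type u} (s : Finset (X →₀ A)) :
    ∃ (n : ℕ) (q : (X →₀ A) →ₗ[A] (Fin n →₀ A)) (i : (Fin n →₀ A) →ₗ[A] (X →₀ A)), ∀ v ∈ s, i (q v) = v := by
  classical
  let U := s.biUnion fun v => v.support
  let e : Fin U.card → X := fun j => (U.equivFin.symm j : X)
  have he : Function.Injective e := Subtype.val_injective.comp U.equivFin.symm.injective
  refine ⟨U.card, Finsupp.lcomapDomain e he, Finsupp.lmapDomain A A e, fun v hv => ?_⟩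
  show (v.comapDomain e he.injOn).mapDomain e = v
  refine Finsupp.mapDomain_comapDomain e he v fun x hx => ?_
  exact ⟨U.equivFin ⟨x, Finset.mem_biUnion.2 ⟨v, hv, hx⟩⟩, by simp [e]⟩

/-- a tensor killed in a flat module is killed at a finite free stage -/
theorem exists_kill [Module.Flat A M] {n : ℕ} (g : (Fin n →₀ A) →ₗ[A] M) (z : ⨂[A] _ : Fin d, (Fin n →₀ A))
    (hz : mp g z = 0) :
    ∃ (k : ℕ) (a : (Fin n →₀ A) →ₗ[A] (Fin k →₀ A)) (g' : (Fin k →₀ A) →ₗ[A] M),
      g = g' ∘ₗ a ∧ mp a z = 0 := by
  classical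
  let π : (M →₀ A) →ₗ[A] M := Finsupp.linearCombination A id
  have hπ : Function.Surjective π := fun m => ⟨Finsupp.single m 1, by simp [π]⟩
  let h : (Fin n →₀ A) →ₗ[A] (M →₀ A) := Finsupp.linearCombination A fun i => Finsupp.single (g (Finsupp.single i 1)) 1
  have hh : π ∘ₗ h = g := by
    refine Finsupp.lhom_ext' fun i => LinearMap.ext_ring ?_
    simp [π, h]
  have hmem : mp h z ∈ Submodule.span A (slotSet π) := mem_span_slot π hπ (by rw [← mp_comp, hh, hz])
  obtain ⟨m, c, w, hw⟩ := Submodule.mem_span_set'.1 hmem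
  choose f hf0 hf using fun i => (w i).2
  choose a₀ ha₀ using hf0
  let s : Finset (M →₀ A) := (Finset.univ.biUnion fun i => Finset.univ.image (f i)) ∪
    Finset.univ.image fun i => h (Finsupp.single i 1)
  obtain ⟨r, q, ι, hq⟩ := exists_retract (A := A) s
  have hιqh : ι ∘ₗ q ∘ₗ h = h := by
    refine Finsupp.lhom_ext' fun i => LinearMap.ext_ring ?_
    exact hq _ (Finset.mem_union_right _ (Finset.mem_image.2 ⟨i, Finset.mem_univ _, rfl⟩))
  have hk : (π ∘ₗ ι) ∘ₗ (Finsupp.linearCombination A fun i : Fin m => q (f i (a₀ i))) = 0 := by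
    refine Finsupp.lhom_ext' fun i => LinearMap.ext_ring ?_
    simp only [LinearMap.comp_apply, Finsupp.lsingle_apply, Finsupp.linearCombination_single, one_smul,
      LinearMap.zero_apply]
    rw [hq _ (Finset.mem_union_left _ (Finset.mem_biUnion.2
      ⟨i, Finset.mem_univ _, Finset.mem_image.2 ⟨a₀ i, Finset.mem_univ _, rfl⟩⟩))]
    exact ha₀ i
  obtain ⟨k, a, y, hya, haf⟩ := Module.Flat.exists_factorization_of_comp_eq_zero_of_free hk
  refine ⟨k, a ∘ₗ q ∘ₗ h, y, ?_, ?_⟩
  · rw [← LinearMap.comp_assoc, ← hya, LinearMap.comp_assoc, hιqh, hh]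
  · rw [mp_comp, mp_comp, ← hw, map_sum, map_sum]
    refine Finset.sum_eq_zero fun i _ => ?_
    rw [map_smul, map_smul, hf i, PiTensorProduct.map_tprod, PiTensorProduct.map_tprod,
      (PiTensorProduct.tprod A).map_coord_zero (a₀ i), smul_zero]
    simpa using LinearMap.congr_fun haf (Finsupp.single i 1)

theorem exists_kill_finset [Module.Flat A M] {σ : Type*} (s : Finset σ) {n : ℕ} (g : (Fin n →₀ A) →ₗ[A] M)
    (z : σ → ⨂[A] _ : Fin d, (Fin n →₀ A)) (hz : ∀ i ∈ s, mp g (z i) = 0) :
    ∃ (k : ℕ) (a : (Fin n →₀ A) →ₗ[A] (Fin k →₀ A)) (g' : (Fin k →₀ A) →ₗ[A] M),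
      g = g' ∘ₗ a ∧ ∀ i ∈ s, mp a (z i) = 0 := by
  classical
  induction s using Finset.induction_on with
  | empty => exact ⟨n, LinearMap.id, g, rfl, fun i hi => absurd hi (Finset.notMem_empty i)⟩
  | insert c s hc ih =>
    obtain ⟨k, a, g', hg, ha⟩ := ih fun i hi => hz i (Finset.mem_insert_of_mem hi)
    obtain ⟨k', a', g'', hg', ha'⟩ := exists_kill g' (mp a (z c))
      (by rw [← mp_comp, ← hg]; exact hz c (Finset.mem_insert_self c s))
    refine ⟨k', a' ∘ₗ a, g'', by rw [← LinearMap.comp_assoc, ← hg', hg], fun i hi => ?_⟩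
    rw [mp_comp]
    rcases Finset.mem_insert.1 hi with rfl | hi
    · exact ha'
    · rw [ha i hi, map_zero]

theorem exists_lift_finite (z : ⨂[A] _ : Fin d, M) :
    ∃ (n : ℕ) (g : (Fin n →₀ A) →ₗ[A] M) (z' : ⨂[A] _ : Fin d, (Fin n →₀ A)), mp g z' = z := by
  classical
  let π : (M →₀ A) →ₗ[A] M := Finsupp.linearCombination A id
  have hπ : Function.Surjective π := fun m => ⟨Finsupp.single m 1, by simp [π]⟩
  obtain ⟨w, rfl⟩ := mp_surjective π hπ z
  suffices h : ∃ (n : ℕ) (i : (Fin n →₀ A) →ₗ[A] (M →₀ A)) (z' : ⨂[A] _ : Fin d, (Fin n →₀ A)), mp i z' = w by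
    obtain ⟨n, i, z', h⟩ := h
    exact ⟨n, π ∘ₗ i, z', by rw [mp_comp, h]⟩
  have hw : w ∈ Submodule.span A (Set.range fun f : Fin d → M →₀ A => PiTensorProduct.tprod A f) := by
    rw [PiTensorProduct.span_tprod_eq_top]; exact Submodule.mem_top
  obtain ⟨m, c, f, hf⟩ := Submodule.mem_span_set'.1 hw
  choose v hv using fun i => (f i).2
  obtain ⟨n, q, i, hq⟩ := exists_retract (A := A) (Finset.univ.biUnion fun j => Finset.univ.image (v j))
  refine ⟨n, i, mp q w, ?_⟩
  rw [← mp_comp, ← hf, map_sum]
  refine Finset.sum_congr rfl fun j _ => ?_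
  rw [map_smul, ← hv j, PiTensorProduct.map_tprod]
  congr 2
  funext a
  exact hq _ (Finset.mem_biUnion.2 ⟨j, Finset.mem_univ _, Finset.mem_image.2 ⟨a, Finset.mem_univ _, rfl⟩⟩)

/-- symmetric tensors of a flat module come from symmetric tensors of finite free modules -/
theorem exists_symm_lift [Module.Flat A M] (y : ⨂[A] _ : Fin d, M) (hy : IsSymm y) :
    ∃ (n : ℕ) (g : (Fin n →₀ A) →ₗ[A] M) (z : ⨂[A] _ : Fin d, (Fin n →₀ A)), mp g z = y ∧ IsSymm z := by
  obtain ⟨n, g, z, rfl⟩ := exists_lift_finite y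
  obtain ⟨k, a, g', hg, ha⟩ := exists_kill_finset (Finset.univ : Finset (Equiv.Perm (Fin d))) g
    (fun σ => PiTensorProduct.reindex A (fun _ : Fin d => (Fin n →₀ A)) σ z - z)
    (fun σ _ => by rw [map_sub, mp_reindex, hy σ, sub_self])
  refine ⟨k, g', mp a z, by rw [← mp_comp, ← hg], fun σ => ?_⟩
  rw [← mp_reindex, ← sub_eq_zero]
  exact (map_sub (mp a) _ _).symm.trans (ha σ (Finset.mem_univ σ))

/-- a basis of a finite free module indexed in the ambient universe -/
noncomputable def bFin (A : Type u) [CommRing A] (n : ℕ) : Module.Basis (ULift.{u} (Fin n)) A (Fin n →₀ A) :=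
  Finsupp.basisSingleOne.reindex Equiv.ulift.symm

end Groth.Agent.GammaLib
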