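import Groth.Agent.GammaLib.Colim
import Groth.Prelude.Def_SymTen
import Mathlib.Algebra.Colimit.Module

/-!
# Symmetric tensors commute with filtered colimits
-/

set_option autoImplicit false
set_option linter.style.haveILetI false

universe u

open scoped TensorProduct

namespace Groth.Agent.GammaLib

variable {A : Type u} [CommRing A] {d : ℕ} {M : Type u} [AddCommGroup M] [Module A M]
  {ι : Type u} [Preorder ι] [IsDirected ι (fun i j => i ≤ j)] [Nonempty ι]
  {Mi : ι → Type u} [∀ i, AddCommGroup (Mi i)] [∀ i, Module A (Mi i)]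
  (t : ∀ i j : ι, i ≤ j → (Mi i →ₗ[A] Mi j)) (φ : ∀ i : ι, Mi i →ₗ[A] M)

section

variable (hcomp : ∀ (i j : ι) (h : i ≤ j), (φ j) ∘ₗ (t i j h) = φ i)
  (hsurj : ∀ m : M, ∃ (i : ι) (x : Mi i), φ i x = m)
  (hzero : ∀ (i : ι) (x : Mi i), φ i x = 0 → ∃ (j : ι) (h : i ≤ j), t i j h x = 0)
  (hid : ∀ (i : ι) (h : i ≤ i), t i i h = LinearMap.id)
  (htrans : ∀ (i j k : ι) (hij : i ≤ j) (hjk : j ≤ k), (t j k hjk) ∘ₗ (t i j hij) = t i k (hij.trans hjk))

include hcomp hsurj in
theorem exists_common {σ : Type*} (s : Finset σ) (m : σ → M) :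
    ∃ (i : ι) (x : σ → Mi i), ∀ a ∈ s, φ i (x a) = m a := by
  classical
  induction s using Finset.induction_on with
  | empty => exact ⟨Classical.arbitrary ι, fun _ => 0, fun a ha => absurd ha (Finset.notMem_empty a)⟩
  | insert c s hc ih =>
    obtain ⟨i, x, hx⟩ := ih
    obtain ⟨j, y, hy⟩ := hsurj (m c)
    obtain ⟨k, hik, hjk⟩ := directed_of (fun i j : ι => i ≤ j) i j
    refine ⟨k, fun a => if a = c then t j k hjk y else t i k hik (x a), fun a ha => ?_⟩
    by_cases h : a = c
    · subst h
      dsimp only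
      rw [if_pos rfl, ← LinearMap.comp_apply, hcomp, hy]
    · dsimp only
      rw [if_neg h, ← LinearMap.comp_apply, hcomp]
      exact hx a ((Finset.mem_insert.1 ha).resolve_left h)

include hcomp hsurj hzero hid htrans in
theorem mp_eq_zero_stage {i : ι} (z : ⨂[A] _ : Fin d, Mi i) (hz : mp (φ i) z = 0) :
    ∃ (j : ι) (h : i ≤ j), mp (t i j h) z = 0 := by
  classical
  let G : ι → Type u := fun i => ⨂[A] _ : Fin d, Mi i
  let f : ∀ i j : ι, i ≤ j → (G i →ₗ[A] G j) := fun i j h => mp (t i j h)
  let L := Module.DirectLimit G f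
  let of' : ∀ i, G i →ₗ[A] L := fun i => Module.DirectLimit.of A ι G f i
  have hstep : ∀ (i j : ι) (h : i ≤ j) (x : Fin d → Mi i),
      of' j (PiTensorProduct.tprod A fun a => t i j h (x a)) = of' i (PiTensorProduct.tprod A x) := by
    intro i j h x
    show Module.DirectLimit.of A ι G f j _ = Module.DirectLimit.of A ι G f i _
    rw [← Module.DirectLimit.of_f (f := f) (hij := h) (x := PiTensorProduct.tprod A x)]
    congr 1
    show _ = mp (t i j h) (PiTensorProduct.tprod A x)
    rw [PiTensorProduct.map_tprod]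
  have wd : ∀ (i i' : ι) (x : Fin d → Mi i) (x' : Fin d → Mi i'), (∀ a, φ i (x a) = φ i' (x' a)) →
      of' i (PiTensorProduct.tprod A x) = of' i' (PiTensorProduct.tprod A x') := by
    intro i i' x x' h
    obtain ⟨k, hik, hi'k⟩ := directed_of (fun i j : ι => i ≤ j) i i'
    have hk : ∀ a, φ k (t i k hik (x a) - t i' k hi'k (x' a)) = 0 := fun a => by
      rw [map_sub, ← LinearMap.comp_apply, ← LinearMap.comp_apply, hcomp, hcomp, h a, sub_self]
    suffices H : ∀ s : Finset (Fin d), ∃ (l : ι) (hkl : k ≤ l),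
        ∀ a ∈ s, t k l hkl (t i k hik (x a)) = t k l hkl (t i' k hi'k (x' a)) by
      obtain ⟨l, hkl, hl⟩ := H Finset.univ
      rw [← hstep i l (hik.trans hkl) x, ← hstep i' l (hi'k.trans hkl) x']
      congr 2
      funext a
      rw [← htrans i k l hik hkl, ← htrans i' k l hi'k hkl]
      exact hl a (Finset.mem_univ a)
    intro s
    induction s using Finset.induction_on with
    | empty => exact ⟨k, le_rfl, fun a ha => absurd ha (Finset.notMem_empty a)⟩
    | insert c s hc ih =>
      obtain ⟨l, hkl, hl⟩ := ih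
      obtain ⟨m, hkm, hm⟩ := hzero k _ (hk c)
      obtain ⟨n, hln, hmn⟩ := directed_of (fun i j : ι => i ≤ j) l m
      refine ⟨n, hkl.trans hln, fun a ha => ?_⟩
      rcases Finset.mem_insert.1 ha with rfl | ha
      · rw [map_sub] at hm
        rw [← htrans k m n hkm hmn]
        exact congrArg (t m n hmn) (sub_eq_zero.1 hm)
      · rw [← htrans k l n hkl hln]
        exact congrArg (t l n hln) (hl a ha)
  have hlift : ∀ v : Fin d → M, ∃ (i : ι) (x : Fin d → Mi i), ∀ a, φ i (x a) = v a := fun v => by
    obtain ⟨i, x, hx⟩ := exists_common t φ hcomp hsurj Finset.univ v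
    exact ⟨i, x, fun a => hx a (Finset.mem_univ a)⟩
  choose I X hX using hlift
  let Φ : MultilinearMap A (fun _ : Fin d => M) L :=
    MultilinearMap.mk' (fun v => of' (I v) (PiTensorProduct.tprod A (X v)))
      (fun v c p q => by
        obtain ⟨k, y, hy⟩ := exists_common t φ hcomp hsurj (Finset.univ : Finset (Option (Fin d) ⊕ Unit))
          (Sum.elim (fun o => o.elim p v) fun _ => q)
        have e : ∀ (w : Fin d → M) (y' : Fin d → Mi k), (∀ a, φ k (y' a) = w a) →
            of' (I w) (PiTensorProduct.tprod A (X w)) = of' k (PiTensorProduct.tprod A y') :=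
          fun w y' h => wd _ _ _ _ fun a => (hX w a).trans (h a).symm
        let base : Fin d → Mi k := fun a => y (Sum.inl (some a))
        have hb : ∀ (z : Mi k) (m : M), φ k z = m → ∀ a, φ k (Function.update base c z a) = Function.update v c m a := by
          intro z m hzm a
          by_cases ha : a = c
          · subst ha; simp [hzm]
          · simpa [ha, base] using hy (Sum.inl (some a)) (Finset.mem_univ _)
        have hp : φ k (y (Sum.inl none)) = p := hy _ (Finset.mem_univ _)
        have hq : φ k (y (Sum.inr ())) = q := hy _ (Finset.mem_univ _)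
        rw [e _ _ (hb _ _ (show φ k (y (Sum.inl none) + y (Sum.inr ())) = p + q by rw [map_add, hp, hq])),
          e _ _ (hb _ _ hp), e _ _ (hb _ _ hq), MultilinearMap.map_update_add, map_add])
      (fun v c r p => by
        obtain ⟨k, y, hy⟩ := exists_common t φ hcomp hsurj (Finset.univ : Finset (Option (Fin d)))
          (fun o => o.elim p v)
        have e : ∀ (w : Fin d → M) (y' : Fin d → Mi k), (∀ a, φ k (y' a) = w a) →
            of' (I w) (PiTensorProduct.tprod A (X w)) = of' k (PiTensorProduct.tprod A y') :=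
          fun w y' h => wd _ _ _ _ fun a => (hX w a).trans (h a).symm
        let base : Fin d → Mi k := fun a => y (some a)
        have hb : ∀ (z : Mi k) (m : M), φ k z = m → ∀ a, φ k (Function.update base c z a) = Function.update v c m a := by
          intro z m hzm a
          by_cases ha : a = c
          · subst ha; simp [hzm]
          · simpa [ha, base] using hy (some a) (Finset.mem_univ _)
        have hp : φ k (y none) = p := hy _ (Finset.mem_univ _)
        rw [e _ _ (hb _ _ (show φ k (r • y none) = r • p by rw [map_smul, hp])),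
          e _ _ (hb _ _ hp), MultilinearMap.map_update_smul, map_smul])
  have key : PiTensorProduct.lift Φ ∘ₗ mp (φ i) = of' i := by
    refine PiTensorProduct.ext (MultilinearMap.ext fun x => ?_)
    show PiTensorProduct.lift Φ (mp (φ i) (PiTensorProduct.tprod A x)) = of' i (PiTensorProduct.tprod A x)
    rw [PiTensorProduct.map_tprod, PiTensorProduct.lift.tprod]
    exact wd _ _ _ _ fun a => hX _ a
  haveI : DirectedSystem G (fun i j h => f i j h) :=
    { map_self := fun i x => by
        show mp (t i i le_rfl) x = x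
        rw [hid]
        exact LinearMap.congr_fun PiTensorProduct.map_id x
      map_map := fun k j i hij hjk x => by
        show mp (t j k hjk) (mp (t i j hij) x) = mp (t i k (hij.trans hjk)) x
        rw [← mp_comp, htrans] }
  exact Module.DirectLimit.of.zero_exact (R := A) (G := G) (f := f)
    (show of' i z = 0 by rw [← key, LinearMap.comp_apply, hz, map_zero])

include hcomp hsurj in
theorem exists_mp_lift (z : ⨂[A] _ : Fin d, M) :
    ∃ (i : ι) (w : ⨂[A] _ : Fin d, Mi i), mp (φ i) w = z := by
  induction z using PiTensorProduct.induction_on with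
  | smul_tprod r v =>
    obtain ⟨i, x, hx⟩ := exists_common t φ hcomp hsurj Finset.univ v
    exact ⟨i, r • PiTensorProduct.tprod A x, by
      rw [map_smul, PiTensorProduct.map_tprod]
      congr 2
      exact funext fun a => hx a (Finset.mem_univ a)⟩
  | add p q hp hq =>
    obtain ⟨i, w, rfl⟩ := hp
    obtain ⟨j, w', rfl⟩ := hq
    obtain ⟨k, hik, hjk⟩ := directed_of (fun i j : ι => i ≤ j) i j
    exact ⟨k, mp (t i k hik) w + mp (t j k hjk) w', by rw [map_add, ← mp_comp, ← mp_comp, hcomp, hcomp]⟩

include hcomp hsurj hzero hid htrans in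
theorem exists_mp_symm_lift (z : ⨂[A] _ : Fin d, M) (hz : IsSymm z) :
    ∃ (i : ι) (w : ⨂[A] _ : Fin d, Mi i), mp (φ i) w = z ∧ IsSymm w := by
  classical
  obtain ⟨i, w, rfl⟩ := exists_mp_lift t φ hcomp hsurj z
  suffices H : ∀ s : Finset (Equiv.Perm (Fin d)), ∃ (j : ι) (h : i ≤ j), ∀ σ ∈ s,
      mp (t i j h) (PiTensorProduct.reindex A (fun _ : Fin d => Mi i) σ w) = mp (t i j h) w by
    obtain ⟨j, h, hj⟩ := H Finset.univ
    exact ⟨j, mp (t i j h) w, by rw [← mp_comp, hcomp], fun σ => by
      rw [← mp_reindex]; exact hj σ (Finset.mem_univ σ)⟩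
  intro s
  induction s using Finset.induction_on with
  | empty => exact ⟨i, le_rfl, fun σ hσ => absurd hσ (Finset.notMem_empty σ)⟩
  | insert c s hc ih =>
    obtain ⟨j, h, hj⟩ := ih
    obtain ⟨m, hm, hm'⟩ := mp_eq_zero_stage t φ hcomp hsurj hzero hid htrans
      (PiTensorProduct.reindex A (fun _ : Fin d => Mi i) c w - w)
      (by rw [map_sub, mp_reindex, hz c, sub_self])
    rw [map_sub, sub_eq_zero] at hm'
    obtain ⟨n, hjn, hmn⟩ := directed_of (fun i j : ι => i ≤ j) j m
    refine ⟨n, h.trans hjn, fun σ hσ => ?_⟩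
    rcases Finset.mem_insert.1 hσ with rfl | hσ
    · rw [← htrans i m n hm hmn, mp_comp, mp_comp, hm']
    · rw [← htrans i j n h hjn, mp_comp, mp_comp, hj σ hσ]

end

theorem mp_eq_tmap {B C : Type u} [CommRing B] [Algebra A B] [CommRing C] [Algebra A C] (f : B →ₐ[A] C)
    (z : ⨂[A] _ : Fin d, B) : SymTen.tmap A d f z = mp f.toLinearMap z :=
  LinearMap.congr_fun (show (SymTen.tmap A d f).toLinearMap = mp (d := d) f.toLinearMap from
    PiTensorProduct.ext (MultilinearMap.ext fun v => by simp)) z

end Groth.Agent.GammaLib
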