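import Groth.Agent.GammaLib.Univ
import Mathlib.RingTheory.Adjoin.Tower
import Mathlib.RingTheory.IntegralClosure.IsIntegralClosure.Basic
import Mathlib.RingTheory.FiniteType
import Mathlib.RingTheory.Polynomial.Basic

/-!
# Divided powers of a finitely generated algebra are finitely generated
-/

set_option autoImplicit false
set_option linter.style.haveILetI false

universe u

open scoped TensorProduct

namespace Groth.Agent.GammaLib

/-- permutation of the rows of variables -/
noncomputable def rowPerm (d n : ℕ) (σ : Equiv.Perm (Fin d)) :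
    MvPolynomial (Fin d × Fin n) ℤ →ₐ[ℤ] MvPolynomial (Fin d × Fin n) ℤ :=
  MvPolynomial.rename fun p => (σ p.1, p.2)

theorem rowPerm_trans (d n : ℕ) (σ τ : Equiv.Perm (Fin d)) (z : MvPolynomial (Fin d × Fin n) ℤ) :
    rowPerm d n σ (rowPerm d n τ z) = rowPerm d n (τ.trans σ) z :=
  MvPolynomial.rename_rename _ _ z

/-- the invariant subalgebra -/
noncomputable def rowInv (d n : ℕ) : Subalgebra ℤ (MvPolynomial (Fin d × Fin n) ℤ) where
  carrier := {z | ∀ σ, rowPerm d n σ z = z}
  mul_mem' ha hb σ := by rw [map_mul, ha σ, hb σ]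
  one_mem' σ := map_one _
  add_mem' ha hb σ := by rw [map_add, ha σ, hb σ]
  zero_mem' σ := map_zero _
  algebraMap_mem' r σ := AlgHom.commutes _ r

theorem rowInv_fg (d n : ℕ) : (rowInv d n).FG := by
  haveI : Algebra.IsIntegral (rowInv d n) (MvPolynomial (Fin d × Fin n) ℤ) := ⟨fun z => by
    let P : Polynomial (MvPolynomial (Fin d × Fin n) ℤ) :=
      ∏ σ : Equiv.Perm (Fin d), (Polynomial.X - Polynomial.C (rowPerm d n σ z))
    have hfix : ∀ τ : Equiv.Perm (Fin d), P.map (rowPerm d n τ).toRingHom = P := fun τ => by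
      rw [Polynomial.map_prod]
      simp only [Polynomial.map_sub, Polynomial.map_X, Polynomial.map_C, AlgHom.toRingHom_eq_coe, RingHom.coe_coe,
        rowPerm_trans]
      exact Equiv.prod_comp (Equiv.mulLeft τ) fun σ => Polynomial.X - Polynomial.C (rowPerm d n σ z)
    have hl : P ∈ Polynomial.lifts (algebraMap (rowInv d n) (MvPolynomial (Fin d × Fin n) ℤ)) := by
      rw [Polynomial.lifts_iff_coeff_lifts]
      intro m
      refine ⟨⟨P.coeff m, fun τ => ?_⟩, rfl⟩
      conv_rhs => rw [← hfix τ]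
      rw [Polynomial.coeff_map]
      rfl
    have hm : P.Monic := Polynomial.monic_prod_of_monic _ _ fun σ _ => Polynomial.monic_X_sub_C _
    obtain ⟨Q, hQ, -, hQm⟩ := Polynomial.lifts_and_degree_eq_and_monic hl hm
    refine ⟨Q, hQm, ?_⟩
    rw [← Polynomial.eval_map, hQ, Polynomial.eval_prod]
    refine Finset.prod_eq_zero (Finset.mem_univ (1 : Equiv.Perm (Fin d))) ?_
    rw [show rowPerm d n 1 z = z from MvPolynomial.rename_id_apply z]
    simp⟩
  haveI : Algebra.FiniteType (rowInv d n) (MvPolynomial (Fin d × Fin n) ℤ) :=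
    Algebra.FiniteType.of_restrictScalars_finiteType ℤ _ _
  have hfin : Module.Finite (rowInv d n) (MvPolynomial (Fin d × Fin n) ℤ) := Algebra.IsIntegral.finite
  have h := fg_of_fg_of_fg ℤ (rowInv d n) (MvPolynomial (Fin d × Fin n) ℤ) Algebra.FiniteType.out hfin.fg_top
    Subtype.val_injective
  exact (Subalgebra.fg_top _).1 h

variable {A : Type u} [CommRing A] {d : ℕ} {B C : Type u} [CommRing B] [Algebra A B] [CommRing C] [Algebra A C]
  {γ : PolLaw.MulLaw A B C d}

theorem finiteType_of_isGammaD (hγ : PolLaw.IsGammaD γ) [Algebra.FiniteType A B] : Algebra.FiniteType A C := by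
  classical
  obtain ⟨n, π₀, hπ₀⟩ := Algebra.FiniteType.iff_quotient_mvPolynomial''.1 (show Algebra.FiniteType A B from inferInstance)
  let P := MvPolynomial (ULift.{u} (Fin n)) A
  let π : P →ₐ[A] B := π₀.comp (MvPolynomial.rename ULift.down)
  have hπ : Function.Surjective π :=
    hπ₀.comp (MvPolynomial.rename_surjective _ fun i => ⟨⟨i⟩, rfl⟩)
  let b : Module.Basis (ULift.{u} (Fin n) →₀ ℕ) A P := MvPolynomial.basisMonomials _ A
  let Φ : MvPolynomial (Fin d × Fin n) ℤ →+* (⨂[A] _ : Fin d, P) :=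
    MvPolynomial.eval₂Hom ((algebraMap A _).comp (Int.castRingHom A)) fun p =>
      PiTensorProduct.singleAlgHom (R := A) (A := fun _ : Fin d => P) p.1 (MvPolynomial.X (ULift.up p.2))
  have heq : ∀ (σ : Equiv.Perm (Fin d)) z, SymTen.perm A P d σ (Φ z) = Φ (rowPerm d n σ z) := fun σ z => by
    refine RingHom.congr_fun (f := (SymTen.perm A P d σ).toRingHom.comp Φ) (g := Φ.comp (rowPerm d n σ).toRingHom)
      (MvPolynomial.ringHom_ext (fun r => by simp [Φ, rowPerm]) fun p => ?_) z
    simp only [RingHom.comp_apply, AlgHom.toRingHom_eq_coe, RingHom.coe_coe, Φ, rowPerm,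
      MvPolynomial.eval₂Hom_X', MvPolynomial.rename_X, PiTensorProduct.singleAlgHom_apply,
      MonoidHom.mulSingle_apply, SymTen.perm_tprod]
    congr 1
    funext a
    by_cases h : a = σ p.1
    · subst h; simp
    · rw [Pi.mulSingle_eq_of_ne (fun h' => h (by rw [← h', Equiv.apply_symm_apply])), Pi.mulSingle_eq_of_ne h]
  obtain ⟨s, hs⟩ := rowInv_fg d n
  have hmem : ∀ z ∈ rowInv d n, Φ z ∈ SymTen.TS A P d := fun z hz σ => by
    rw [← SymTen.perm_apply, heq, hz σ]
  let G : Set (SymTen.TS A P d) := {t | ∃ z ∈ s, (t : ⨂[A] _ : Fin d, P) = Φ z}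
  have hGfin : G.Finite := by
    refine Set.Finite.of_finite_image (f := fun t : SymTen.TS A P d => (t : ⨂[A] _ : Fin d, P)) ?_
      fun a _ c _ h => Subtype.ext h
    refine (s.finite_toSet.image Φ).subset ?_
    rintro _ ⟨t, ⟨z, hz, ht⟩, rfl⟩
    exact ⟨z, hz, ht.symm⟩
  have hz : ∀ z ∈ rowInv d n, Φ z ∈ (Algebra.adjoin A G).map (SymTen.TS A P d).val := by
    intro z hz
    rw [← hs] at hz
    induction hz using Algebra.adjoin_induction with
    | mem x hx =>
      have hx' : x ∈ rowInv d n := hs ▸ Algebra.subset_adjoin hx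
      exact ⟨⟨Φ x, hmem x hx'⟩, Algebra.subset_adjoin ⟨x, hx, rfl⟩, rfl⟩
    | algebraMap r =>
      rw [show Φ (algebraMap ℤ _ r) = algebraMap A _ (r : A) by simp]
      exact Subalgebra.algebraMap_mem _ _
    | add x y _ _ hx hy => rw [map_add]; exact Subalgebra.add_mem _ hx hy
    | mul x y _ _ hx hy => rw [map_mul]; exact Subalgebra.mul_mem _ hx hy
  have hall : Algebra.adjoin A G = ⊤ := by
    have h := TS_eq_top_of_oTS (d := d) b (Subalgebra.toSubmodule (Algebra.adjoin A G)) fun r e _ f₀ => by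
      let m : Fin r → Fin d → MvPolynomial (Fin d × Fin n) ℤ := fun i a =>
        ∏ j : Fin n, MvPolynomial.X (a, j) ^ (e i (ULift.up j))
      let p : MvPolynomial (Fin d × Fin n) ℤ :=
        ∑ f ∈ Finset.univ.filter (fun f : Fin d → Fin r => cnt f = cnt f₀), ∏ a, m (f a) a
      have hΦ : Φ p = osum (fun i => b (e i)) (cnt f₀) := by
        simp only [p, osum, map_sum, map_prod]
        refine Finset.sum_congr (by ext; simp) fun f _ => ?_
        rw [← prod_singleAlgHom]
        refine Finset.prod_congr rfl fun a _ => ?_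
        rw [show b (e (f a)) = ∏ j : Fin n, (MvPolynomial.X (ULift.up j) : P) ^ (e (f a) (ULift.up j)) by
          rw [show b (e (f a)) = MvPolynomial.monomial (e (f a)) 1 from
            congrFun (MvPolynomial.coe_basisMonomials _ A) _]
          rw [MvPolynomial.monomial_eq, map_one, one_mul, Finsupp.prod_fintype _ _ fun i => pow_zero _]
          exact (Equiv.prod_comp Equiv.ulift.symm
            fun i : ULift.{u} (Fin n) => (MvPolynomial.X i : P) ^ e (f a) i).symm]
        simp only [m, map_prod, map_pow, Φ, MvPolynomial.eval₂Hom_X']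
      have hp : p ∈ rowInv d n := fun σ => by
        simp only [p, map_sum, map_prod]
        refine Finset.sum_equiv (Equiv.arrowCongr σ (Equiv.refl (Fin r))) (fun f => ?_) fun f _ => ?_
        · simp only [Finset.mem_filter, Finset.mem_univ, true_and]
          rw [show Equiv.arrowCongr σ (Equiv.refl (Fin r)) f = f ∘ σ.symm from rfl, cnt_comp]
        · rw [← Equiv.prod_comp σ fun a => m (Equiv.arrowCongr σ (Equiv.refl (Fin r)) f a) a]
          refine Finset.prod_congr rfl fun a _ => ?_
          simp [m, rowPerm]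
      obtain ⟨t, ht, hte⟩ := hz p hp
      show oTS (fun i => b (e i)) (cnt f₀) ∈ Algebra.adjoin A G
      rwa [show oTS (d := d) (fun i => b (e i)) (cnt f₀) = t from Subtype.ext (hΦ.symm.trans hte.symm)]
    exact Algebra.toSubmodule_eq_top.1 h
  haveI : Algebra.FiniteType A (SymTen.TS A P d) := ⟨⟨hGfin.toFinset, by rw [Set.Finite.coe_toFinset, hall]⟩⟩
  exact Algebra.FiniteType.of_surjective (th b π γ) (th_surjective b π hπ hγ)

end Groth.Agent.GammaLib
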