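import Groth.Agent.GammaLib.SymmResults
import Groth.Agent.GammaLib.Colim
import Mathlib.RingTheory.Flat.Basic

/-!
# For a flat algebra symmetric tensors are the divided powers
-/

set_option autoImplicit false
set_option linter.style.haveILetI false

universe u

open scoped TensorProduct

namespace Groth.Agent.GammaLib

variable {A : Type u} [CommRing A] {d : ℕ}

section module

variable {M : Type u} [AddCommGroup M] [Module A M]

theorem mp_osum {N : Type u} [AddCommGroup N] [Module A N] (g : M →ₗ[A] N) {κ : Type} [Fintype κ] (x : κ → M)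
    (k : κ →₀ ℕ) : mp g (osum (A := A) (d := d) x k) = osum (fun i => g (x i)) k := map_osum g x k

theorem map_rT_mem {ι : Type u} {N : Type u} [AddCommGroup N] [Module A N] (b : Module.Basis ι A M)
    (L : (⨂[A] _ : Fin d, M) →ₗ[A] N) (W : Submodule A N)
    (h : ∀ (r : ℕ) (e : Fin r → ι), Function.Injective e → ∀ f₀ : Fin d → Fin r,
      L (osum (fun i => b (e i)) (cnt f₀)) ∈ W) {z : ⨂[A] _ : Fin d, M} (hz : IsSymm z) : L z ∈ W := by
  classical
  rw [← rT_of_isSymm b hz, ← (bT b).linearCombination_repr z, Finsupp.linearCombination_apply, Finsupp.sum,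
    map_sum, map_sum]
  refine W.sum_mem fun f _ => ?_
  rw [map_smul, map_smul]
  refine W.smul_mem _ ?_
  rw [rT, Module.Basis.constr_basis]
  split_ifs with hf
  · obtain ⟨r, e, f₀, he, rfl⟩ := exists_enum f
    rw [orb_eq_osum b e he f₀]
    exact h r e he f₀
  · rw [map_zero]; exact W.zero_mem

/-- the symmetric tensors as a submodule -/
noncomputable def symSub (A : Type u) [CommRing A] (M : Type u) [AddCommGroup M] [Module A M] (d : ℕ) :
    Submodule A (⨂[A] _ : Fin d, M) where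
  carrier := {t | IsSymm t}
  add_mem' hx hy σ := by rw [map_add, hx σ, hy σ]
  zero_mem' σ := map_zero _
  smul_mem' r x hx σ := by rw [map_smul, hx σ]

theorem flat_symSub (n : ℕ) : Module.Flat A (symSub A (Fin n →₀ A) d) := by
  haveI : Module.Free A (⨂[A] _ : Fin d, (Fin n →₀ A)) := Module.Free.of_basis (bT (bFin A n))
  haveI : Module.Projective A (symSub A (Fin n →₀ A) d) :=
    Module.Projective.of_split (symSub A (Fin n →₀ A) d).subtype
      ((rT (bFin A n)).codRestrict (symSub A (Fin n →₀ A) d) (isSymm_rT (bFin A n)))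
      (LinearMap.ext fun t => Subtype.ext (rT_of_isSymm (bFin A n) t.2))
  infer_instance

theorem exists_symm_lift_family [Module.Flat A M] : ∀ (l : ℕ) (y : Fin l → ⨂[A] _ : Fin d, M), (∀ i, IsSymm (y i)) →
    ∃ (n : ℕ) (g : (Fin n →₀ A) →ₗ[A] M) (z : Fin l → ⨂[A] _ : Fin d, (Fin n →₀ A)),
      ∀ i, mp g (z i) = y i ∧ IsSymm (z i) := by
  intro l
  induction l with
  | zero => exact fun y _ => ⟨0, 0, Fin.elim0, fun i => i.elim0⟩
  | succ l ih =>
    intro y hy
    obtain ⟨n, g, z, hz⟩ := ih (fun i => y i.succ) fun i => hy i.succ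
    obtain ⟨m, g', z', hz', hz''⟩ := exists_symm_lift (y 0) (hy 0)
    let i1 : (Fin n →₀ A) →ₗ[A] (Fin (n + m) →₀ A) := Finsupp.lmapDomain A A (Fin.castAdd m)
    let i2 : (Fin m →₀ A) →ₗ[A] (Fin (n + m) →₀ A) := Finsupp.lmapDomain A A (Fin.natAdd n)
    let G : (Fin (n + m) →₀ A) →ₗ[A] M := Finsupp.linearCombination A
      (Fin.append (fun i => g (Finsupp.single i 1)) fun i => g' (Finsupp.single i 1))
    have h1 : G ∘ₗ i1 = g := Finsupp.lhom_ext' fun i => LinearMap.ext_ring (by simp [G, i1])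
    have h2 : G ∘ₗ i2 = g' := Finsupp.lhom_ext' fun i => LinearMap.ext_ring (by simp [G, i2])
    refine ⟨n + m, G, Fin.cons (mp i2 z') fun i => mp i1 (z i), fun i => ?_⟩
    refine Fin.cases ?_ (fun j => ?_) i
    · rw [Fin.cons_zero]
      exact ⟨by rw [← mp_comp, h2, hz'], fun σ => by rw [← mp_reindex, hz'' σ]⟩
    · rw [Fin.cons_succ]
      exact ⟨by rw [← mp_comp, h1, (hz j).1], fun σ => by rw [← mp_reindex, (hz j).2 σ]⟩

theorem flat_symSub_of_flat [Module.Flat A M] : Module.Flat A (symSub A M d) := by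
  refine Module.Flat.of_forall_exists_factorization fun {l} {f} {x} hx => ?_
  obtain ⟨n, g, z, hz⟩ := exists_symm_lift_family l (fun i => (x (Finsupp.single i 1)).1) fun i => (x _).2
  let X₀ : (Fin l →₀ A) →ₗ[A] (⨂[A] _ : Fin d, (Fin n →₀ A)) := Finsupp.linearCombination A z
  have h0 : mp g (X₀ f) = 0 := by
    have h : mp g ∘ₗ X₀ = (symSub A M d).subtype ∘ₗ x :=
      Finsupp.lhom_ext' fun i => LinearMap.ext_ring (by simp [X₀, (hz i).1])
    show (mp g ∘ₗ X₀) f = 0
    rw [h, LinearMap.comp_apply, hx, map_zero]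
  obtain ⟨k, a, g', hg, ha⟩ := exists_kill g (X₀ f) h0
  let X : (Fin l →₀ A) →ₗ[A] symSub A (Fin k →₀ A) d := Finsupp.linearCombination A fun i =>
    (⟨mp a (z i), fun σ => by rw [← mp_reindex, (hz i).2 σ]⟩ : symSub A (Fin k →₀ A) d)
  let Y : symSub A (Fin k →₀ A) d →ₗ[A] symSub A M d :=
    (mp g' ∘ₗ (symSub A (Fin k →₀ A) d).subtype).codRestrict (symSub A M d) fun t σ => by
      simp only [LinearMap.comp_apply, Submodule.subtype_apply]
      rw [← mp_reindex, t.2 σ]
  have hXv : (symSub A (Fin k →₀ A) d).subtype ∘ₗ X = mp a ∘ₗ X₀ :=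
    Finsupp.lhom_ext' fun i => LinearMap.ext_ring (by simp [X, X₀])
  have hX : X f = 0 := Subtype.ext (by
    show ((symSub A (Fin k →₀ A) d).subtype ∘ₗ X) f = 0
    rw [hXv, LinearMap.comp_apply, ha])
  have hYX : x = Y ∘ₗ X := by
    refine Finsupp.lhom_ext' fun i => LinearMap.ext_ring (Subtype.ext ?_)
    simp only [X, Y, LinearMap.comp_apply, Finsupp.lsingle_apply, Finsupp.linearCombination_single, one_smul,
      LinearMap.codRestrict_apply, Submodule.subtype_apply]
    rw [← mp_comp, ← hg, (hz i).1]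
  haveI := flat_symSub (A := A) (d := d) k
  letI : AddCommGroup (symSub A (Fin k →₀ A) d) := Module.addCommMonoidToAddCommGroup A
  obtain ⟨k', a', y', hy', ha'⟩ := Module.Flat.exists_factorization_of_apply_eq_zero_of_free
    (R := A) (M := symSub A (Fin k →₀ A) d) (N := Fin l →₀ A) (f := f) (x := X) hX
  exact ⟨k', a', Y ∘ₗ y', by rw [hYX, hy', LinearMap.comp_assoc], ha'⟩

end module

variable {B C : Type u} [CommRing B] [Algebra A B] [CommRing C] [Algebra A C] {γ : PolLaw.MulLaw A B C d}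

theorem exists_phiTS (hγ : PolLaw.IsGammaD γ) : ∃ φ : C →ₐ[A] SymTen.TS A B d,
    PolLaw.MulLaw.postcomp ((SymTen.TS A B d).val.comp φ) γ = SymTen.tpowLaw A B d := by
  obtain ⟨f, hf, -⟩ := hγ (⨂[A] _ : Fin d, B) (SymTen.tpowLaw A B d)
  have hmem : ∀ c, f c ∈ SymTen.TS A B d := fun c => by
    have h := eq_top_of_coef hγ ((Subalgebra.toSubmodule (SymTen.TS A B d)).comap f.toLinearMap)
      fun r x k hk => by
        show f.toLinearMap (coef γ.law x k) ∈ SymTen.TS A B d
        rw [← coef_postcomp f.toLinearMap γ.law x k, hf, coef_tpow x hk]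
        exact fun σ => reindex_osum σ x k
    exact (h ▸ Submodule.mem_top : c ∈ (Subalgebra.toSubmodule (SymTen.TS A B d)).comap f.toLinearMap)
  exact ⟨f.codRestrict _ hmem, PolLaw.MulLaw.ext hf⟩

variable (φ : C →ₐ[A] SymTen.TS A B d)
  (hφ : PolLaw.MulLaw.postcomp ((SymTen.TS A B d).val.comp φ) γ = SymTen.tpowLaw A B d)

include hφ in
theorem surjective_of_flat [Module.Flat A B] : Function.Surjective φ := by
  intro y
  obtain ⟨n, g, z, hz, hzs⟩ := exists_symm_lift (M := B) y.1 y.2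
  have h := map_rT_mem (bFin A n) (mp g) (LinearMap.range ((SymTen.TS A B d).val.comp φ).toLinearMap)
    (fun r e _ f₀ => ⟨coef γ.law (fun i => g (bFin A n (e i))) (cnt f₀), by
      rw [← coef_postcomp, show PolLaw.postcomp ((SymTen.TS A B d).val.comp φ).toLinearMap γ.law =
        (SymTen.tpowLaw A B d).law from congrArg PolLaw.MulLaw.law hφ, coef_tpow _ (sum_cnt f₀), mp_osum]⟩) hzs
  rw [hz] at h
  obtain ⟨c, hc⟩ := h
  exact ⟨c, Subtype.ext hc⟩

include hφ in
theorem injective_of_flat [Module.Flat A B] (hγ : PolLaw.IsGammaD γ) : Function.Injective φ := by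
  rw [injective_iff_map_eq_zero]
  intro c hc
  obtain ⟨t, rfl⟩ := th_surjective (bTaut A B) (piTaut A B) (piTaut_surjective A B) hγ c
  haveI : Module.Free A (MvPolynomial B A) := Module.Free.of_basis (bTaut A B)
  obtain ⟨n, h, z, hz, hzs⟩ := exists_symm_lift (M := MvPolynomial B A) t.1 t.2
  have h0 : mp ((piTaut A B).toLinearMap ∘ₗ h) z = 0 := by
    rw [mp_comp, hz]
    have h1 := phi_th (bTaut A B) (piTaut A B) γ φ hφ t
    rw [hc] at h1
    have e : mp (piTaut A B).toLinearMap = (SymTen.tmap A d (piTaut A B)).toLinearMap :=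
      PiTensorProduct.ext (MultilinearMap.ext fun f => by simp)
    rw [e]
    exact h1.symm
  obtain ⟨k, a, g', hg, ha⟩ := exists_kill _ z h0
  choose v hv using fun i => piTaut_surjective A B (g' (Finsupp.single i 1))
  let h' : (Fin k →₀ A) →ₗ[A] MvPolynomial B A := Finsupp.linearCombination A v
  have hh' : (piTaut A B).toLinearMap ∘ₗ h' = g' := Finsupp.lhom_ext' fun i => LinearMap.ext_ring (by simp [h', hv])
  have key := map_rT_mem (bFin A n)
    ((th (bTaut A B) (piTaut A B) γ).toLinearMap ∘ₗ rTS (bTaut A B) ∘ₗ mp h -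
      (th (bTaut A B) (piTaut A B) γ).toLinearMap ∘ₗ rTS (bTaut A B) ∘ₗ mp (h' ∘ₗ a)) ⊥
    (fun r e _ f₀ => by
      have e1 : ∀ h₁ : (Fin n →₀ A) →ₗ[A] MvPolynomial B A,
          th (bTaut A B) (piTaut A B) γ (rTS (bTaut A B) (mp h₁ (osum (fun i => bFin A n (e i)) (cnt f₀)))) =
            coef γ.law (fun i => piTaut A B (h₁ (bFin A n (e i)))) (cnt f₀) := fun h₁ => by
        rw [mp_osum, show osum (fun i => h₁ (bFin A n (e i))) (cnt f₀) =
          (oTS (d := d) (fun i => h₁ (bFin A n (e i))) (cnt f₀)).1 from rfl, rTS_val,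
          th_oTS _ _ _ _ (sum_cnt f₀)]
      rw [Submodule.mem_bot, LinearMap.sub_apply, LinearMap.comp_apply, LinearMap.comp_apply,
        LinearMap.comp_apply, LinearMap.comp_apply, AlgHom.toLinearMap_apply, AlgHom.toLinearMap_apply, e1, e1,
        sub_eq_zero]
      congr 1
      funext i
      have := LinearMap.congr_fun (hg.trans (congrArg (fun L => L ∘ₗ a) hh'.symm)) (bFin A n (e i))
      exact this) hzs
  rw [Submodule.mem_bot, LinearMap.sub_apply, sub_eq_zero, LinearMap.comp_apply, LinearMap.comp_apply,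
    LinearMap.comp_apply, LinearMap.comp_apply, hz, mp_comp h' a z, ha, map_zero, map_zero, map_zero,
    AlgHom.toLinearMap_apply, rTS_val] at key
  exact key

include hφ in
theorem bijective_of_flat [Module.Flat A B] (hγ : PolLaw.IsGammaD γ) : Function.Bijective φ :=
  ⟨injective_of_flat φ hφ hγ, surjective_of_flat φ hφ⟩

include hφ in
theorem bijective_of_isUnit_factorial (h : IsUnit ((d.factorial : ℕ) : A)) (hγ : PolLaw.IsGammaD γ) :
    Function.Bijective φ := by
  obtain ⟨w, hw⟩ := h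
  refine ⟨(injective_iff_map_eq_zero φ).2 fun x hx => ?_, fun y => ?_⟩
  · have h0 := factorial_smul_eq_zero γ φ hφ hγ hx
    rw [← Nat.cast_smul_eq_nsmul A, ← hw] at h0
    simpa [smul_smul] using congrArg (fun z => (↑w⁻¹ : A) • z) h0
  · obtain ⟨u, hu⟩ := factorial_smul_mem_range γ φ hφ y
    refine ⟨(↑w⁻¹ : A) • u, ?_⟩
    rw [map_smul, show φ u = d.factorial • y from hu, ← Nat.cast_smul_eq_nsmul A, ← hw, smul_smul,
      Units.inv_mul, one_smul]

theorem isGammaD_postcomp {C' : Type u} [CommRing C'] [Algebra A C'] (hγ : PolLaw.IsGammaD γ) (e : C ≃ₐ[A] C') :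
    PolLaw.IsGammaD (PolLaw.MulLaw.postcomp e.toAlgHom γ) := by
  intro D _ _ F
  obtain ⟨f, hf, hu⟩ := hγ D F
  refine ⟨f.comp e.symm.toAlgHom, ?_, fun g hg => ?_⟩
  · rw [← hf]
    refine PolynomialLaw.ext ?_
    funext S _ _ x
    show (f.comp e.symm.toAlgHom).toLinearMap.lTensor S (e.toAlgHom.toLinearMap.lTensor S (γ.law.toFun' S x)) =
      f.toLinearMap.lTensor S (γ.law.toFun' S x)
    rw [← LinearMap.comp_apply, ← LinearMap.lTensor_comp, ← AlgHom.comp_toLinearMap]
    congr 3
    ext c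
    simp
  · have h : g.comp e.toAlgHom = f := by
      refine hu _ ?_
      rw [← hg]
      refine PolynomialLaw.ext ?_
      funext S _ _ x
      show (g.comp e.toAlgHom).toLinearMap.lTensor S (γ.law.toFun' S x) =
        g.toLinearMap.lTensor S (e.toAlgHom.toLinearMap.lTensor S (γ.law.toFun' S x))
      rw [AlgHom.comp_toLinearMap, LinearMap.lTensor_comp, LinearMap.comp_apply]
    rw [← h]
    ext c
    simp

theorem flat_of_isGammaD (hγ : PolLaw.IsGammaD γ) [Module.Flat A B] : Module.Flat A C := by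
  obtain ⟨φ, hφ⟩ := exists_phiTS hγ
  haveI : Module.Flat A (SymTen.TS A B d) := by
    haveI := flat_symSub_of_flat (A := A) (M := B) (d := d)
    exact Module.Flat.of_linearEquiv (M := symSub A B d)
      ({ toFun := fun t => ⟨t.1, t.2⟩, invFun := fun t => ⟨t.1, t.2⟩, map_add' := fun _ _ => rfl,
         map_smul' := fun _ _ => rfl, left_inv := fun _ => rfl, right_inv := fun _ => rfl } :
        SymTen.TS A B d ≃ₗ[A] symSub A B d)
  exact Module.Flat.of_linearEquiv (AlgEquiv.ofBijective φ (bijective_of_flat φ hφ hγ)).toLinearEquiv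

theorem exists_tLaw_of_flat_or_isUnit (h : Module.Flat A B ∨ IsUnit ((d.factorial : ℕ) : A)) :
    ∃ τ : PolLaw.MulLaw A B (SymTen.TS A B d) d,
      PolLaw.MulLaw.postcomp (SymTen.TS A B d).val τ = SymTen.tpowLaw A B d ∧ PolLaw.IsGammaD τ := by
  obtain ⟨C₀, i1, i2, γ₀, hγ₀⟩ := exists_isGammaD A B d
  obtain ⟨φ, hφ⟩ := exists_phiTS hγ₀
  have hb : Function.Bijective φ := by
    rcases h with h | h
    · exact bijective_of_flat φ hφ hγ₀
    · exact bijective_of_isUnit_factorial φ hφ h hγ₀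
  refine ⟨PolLaw.MulLaw.postcomp (AlgEquiv.ofBijective φ hb).toAlgHom γ₀, ?_, isGammaD_postcomp hγ₀ _⟩
  rw [← hφ]
  refine PolLaw.MulLaw.ext (PolynomialLaw.ext ?_)
  funext S _ _ x
  show (SymTen.TS A B d).val.toLinearMap.lTensor S
      ((AlgEquiv.ofBijective φ hb).toAlgHom.toLinearMap.lTensor S (γ₀.law.toFun' S x)) =
    ((SymTen.TS A B d).val.comp φ).toLinearMap.lTensor S (γ₀.law.toFun' S x)
  rw [AlgHom.comp_toLinearMap, LinearMap.lTensor_comp, LinearMap.comp_apply]
  rfl

end Groth.Agent.GammaLib
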