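import Groth.Agent.GammaLib.CH2
import Mathlib.LinearAlgebra.Vandermonde

/-!
# Kernels of base changes of laws
-/

set_option autoImplicit false
set_option linter.style.haveILetI false

universe u

open scoped TensorProduct

namespace Groth.Agent.GammaLib

variable {A : Type u} [CommRing A] {B : Type u} [CommRing B] [Algebra A B] {d : ℕ} (F : PolLaw.MulLaw A B A d)

/-- the elements whose multiples do not change the value of the law -/
noncomputable def invIdeal (R : Type u) [CommRing R] [Algebra A R] : Ideal (R ⊗[A] B) where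
  carrier := {y | ∀ x w : R ⊗[A] B, valF F R (x + w * y) = valF F R x}
  zero_mem' x w := by simp
  add_mem' {y y'} hy hy' x w := by rw [mul_add, ← add_assoc, hy', hy]
  smul_mem' c {y} hy x w := by rw [smul_eq_mul, ← mul_assoc, hy]

theorem mem_invIdeal {R : Type u} [CommRing R] [Algebra A R] {y : R ⊗[A] B} :
    y ∈ invIdeal F R ↔ ∀ x w : R ⊗[A] B, valF F R (x + w * y) = valF F R x := Iff.rfl

theorem invIdeal_of_kerBC {A' R : Type u} [CommRing A'] [Algebra A A'] [CommRing R] [Algebra A R] [Algebra A' R]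
    [IsScalarTower A A' R] {z : A' ⊗[A] B} (hz : z ∈ PolLaw.kerBC F.law A') :
    Algebra.TensorProduct.map (IsScalarTower.toAlgHom A A' R) (AlgHom.id A B) z ∈ invIdeal F R :=
  fun x w => congrArg (TensorProduct.rid A R) (hz R x w)

theorem rid_law_injective {R : Type u} [CommSemiring R] [Algebra A R] {y y' : R ⊗[A] B}
    (h : valF F R y = valF F R y') : F.law.toFun' R y = F.law.toFun' R y' :=
  (TensorProduct.rid A R).injective h

variable {A' : Type u} [CommRing A'] [Algebra A A']

/-- image of an element of `A' ⊗ B` over the universal ring -/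
noncomputable abbrev upMv (ι : Type) : A' ⊗[A] B →ₐ[A] MvPolynomial ι A' ⊗[A] B :=
  Algebra.TensorProduct.map (IsScalarTower.toAlgHom A A' (MvPolynomial ι A')) (AlgHom.id A B)

/-- the universal difference -/
noncomputable def Dpoly {r : ℕ} (g : Fin r → B) (z : A' ⊗[A] B) : MvPolynomial (Fin r ⊕ Fin r) A' :=
  valF F _ ((∑ i, (MvPolynomial.X (Sum.inl i) : MvPolynomial (Fin r ⊕ Fin r) A') ⊗ₜ[A] g i) +
      (∑ i, (MvPolynomial.X (Sum.inr i) : MvPolynomial (Fin r ⊕ Fin r) A') ⊗ₜ[A] g i) * upMv _ z) -
    valF F _ (∑ i, (MvPolynomial.X (Sum.inl i) : MvPolynomial (Fin r ⊕ Fin r) A') ⊗ₜ[A] g i)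

theorem Dpoly_eq_zero_of_mem {r : ℕ} (g : Fin r → B) {z : A' ⊗[A] B} (hz : z ∈ PolLaw.kerBC F.law A') :
    Dpoly F g z = 0 :=
  sub_eq_zero.2 (invIdeal_of_kerBC F hz _ _)

/-- specialisation of the universal difference -/
theorem valF_of_Dpoly {r : ℕ} (g : Fin r → B) {z : A' ⊗[A] B} (R : Type u) [CommSemiring R] [Algebra A R] [Algebra A' R]
    [IsScalarTower A A' R] (s t : Fin r → R) (hz : Dpoly F g z = 0) :
    valF F R ((∑ i, s i ⊗ₜ[A] g i) + (∑ i, t i ⊗ₜ[A] g i) *
      Algebra.TensorProduct.map (IsScalarTower.toAlgHom A A' R) (AlgHom.id A B) z) =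
      valF F R (∑ i, s i ⊗ₜ[A] g i) := by
  let φ : MvPolynomial (Fin r ⊕ Fin r) A' →ₐ[A] R := (MvPolynomial.aeval (Sum.elim s t)).restrictScalars A
  have hm : ∀ u, φ.toLinearMap.rTensor B u = Algebra.TensorProduct.map φ (AlgHom.id A B) u := fun u => by
    induction u using TensorProduct.induction_on with
    | zero => simp
    | tmul c b => rfl
    | add p q hp hq => simp only [map_add, hp, hq]
  have h := congrArg φ (sub_eq_zero.1 hz)
  rw [valF_compat, valF_compat, hm, hm, map_add, map_mul, map_sum, map_sum] at h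
  have hX : ∀ i, φ (MvPolynomial.X i) = Sum.elim s t i := fun i => MvPolynomial.aeval_X _ i
  have hup : ∀ u, Algebra.TensorProduct.map φ (AlgHom.id A B) (upMv _ u) =
      Algebra.TensorProduct.map (IsScalarTower.toAlgHom A A' R) (AlgHom.id A B) u := fun u => by
    induction u using TensorProduct.induction_on with
    | zero => simp
    | tmul c b => simp [upMv, φ]
    | add p q hp hq => simp only [map_add, hp, hq]
  simpa [hX, hup] using h

theorem mem_kerBC_iff {r : ℕ} (g : Fin r → B) (hg : Submodule.span A (Set.range g) = ⊤) (z : A' ⊗[A] B) :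
    z ∈ PolLaw.kerBC F.law A' ↔ Dpoly F g z = 0 := by
  refine ⟨Dpoly_eq_zero_of_mem F g, fun h R _ _ _ _ x w => rid_law_injective F ?_⟩
  have hexp : ∀ y : R ⊗[A] B, ∃ s : Fin r → R, y = ∑ i, s i ⊗ₜ[A] g i := fun y => by
    induction y using TensorProduct.induction_on with
    | zero => exact ⟨0, by simp⟩
    | tmul c b =>
      obtain ⟨a, ha⟩ := (Submodule.mem_span_range_iff_exists_fun A).1 (hg ▸ Submodule.mem_top : b ∈ Submodule.span A (Set.range g))
      exact ⟨fun i => a i • c, by simp [← ha, TensorProduct.tmul_sum, TensorProduct.smul_tmul]⟩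
    | add p q hp hq =>
      obtain ⟨s, rfl⟩ := hp
      obtain ⟨t, rfl⟩ := hq
      exact ⟨s + t, by simp [TensorProduct.add_tmul, Finset.sum_add_distrib]⟩
  obtain ⟨s, rfl⟩ := hexp x
  obtain ⟨t, rfl⟩ := hexp w
  exact valF_of_Dpoly F g R s t h

theorem mem_ker_of_forall {b : B}
    (h : ∀ (n : ℕ) (g : Fin n → B), Dpoly F g ((1 : A) ⊗ₜ[A] b) = 0) : b ∈ PolLaw.ker F.law := by
  intro S _ _ x w
  obtain ⟨n, s, x', rfl⟩ := exists_sum_tmul x
  obtain ⟨m, t, w', rfl⟩ := exists_sum_tmul w
  refine rid_law_injective F ?_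
  have := valF_of_Dpoly F (Fin.append x' w') S (Fin.append s 0) (Fin.append 0 t) (h (n + m) (Fin.append x' w'))
  simpa [Fin.sum_univ_add] using this

theorem mem_ker_iff_kerBC_self {b : B} : b ∈ PolLaw.ker F.law ↔ (1 : A) ⊗ₜ[A] b ∈ PolLaw.kerBC F.law A := by
  refine ⟨fun h R _ iA iA' hT x w => ?_, fun h => mem_ker_of_forall F fun n g => Dpoly_eq_zero_of_mem F g h⟩
  have e : iA' = iA := Algebra.algebra_ext _ _ fun a =>
    (@IsScalarTower.algebraMap_apply A A R _ _ _ _ iA' iA hT a).symm
  subst e
  simpa using h R x w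

theorem map_kerBC_le {A'' : Type u} [CommRing A''] [Algebra A A''] (φ : A' →ₐ[A] A'') :
    (PolLaw.kerBC F.law A').map (Algebra.TensorProduct.map φ (AlgHom.id A B)) ≤ PolLaw.kerBC F.law A'' := by
  rw [Ideal.map_le_iff_le_comap]
  intro z hz R _ iA iA'' _ x w
  letI : Algebra A' R := ((algebraMap A'' R).comp φ.toRingHom).toAlgebra
  haveI : IsScalarTower A A' R := IsScalarTower.of_algebraMap_eq fun a => by
    show _ = algebraMap A'' R (φ (algebraMap A A' a))
    rw [φ.commutes, ← IsScalarTower.algebraMap_apply]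
  have e : ∀ u, Algebra.TensorProduct.map (IsScalarTower.toAlgHom A A'' R) (AlgHom.id A B)
      (Algebra.TensorProduct.map φ (AlgHom.id A B) u) =
      Algebra.TensorProduct.map (IsScalarTower.toAlgHom A A' R) (AlgHom.id A B) u := fun u => by
    induction u using TensorProduct.induction_on with
    | zero => simp
    | tmul c b => rfl
    | add p q hp hq => simp only [map_add, hp, hq]
  rw [e]
  exact hz R x w

theorem map_ker_le_kerBC : mapKer F A' ≤ PolLaw.kerBC F.law A' := by
  rw [mapKer, Ideal.map_le_iff_le_comap]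
  intro b hb R _ _ _ _ x w
  simpa using hb R x w

/-- the universal difference commutes with base change -/
theorem map_Dpoly {A'' : Type u} [CommRing A''] [Algebra A A''] (φ : A' →ₐ[A] A'') {r : ℕ} (g : Fin r → B)
    (z : A' ⊗[A] B) :
    MvPolynomial.map φ.toRingHom (Dpoly F g z) = Dpoly F g (Algebra.TensorProduct.map φ (AlgHom.id A B) z) := by
  let ψ : MvPolynomial (Fin r ⊕ Fin r) A' →ₐ[A] MvPolynomial (Fin r ⊕ Fin r) A'' :=
    { MvPolynomial.map φ.toRingHom with
      commutes' := fun a => by
        show MvPolynomial.map φ.toRingHom (MvPolynomial.C (algebraMap A A' a)) = _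
        rw [MvPolynomial.map_C]
        exact congrArg MvPolynomial.C (φ.commutes a) }
  show ψ _ = _
  have hm : ∀ u, ψ.toLinearMap.rTensor B u = Algebra.TensorProduct.map ψ (AlgHom.id A B) u := fun u => by
    induction u using TensorProduct.induction_on with
    | zero => simp
    | tmul c b => rfl
    | add p q hp hq => simp only [map_add, hp, hq]
  have hX : ∀ i, ψ (MvPolynomial.X i) = MvPolynomial.X i := fun i => MvPolynomial.map_X _ i
  have hup : ∀ u, Algebra.TensorProduct.map ψ (AlgHom.id A B) (upMv _ u) =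
      upMv _ (Algebra.TensorProduct.map φ (AlgHom.id A B) u) := fun u => by
    induction u using TensorProduct.induction_on with
    | zero => simp
    | tmul c b =>
      simp only [upMv, Algebra.TensorProduct.map_tmul, AlgHom.id_apply]
      congr 1
      exact MvPolynomial.map_C _ c
    | add p q hp hq => simp only [map_add, hp, hq]
  rw [Dpoly, map_sub, valF_compat, valF_compat, hm, hm, map_add, map_mul, map_sum, map_sum, hup]
  simp [hX, Dpoly]

theorem comp_monic_eq_zero {R : Type u} [CommRing R] {p q : Polynomial R} (hq : q.Monic) (hq0 : q.natDegree ≠ 0)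
    (h : p.comp q = 0) : p = 0 := by
  by_contra hp
  have := Polynomial.coeff_comp_degree_mul_degree (p := p) hq0
  rw [h, Polynomial.coeff_zero, hq, one_pow, mul_one] at this
  exact Polynomial.leadingCoeff_ne_zero.2 hp this.symm

/-- coefficients of an element of the kernel over a polynomial ring are in the kernel -/
theorem mem_ker_of_sum_mem_kerBC {N : ℕ} (b : Fin N → B)
    (h : (∑ l, ((Polynomial.X : Polynomial A) ^ l.1) ⊗ₜ[A] b l) ∈ PolLaw.kerBC F.law (Polynomial A)) (l : Fin N) :
    b l ∈ PolLaw.ker F.law := by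
  classical
  refine mem_ker_of_forall F fun n g => ?_
  let S₀ := MvPolynomial (Fin n ⊕ Fin n) A
  let R := Polynomial S₀
  let M : Matrix (Fin N) (Fin N) R := Matrix.vandermonde fun i => (Polynomial.X : R) ^ i.1
  let v : Fin N → R ⊗[A] B := fun j => (1 : R) ⊗ₜ[A] b j
  have hrow : ∀ i : Fin N, ∑ j, M i j • v j ∈ invIdeal F R := fun i => by
    letI : Algebra (Polynomial A) R :=
      ((Polynomial.aeval ((Polynomial.X : R) ^ i.1)).toRingHom : Polynomial A →+* R).toAlgebra
    haveI : IsScalarTower A (Polynomial A) R := IsScalarTower.of_algebraMap_eq fun a =>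
      ((Polynomial.aeval ((Polynomial.X : R) ^ i.1)).commutes a).symm
    have h' := invIdeal_of_kerBC F (R := R) h
    refine Eq.mp (congrArg (· ∈ invIdeal F R) ?_) h'
    rw [map_sum]
    refine Finset.sum_congr rfl fun j _ => ?_
    have e : (IsScalarTower.toAlgHom A (Polynomial A) R) ((Polynomial.X : Polynomial A) ^ j.1) = M i j := by
      show Polynomial.aeval ((Polynomial.X : R) ^ i.1) ((Polynomial.X : Polynomial A) ^ j.1) = _
      simp [M, Matrix.vandermonde_apply]
    rw [Algebra.TensorProduct.map_tmul, e, AlgHom.id_apply]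
    simp [v, TensorProduct.smul_tmul']
  have hdet : M.det • v l ∈ invIdeal F R := by
    have : M.det • v l = ∑ i, M.adjugate l i • ∑ j, M i j • v j := by
      simp only [Finset.smul_sum, smul_smul]
      rw [Finset.sum_comm]
      simp only [← Finset.sum_smul, ← Matrix.mul_apply, Matrix.adjugate_mul, Matrix.smul_apply, Matrix.one_apply,
        smul_eq_mul, mul_ite, mul_one, mul_zero, ite_smul, zero_smul, Finset.sum_ite_eq, Finset.mem_univ, if_true]
    rw [this]
    exact Submodule.sum_mem _ fun i _ => Submodule.smul_of_tower_mem _ _ (hrow i)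
  let U : S₀ ⊗[A] B →ₐ[A] R ⊗[A] B := Algebra.TensorProduct.map (IsScalarTower.toAlgHom A S₀ R) (AlgHom.id A B)
  let x₀ : S₀ ⊗[A] B := ∑ i, (MvPolynomial.X (Sum.inl i) : S₀) ⊗ₜ[A] g i
  let w₀ : S₀ ⊗[A] B := ∑ i, (MvPolynomial.X (Sum.inr i) : S₀) ⊗ₜ[A] g i
  let P : R := valF F R (U x₀ + (Polynomial.X : R) • (U w₀ * v l)) - valF F R (U x₀)
  let q : R := Polynomial.X * M.det
  have hmon : M.det.Monic := by
    rw [Matrix.det_vandermonde]
    refine Polynomial.monic_prod_of_monic _ _ fun i _ => Polynomial.monic_prod_of_monic _ _ fun j hj => ?_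
    have hij : i < j := Finset.mem_Ioi.1 hj
    exact Polynomial.monic_X_pow_sub (lt_of_le_of_lt (Polynomial.degree_X_pow_le _) (by exact_mod_cast hij))
  have hq : q.Monic := Polynomial.monic_X.mul hmon
  have hcomp : P.comp q = 0 := by
    let ψ : R →ₐ[A] R := (Polynomial.aeval q).restrictScalars A
    have hψ : ∀ p : R, p.comp q = ψ p := fun p => by
      show _ = Polynomial.aeval q p
      rw [Polynomial.comp_eq_aeval]
    have hU : ∀ u, Algebra.TensorProduct.map ψ (AlgHom.id A B) (U u) = U u := fun u => by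
      induction u using TensorProduct.induction_on with
      | zero => simp
      | tmul c b => simp [U, ψ]
      | add p q hp hq => simp only [map_add, hp, hq]
    rw [hψ, map_sub, valF_compat, valF_compat, rTensor_eq_map, rTensor_eq_map, map_add, hU, sub_eq_zero]
    have e : Algebra.TensorProduct.map ψ (AlgHom.id A B) ((Polynomial.X : R) • (U w₀ * v l)) =
        ((Polynomial.X : R) • U w₀) * (M.det • v l) := by
      rw [← rTensor_eq_map, rTensor_smul, rTensor_eq_map, map_mul, hU, smul_mul_smul_comm]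
      rw [show ψ (Polynomial.X : R) = q from Polynomial.aeval_X q]
      simp [q, v]
    rw [e]
    exact hdet _ _
  have hP0 : P = 0 := by
    rcases subsingleton_or_nontrivial S₀ with hs | hs
    · exact Subsingleton.elim _ _
    · refine comp_monic_eq_zero hq ?_ hcomp
      rw [Polynomial.Monic.natDegree_mul Polynomial.monic_X hmon, Polynomial.natDegree_X]
      omega
  have hP := congrArg (Polynomial.aeval (1 : S₀)) hP0
  let ev : R →ₐ[A] S₀ := (Polynomial.aeval (1 : S₀)).restrictScalars A
  have hP' : ev P = 0 := hP.trans (map_zero _)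
  have hU' : ∀ u, Algebra.TensorProduct.map ev (AlgHom.id A B) (U u) = u := fun u => by
    induction u using TensorProduct.induction_on with
    | zero => simp
    | tmul c b => simp [U, ev]
    | add p q hp hq => simp only [map_add, hp, hq]
  rw [map_sub, valF_compat, valF_compat, rTensor_eq_map, rTensor_eq_map, map_add, hU',
    ← rTensor_eq_map ev ((Polynomial.X : R) • (U w₀ * v l)), rTensor_smul, rTensor_eq_map, map_mul, hU'] at hP'
  rw [show ev (Polynomial.X : R) = 1 from Polynomial.aeval_X 1, one_smul] at hP'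
  simpa [Dpoly, ev, v, x₀, w₀, S₀] using hP'

end Groth.Agent.GammaLib
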