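import Groth.Agent.GammaLib.KerBC
import Mathlib.Algebra.Polynomial.Taylor
import Mathlib.RingTheory.TensorProduct.MvPolynomial
import Mathlib.RingTheory.Flat.Basic

/-!
# The kernel of a law in characteristic zero is cut out by its first derivative
-/

set_option autoImplicit false
set_option linter.style.haveILetI false

universe u

open scoped TensorProduct

namespace Groth.Agent.GammaLib

variable {A : Type u} [CommRing A] {B : Type u} [CommRing B] [Algebra A B] {d : ℕ} (F : PolLaw.MulLaw A B A d)
  {r : ℕ} (g : Fin r → B)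

/-- the ring of the universal difference -/
abbrev PMv (r : ℕ) (A' : Type u) [CommRing A'] : Type u := MvPolynomial (Fin r ⊕ Fin r) A'

/-- the generic point -/
noncomputable def xgen (A' : Type u) [CommRing A'] [Algebra A A'] : PMv r A' ⊗[A] B :=
  ∑ i, (MvPolynomial.X (Sum.inl i) : PMv r A') ⊗ₜ[A] g i

/-- the generic direction -/
noncomputable def wgen (A' : Type u) [CommRing A'] [Algebra A A'] : PMv r A' ⊗[A] B :=
  ∑ i, (MvPolynomial.X (Sum.inr i) : PMv r A') ⊗ₜ[A] g i

/-- constants in `R[τ]` -/
noncomputable abbrev upPoly (R : Type u) [CommRing R] [Algebra A R] : R ⊗[A] B →ₐ[A] Polynomial R ⊗[A] B :=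
  Algebra.TensorProduct.map (IsScalarTower.toAlgHom A R (Polynomial R)) (AlgHom.id A B)

/-- the first order variation of the law at the generic point -/
noncomputable def dval (A' : Type u) [CommRing A'] [Algebra A A'] (y : PMv r A' ⊗[A] B) : PMv r A' :=
  (valF F (Polynomial (PMv r A'))
    (upPoly _ (xgen g A') + (Polynomial.X : Polynomial (PMv r A')) • upPoly _ y)).coeff 1

theorem prod_pow_eq_sum {P : Type u} [CommSemiring P] (s : Fin r → P) (k : Fin r → ℕ) (hk : ∑ l, k l = 1) :
    ∏ l, s l ^ k l = ∑ l, (k l : P) * s l := by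
  obtain ⟨l₀, -, hl₀⟩ := Finset.exists_ne_zero_of_sum_ne_zero (hk.trans_ne one_ne_zero)
  have h1 := Finset.single_le_sum (fun l _ => Nat.zero_le (k l)) (Finset.mem_univ l₀)
  rw [← Finset.add_sum_erase _ _ (Finset.mem_univ l₀)] at hk
  have hl : k l₀ = 1 := by omega
  have h0 : ∀ l, l ≠ l₀ → k l = 0 := fun l hl' =>
    Finset.sum_eq_zero_iff.1 (show ∑ x ∈ Finset.univ.erase l₀, k x = 0 by omega) l
      (Finset.mem_erase.2 ⟨hl', Finset.mem_univ l⟩)
  rw [Finset.prod_eq_single l₀ (fun l _ h => by rw [h0 l h, pow_zero]) (by simp),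
    Finset.sum_eq_single l₀ (fun l _ h => by rw [h0 l h, Nat.cast_zero, zero_mul]) (by simp), hl]
  simp

/-- the linear form of the first order variation -/
noncomputable def dform (A' : Type u) [CommRing A'] [Algebra A A'] : (Fin r → PMv r A') →ₗ[PMv r A'] PMv r A' :=
  ∑ k ∈ (cset (Fin r ⊕ Fin r) d).filter (fun k => ∑ l, k (Sum.inr l) = 1), ∑ l : Fin r,
    ((coef F.law (Sum.elim g g) k • ∏ i, (MvPolynomial.X (Sum.inl i) : PMv r A') ^ k (Sum.inl i)) *
      (k (Sum.inr l) : PMv r A')) • (LinearMap.proj l : (Fin r → PMv r A') →ₗ[PMv r A'] PMv r A')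

theorem dval_sum (A' : Type u) [CommRing A'] [Algebra A A'] (s : Fin r → PMv r A') :
    dval F g A' (∑ l, s l ⊗ₜ[A] g l) = dform F g A' s := by
  classical
  have e : upPoly _ (xgen g A') + (Polynomial.X : Polynomial (PMv r A')) • upPoly _ (∑ l, s l ⊗ₜ[A] g l) =
      ∑ j : Fin r ⊕ Fin r, Sum.elim (fun i => Polynomial.C (MvPolynomial.X (Sum.inl i) : PMv r A'))
        (fun l => Polynomial.X * Polynomial.C (s l)) j ⊗ₜ[A] Sum.elim g g j := by
    simp [xgen, upPoly, Fintype.sum_sum_type, Finset.smul_sum, TensorProduct.smul_tmul']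
  rw [dval, e, valF_sum, Polynomial.finsetSum_coeff, dform, LinearMap.sum_apply, Finset.sum_filter]
  refine Finset.sum_congr rfl fun k _ => ?_
  rw [mon, Fintype.prod_sum_type]
  simp only [Sum.elim_inl, Sum.elim_inr, mul_pow, Finset.prod_mul_distrib, Finset.prod_pow_eq_pow_sum,
    ← map_pow, ← map_prod]
  rw [Polynomial.coeff_smul, mul_left_comm (Polynomial.C _), ← mul_comm (Polynomial.C _ * _), ← map_mul,
    Polynomial.coeff_C_mul_X_pow]
  by_cases hk : ∑ l, k (Sum.inr l) = 1
  · rw [if_pos hk.symm, if_pos hk, prod_pow_eq_sum s (fun l => k (Sum.inr l)) hk, LinearMap.sum_apply, Finset.mul_sum,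
      Finset.smul_sum]
    refine Finset.sum_congr rfl fun l _ => ?_
    simp only [LinearMap.smul_apply, LinearMap.proj_apply, smul_eq_mul]
    rw [← smul_mul_assoc, mul_assoc]
  · rw [if_neg (Ne.symm hk), if_neg hk, smul_zero]

variable (hg : Submodule.span A (Set.range g) = ⊤)

include hg in
theorem exists_coords (R : Type u) [CommRing R] [Algebra A R] (y : R ⊗[A] B) : ∃ s : Fin r → R, y = ∑ i, s i ⊗ₜ[A] g i := by
  induction y using TensorProduct.induction_on with
  | zero => exact ⟨0, by simp⟩
  | tmul c b =>
    obtain ⟨a, ha⟩ := (Submodule.mem_span_range_iff_exists_fun A).1 (hg ▸ Submodule.mem_top : b ∈ Submodule.span A (Set.range g))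
    exact ⟨fun i => a i • c, by simp [← ha, TensorProduct.tmul_sum, TensorProduct.smul_tmul]⟩
  | add p q hp hq =>
    obtain ⟨s, rfl⟩ := hp
    obtain ⟨t, rfl⟩ := hq
    exact ⟨s + t, by simp [TensorProduct.add_tmul, Finset.sum_add_distrib]⟩

include hg in
theorem dval_add (A' : Type u) [CommRing A'] [Algebra A A'] (y y' : PMv r A' ⊗[A] B) :
    dval F g A' (y + y') = dval F g A' y + dval F g A' y' := by
  obtain ⟨s, rfl⟩ := exists_coords g hg _ y
  obtain ⟨t, rfl⟩ := exists_coords g hg _ y'
  have : ∑ i, s i ⊗ₜ[A] g i + ∑ i, t i ⊗ₜ[A] g i = ∑ i, (s + t) i ⊗ₜ[A] g i := by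
    simp [TensorProduct.add_tmul, Finset.sum_add_distrib]
  rw [this, dval_sum, dval_sum, dval_sum, map_add]

include hg in
theorem dval_smul (A' : Type u) [CommRing A'] [Algebra A A'] (c : PMv r A') (y : PMv r A' ⊗[A] B) :
    dval F g A' (c • y) = c * dval F g A' y := by
  obtain ⟨s, rfl⟩ := exists_coords g hg _ y
  have : c • ∑ i, s i ⊗ₜ[A] g i = ∑ i, (c • s) i ⊗ₜ[A] g i := by
    simp [Finset.smul_sum, TensorProduct.smul_tmul']
  rw [this, dval_sum, dval_sum, map_smul, smul_eq_mul]

/-- the linear part of the universal difference -/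
noncomputable def lin (A' : Type u) [CommRing A'] [Algebra A A'] (z : A' ⊗[A] B) : PMv r A' :=
  dval F g A' (wgen g A' * upMv _ z)

theorem lin_eq_zero_of_mem (A' : Type u) [CommRing A'] [Algebra A A'] {z : A' ⊗[A] B}
    (hz : z ∈ PolLaw.kerBC F.law A') : lin F g A' z = 0 := by
  have h := invIdeal_of_kerBC F (R := Polynomial (PMv r A')) hz (upPoly _ (xgen g A'))
    ((Polynomial.X : Polynomial (PMv r A')) • upPoly _ (wgen g A'))
  have e : ∀ u : A' ⊗[A] B, Algebra.TensorProduct.map (IsScalarTower.toAlgHom A A' (Polynomial (PMv r A'))) (AlgHom.id A B) u =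
      upPoly _ (upMv _ u) := fun u => by
    induction u using TensorProduct.induction_on with
    | zero => simp
    | tmul c b => rfl
    | add p q hp hq => simp only [map_add, hp, hq]
  rw [lin, dval, map_mul (upPoly (PMv r A')), ← e, ← smul_mul_assoc, h, ← rTensor_eq_map, ← valF_compat]
  exact Polynomial.coeff_C_of_ne_zero one_ne_zero

theorem map_lin {A' : Type u} [CommRing A'] [Algebra A A'] {A'' : Type u} [CommRing A''] [Algebra A A'']
    (φ : A' →ₐ[A] A'') (z : A' ⊗[A] B) :
    MvPolynomial.map φ.toRingHom (lin F g A' z) = lin F g A'' (Algebra.TensorProduct.map φ (AlgHom.id A B) z) := by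
  let ψ : PMv r A' →ₐ[A] PMv r A'' :=
    { MvPolynomial.map φ.toRingHom with
      commutes' := fun a => by
        show MvPolynomial.map φ.toRingHom (MvPolynomial.C (algebraMap A A' a)) = _
        rw [MvPolynomial.map_C]
        exact congrArg MvPolynomial.C (φ.commutes a) }
  let Ψ : Polynomial (PMv r A') →ₐ[A] Polynomial (PMv r A'') := Polynomial.mapAlgHom ψ
  show ψ _ = _
  rw [lin, lin, dval, dval]
  show ψ (Polynomial.coeff _ 1) = _
  rw [show ψ (Polynomial.coeff (valF F (Polynomial (PMv r A'))
      (upPoly _ (xgen g A') + (Polynomial.X : Polynomial (PMv r A')) • upPoly _ (wgen g A' * upMv _ z))) 1) =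
    (Ψ (valF F (Polynomial (PMv r A'))
      (upPoly _ (xgen g A') + (Polynomial.X : Polynomial (PMv r A')) • upPoly _ (wgen g A' * upMv _ z)))).coeff 1 from
    (Polynomial.coeff_map _ _).symm, valF_compat]
  congr 2
  have hup : ∀ y, Algebra.TensorProduct.map Ψ (AlgHom.id A B) (upPoly _ y) =
      upPoly _ (Algebra.TensorProduct.map ψ (AlgHom.id A B) y) := fun y => by
    induction y using TensorProduct.induction_on with
    | zero => simp
    | tmul c b =>
      simp only [upPoly, Algebra.TensorProduct.map_tmul, AlgHom.id_apply]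
      congr 1
      exact Polynomial.map_C _
    | add p q hp hq => simp only [map_add, hp, hq]
  have hz : ∀ u, Algebra.TensorProduct.map ψ (AlgHom.id A B) (upMv _ u) =
      upMv _ (Algebra.TensorProduct.map φ (AlgHom.id A B) u) := fun u => by
    induction u using TensorProduct.induction_on with
    | zero => simp
    | tmul c b =>
      simp only [upMv, Algebra.TensorProduct.map_tmul, AlgHom.id_apply]
      congr 1
      exact MvPolynomial.map_C _ c
    | add p q hp hq => simp only [map_add, hp, hq]
  have hX : ∀ i, ψ (MvPolynomial.X i) = MvPolynomial.X i := fun i => MvPolynomial.map_X _ i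
  have hPX : Ψ (Polynomial.X : Polynomial (PMv r A')) = Polynomial.X := Polynomial.map_X _
  rw [map_add, rTensor_smul, rTensor_eq_map, rTensor_eq_map, hup, hup, map_mul, hz, hPX]
  simp [xgen, wgen, hX]

theorem valF_compat_line {R R' : Type u} [CommRing R] [Algebra A R] [CommRing R'] [Algebra A R'] (φ : R →ₐ[A] R')
    (x y : R ⊗[A] B) (s : R) : φ (valF F R (x + s • y)) =
      valF F R' (Algebra.TensorProduct.map φ (AlgHom.id A B) x + φ s • Algebra.TensorProduct.map φ (AlgHom.id A B) y) := by
  rw [valF_compat, map_add, rTensor_smul, rTensor_eq_map, rTensor_eq_map]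

theorem upPoly_map {R R' : Type u} [CommRing R] [Algebra A R] [CommRing R'] [Algebra A R'] (φ : R →ₐ[A] R')
    (u : R ⊗[A] B) : Algebra.TensorProduct.map (Polynomial.mapAlgHom φ) (AlgHom.id A B) (upPoly R u) =
      upPoly R' (Algebra.TensorProduct.map φ (AlgHom.id A B) u) := by
  induction u using TensorProduct.induction_on with
  | zero => simp
  | tmul c b =>
    simp only [upPoly, Algebra.TensorProduct.map_tmul, AlgHom.id_apply]
    congr 1
    exact Polynomial.map_C _
  | add p q hp hq => simp only [map_add, hp, hq]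

theorem upPoly_smul {R : Type u} [CommRing R] [Algebra A R] (c : R) (u : R ⊗[A] B) :
    upPoly R (c • u) = Polynomial.C c • upPoly R u := by
  induction u using TensorProduct.induction_on with
  | zero => simp
  | tmul a b => simp [upPoly, TensorProduct.smul_tmul']
  | add p q hp hq => simp only [smul_add, map_add, hp, hq]

/-- translating the parameter of a line equals moving the base point along the line -/
theorem valF_line_translate {P : Type u} [CommRing P] [Algebra A P] (θ : P →ₐ[A] Polynomial P) (x y : P ⊗[A] B)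
    (hx : Algebra.TensorProduct.map θ (AlgHom.id A B) x = upPoly P x + (Polynomial.X : Polynomial P) • upPoly P y)
    (hy : Algebra.TensorProduct.map θ (AlgHom.id A B) y = upPoly P y) :
    (Polynomial.aeval (Polynomial.C (Polynomial.X : Polynomial P) + Polynomial.X : Polynomial (Polynomial P))
        : Polynomial P →ₐ[P] Polynomial (Polynomial P)) (valF F (Polynomial P) (upPoly P x + (Polynomial.X : Polynomial P) • upPoly P y)) =
      Polynomial.mapAlgHom θ (valF F (Polynomial P) (upPoly P x + (Polynomial.X : Polynomial P) • upPoly P y)) := by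
  let γ : Polynomial P →ₐ[A] Polynomial (Polynomial P) := (Polynomial.aeval
    (Polynomial.C (Polynomial.X : Polynomial P) + Polynomial.X : Polynomial (Polynomial P))).restrictScalars A
  show γ _ = _
  rw [valF_compat_line]
  refine Eq.trans ?_ (valF_compat_line F (R' := Polynomial (Polynomial P)) (Polynomial.mapAlgHom θ) _ _ _).symm
  have hγ : ∀ u, Algebra.TensorProduct.map γ (AlgHom.id A B) (upPoly P u) = upPoly (Polynomial P) (upPoly P u) := fun u => by
    induction u using TensorProduct.induction_on with
    | zero => simp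
    | tmul c b =>
      simp only [upPoly, Algebra.TensorProduct.map_tmul, AlgHom.id_apply]
      congr 1
      exact (Polynomial.aeval_C _ _).trans rfl
    | add p q hp hq => simp only [map_add, hp, hq]
  rw [hγ, hγ, upPoly_map, upPoly_map, hx, hy, show γ (Polynomial.X : Polynomial P) = _ from Polynomial.aeval_X _,
    show Polynomial.mapAlgHom θ (Polynomial.X : Polynomial P) = Polynomial.X from Polynomial.map_X _, add_smul, map_add,
    upPoly_smul, ← add_assoc]

include hg in
/-- over a ring containing the rationals the first derivative detects the kernel -/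
theorem mem_ker_of_lin_eq_zero [Algebra ℚ A] {b : B} (hb : lin F g A ((1 : A) ⊗ₜ[A] b) = 0) :
    b ∈ PolLaw.ker F.law := by
  classical
  let P := PMv r A
  let R := Polynomial P
  let y : P ⊗[A] B := wgen g A * ((1 : P) ⊗ₜ[A] b)
  obtain ⟨e, he⟩ := exists_coords g hg P y
  let G : R := valF F R (upPoly P (xgen g A) + (Polynomial.X : R) • upPoly P y)
  have hy : upMv (Fin r ⊕ Fin r) ((1 : A) ⊗ₜ[A] b) = (1 : P) ⊗ₜ[A] b := by simp [upMv]
  let θ : P →ₐ[A] R := MvPolynomial.aeval (Sum.elim
    (fun i => Polynomial.C (MvPolynomial.X (Sum.inl i)) + Polynomial.X * Polynomial.C (e i))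
    (fun i => Polynomial.C (MvPolynomial.X (Sum.inr i))))
  let Θ : R →ₐ[A] Polynomial R := Polynomial.mapAlgHom θ
  let γ : R →ₐ[A] Polynomial R :=
    (Polynomial.aeval (Polynomial.C (Polynomial.X : R) + Polynomial.X : Polynomial R)).restrictScalars A
  have hθl : ∀ i, θ (MvPolynomial.X (Sum.inl i)) =
      Polynomial.C (MvPolynomial.X (Sum.inl i)) + Polynomial.X * Polynomial.C (e i) := fun i => MvPolynomial.aeval_X _ _
  have hθr : ∀ i, θ (MvPolynomial.X (Sum.inr i)) = Polynomial.C (MvPolynomial.X (Sum.inr i)) := fun i =>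
    MvPolynomial.aeval_X _ _
  have hθx : Algebra.TensorProduct.map θ (AlgHom.id A B) (xgen g A) =
      upPoly P (xgen g A) + (Polynomial.X : R) • upPoly P y := by
    rw [he]
    simp [xgen, upPoly, hθl, TensorProduct.add_tmul, Finset.sum_add_distrib, Finset.smul_sum, TensorProduct.smul_tmul']
  have hθy : Algebra.TensorProduct.map θ (AlgHom.id A B) y = upPoly P y := by
    simp [y, wgen, upPoly, hθr, Finset.sum_mul]
  have hkey : γ G = Θ (valF F R (upPoly P (xgen g A) + (Polynomial.X : R) • upPoly P y)) :=
    valF_line_translate F θ (xgen g A) y hθx hθy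
  have hder : Polynomial.derivative G = 0 := by
    have h1 : (γ G).coeff 1 = Polynomial.derivative G := by
      show (Polynomial.aeval (Polynomial.C (Polynomial.X : R) + Polynomial.X : Polynomial R) G).coeff 1 = _
      have e1 : Polynomial.aeval (Polynomial.C (Polynomial.X : R) + Polynomial.X : Polynomial R) G =
          Polynomial.taylor (Polynomial.X : R) (G.map Polynomial.C) := by
        rw [Polynomial.taylor_apply, Polynomial.comp, Polynomial.eval₂_map, Polynomial.aeval_def, add_comm]
        rfl
      rw [e1, Polynomial.taylor_coeff_one, Polynomial.derivative_map, Polynomial.eval_map, Polynomial.eval₂_C_X]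
    rw [← h1, hkey]
    show ((valF F R (upPoly P (xgen g A) + (Polynomial.X : R) • upPoly P y)).map θ.toRingHom).coeff 1 = 0
    rw [Polynomial.coeff_map]
    show θ (dval F g A y) = 0
    rw [lin, hy] at hb
    rw [hb, map_zero]
  have hconst : G = Polynomial.C (G.coeff 0) := by
    refine Polynomial.ext fun n => ?_
    cases n with
    | zero => simp
    | succ n =>
      rw [Polynomial.coeff_C, if_neg (Nat.succ_ne_zero n)]
      have h := congrArg (fun p => Polynomial.coeff p n) hder
      simp only [Polynomial.coeff_derivative, Polynomial.coeff_zero] at h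
      have hu : IsUnit ((n : P) + 1) := by
        have : ((n : P) + 1) = algebraMap ℚ P ((n : ℚ) + 1) := by simp
        rw [this]
        exact ((Nat.cast_add_one_ne_zero n).isUnit).map _
      exact hu.mul_left_eq_zero.1 h
  rw [mem_ker_iff_kerBC_self, mem_kerBC_iff F g hg, Dpoly, hy]
  have hev : ∀ a : P, (Polynomial.aeval a).restrictScalars A G = valF F P (xgen g A + a • y) := fun a => by
    show (Polynomial.aeval a).restrictScalars A (valF F R (upPoly P (xgen g A) + (Polynomial.X : R) • upPoly P y)) = _
    have hU : ∀ u, Algebra.TensorProduct.map ((Polynomial.aeval a).restrictScalars A) (AlgHom.id A B) (upPoly P u) = u :=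
      fun u => by
        induction u using TensorProduct.induction_on with
        | zero => simp
        | tmul c b => simp [upPoly]
        | add p q hp hq => simp only [map_add, hp, hq]
    rw [valF_compat, map_add, rTensor_smul, rTensor_eq_map, rTensor_eq_map, hU, hU]
    simp
  have h1 := hev 1
  have h0 := hev 0
  rw [one_smul] at h1
  rw [zero_smul, add_zero] at h0
  show valF F P (xgen g A + y) - valF F P (xgen g A) = 0
  rw [← h1, ← h0, hconst]
  simp

end Groth.Agent.GammaLib
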