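import Groth.Agent.GammaLib.Span
import Mathlib.RingTheory.Norm.Basic
import Mathlib.RingTheory.MvPolynomial.Basic

/-!
# The map from divided powers to the base given by the norm commutes with base change
-/

set_option autoImplicit false
set_option linter.style.haveILetI false

universe u

open scoped TensorProduct

namespace Groth.Agent.GammaLib

variable {R R' Q Q' : Type u} [CommRing R] [CommRing R'] [Algebra R R']
    [CommRing Q] [Algebra R Q] [CommRing Q'] [Algebra R Q'] [Algebra Q Q'] [Algebra R' Q']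
    [IsScalarTower R Q Q'] [IsScalarTower R R' Q'] [Algebra.IsPushout R R' Q Q']
    [Module.Free R R'] [Module.Finite R R'] [Module.Free Q Q'] [Module.Finite Q Q']

theorem bcAlong_tmul {X Y : Type u} [AddCommGroup X] [Module R X] [AddCommGroup Y] [Module R Y] [Module Q Y]
    [IsScalarTower R Q Y] (g : X →ₗ[R] Y) (P : Type u) [CommRing P] [Algebra R P] [Algebra Q P]
    [IsScalarTower R Q P] (p : P) (x : X) :
    PolLaw.bcAlong (Q := Q) g P (p ⊗ₜ[R] x) = p ⊗ₜ[Q] g x := by
  have h : (TensorProduct.AlgebraTensorModule.cancelBaseChange R Q P P X).symm (p ⊗ₜ[R] x) =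
      p ⊗ₜ[Q] ((1 : Q) ⊗ₜ[R] x) := by
    rw [LinearEquiv.symm_apply_eq, TensorProduct.AlgebraTensorModule.cancelBaseChange_tmul, one_smul]
  simp only [PolLaw.bcAlong, LinearMap.comp_apply, LinearMap.restrictScalars_apply, LinearEquiv.coe_coe]
  rw [h, LinearMap.lTensor_tmul, LinearMap.liftBaseChange_tmul, one_smul]

theorem norm_bc (P : Type u) [CommRing P] [Algebra R P] [Algebra Q P] [IsScalarTower R Q P] (z : P ⊗[R] R') :
    Algebra.norm P (PolLaw.bcAlong (Q := Q) (IsScalarTower.toAlgHom R R' Q').toLinearMap P z) =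
      Algebra.norm P z := by
  haveI : Algebra.IsPushout R Q R' Q' := Algebra.IsPushout.symm ‹_›
  let e₁ : P ⊗[Q] Q' ≃ₐ[P] P ⊗[R] R' :=
    (Algebra.TensorProduct.congr AlgEquiv.refl (Algebra.IsPushout.equiv R Q R' Q').symm).trans
      (Algebra.TensorProduct.cancelBaseChange R Q P P R')
  have he : ∀ w : P ⊗[R] R',
      e₁ (PolLaw.bcAlong (Q := Q) (IsScalarTower.toAlgHom R R' Q').toLinearMap P w) = w := fun w => by
    induction w using TensorProduct.induction_on with
    | zero => simp
    | add a b ha hb => rw [map_add, map_add, ha, hb]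
    | tmul p r =>
      rw [bcAlong_tmul]
      have h1 : (Algebra.IsPushout.equiv R Q R' Q').symm (algebraMap R' Q' r) = (1 : Q) ⊗ₜ[R] r := by
        rw [AlgEquiv.symm_apply_eq]
        simp [Algebra.IsPushout.equiv_tmul]
      show (Algebra.TensorProduct.cancelBaseChange R Q P P R')
        (Algebra.TensorProduct.congr AlgEquiv.refl (Algebra.IsPushout.equiv R Q R' Q').symm
          (p ⊗ₜ[Q] algebraMap R' Q' r)) = _
      rw [Algebra.TensorProduct.congr_apply, Algebra.TensorProduct.map_tmul]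
      simp [h1]
  conv_rhs => rw [← he z]
  exact (Algebra.norm_eq_of_algEquiv e₁ _).symm

theorem normMap_baseChange (d : ℕ) (hd : Module.finrank R R' = d) (hd' : Module.finrank Q Q' = d)
    {C : Type u} [CommRing C] [Algebra R C] (γ : PolLaw.MulLaw R R' C d) (hγ : PolLaw.IsGammaD γ)
    (π : C →ₐ[R] R) (hπ : PolLaw.MulLaw.postcomp π γ = PolLaw.normLaw R R' d hd)
    {C' : Type u} [CommRing C'] [Algebra R C'] [Algebra Q C'] [IsScalarTower R Q C']
    (γ' : PolLaw.MulLaw Q Q' C' d)
    (π' : C' →ₐ[Q] Q) (hπ' : PolLaw.MulLaw.postcomp π' γ' = PolLaw.normLaw Q Q' d hd')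
    (θ : C →ₐ[R] C')
    (hθ : ∀ (P : Type u) [CommRing P] [Algebra R P] [Algebra Q P] [IsScalarTower R Q P] (z : P ⊗[R] R'),
      γ'.law.toFun' P (PolLaw.bcAlong (IsScalarTower.toAlgHom R R' Q').toLinearMap P z) =
        PolLaw.bcAlong θ.toLinearMap P (γ.law.toFun' P z)) (c : C) :
    π' (θ c) = algebraMap R Q (π c) := by
  classical
  refine LinearMap.congr_fun (hom_ext hγ (f := (π'.restrictScalars R).toLinearMap ∘ₗ θ.toLinearMap)
    (g := (Algebra.linearMap R Q) ∘ₗ π.toLinearMap) fun r x k hk => ?_) c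
  show π' (θ (coef γ.law x k)) = algebraMap R Q (π (coef γ.law x k))
  let x' : Fin r → Q' := fun i => algebraMap R' Q' (x i)
  let P := MvPolynomial (Fin r) Q
  let z : P ⊗[R] R' := ∑ i, MvPolynomial.X i ⊗ₜ[R] x i
  have hz : PolLaw.bcAlong (Q := Q) (IsScalarTower.toAlgHom R R' Q').toLinearMap P z = gen x' := by
    simp [z, gen, map_sum, bcAlong_tmul, x', P]
  have h1 : θ (coef γ.law x k) = coef γ'.law x' k := by
    rw [coef_eq_of_expansion γ'.law x' (cset (Fin r) d) (fun l => θ (coef γ.law x l)) ?_ k,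
      if_pos (mem_cset.2 hk)]
    rw [← hz, hθ P z, law_sum_cset γ.homog, map_sum]
    exact Finset.sum_congr rfl fun l _ => bcAlong_tmul _ _ _ _
  rw [h1, show π (coef γ.law x k) = coef (PolLaw.normLaw R R' d hd).law x k by
      rw [← hπ]; exact (coef_postcomp π.toLinearMap γ.law x k).symm,
    show π' (coef γ'.law x' k) = coef (PolLaw.normLaw Q Q' d hd').law x' k by
      rw [← hπ']; exact (coef_postcomp π'.toLinearMap γ'.law x' k).symm]
  have h2 := law_sum_cset (PolLaw.normLaw R R' d hd).homog (S := P) x MvPolynomial.X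
  rw [PolLaw.normLaw_apply] at h2
  replace h2 := congrArg (TensorProduct.rid R P) h2
  simp only [map_sum, TensorProduct.rid_tmul, one_smul] at h2
  have h3 : (PolLaw.normLaw Q Q' d hd').law.toFun' P (gen x') =
      ∑ l ∈ cset (Fin r) d, mon (fun i => (MvPolynomial.X i : P)) l ⊗ₜ[Q]
        algebraMap R Q (coef (PolLaw.normLaw R R' d hd).law x l) := by
    rw [PolLaw.normLaw_apply, ← hz, norm_bc, h2, TensorProduct.sum_tmul]
    refine Finset.sum_congr rfl fun l _ => ?_
    rw [← IsScalarTower.algebraMap_smul Q (coef (PolLaw.normLaw R R' d hd).law x l),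
      TensorProduct.smul_tmul, smul_eq_mul, mul_one]
  rw [coef_eq_of_expansion _ x' (cset (Fin r) d) _ h3 k, if_pos (mem_cset.2 hk)]

end Groth.Agent.GammaLib
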