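import Groth.Agent.GammaLib.SymmResults
import Groth.Agent.UHTower.Basic
import Mathlib.LinearAlgebra.Basis.VectorSpace
import Mathlib.RingTheory.IntegralClosure.IsIntegralClosure.Basic
import Mathlib.RingTheory.Ideal.GoingUp
import Mathlib.RingTheory.Spectrum.Prime.Homeomorph

/-!
# The residue fields of symmetric tensors come from divided powers
-/

set_option autoImplicit false
set_option linter.style.haveILetI false

universe u

open scoped TensorProduct

namespace Groth.Agent.GammaLib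

variable {A : Type u} [CommRing A] {d : ℕ} {B C : Type u} [CommRing B] [Algebra A B] [CommRing C] [Algebra A C]
  (γ : PolLaw.MulLaw A B C d) (φ : C →ₐ[A] SymTen.TS A B d)
  (hφ : PolLaw.MulLaw.postcomp ((SymTen.TS A B d).val.comp φ) γ = SymTen.tpowLaw A B d)

theorem isIntegral_val (z : ⨂[A] _ : Fin d, B) : IsIntegral (SymTen.TS A B d) z := by
  rcases subsingleton_or_nontrivial (⨂[A] _ : Fin d, B) with hsub | hnt
  · rw [Subsingleton.elim z 0]; exact isIntegral_zero
  let P : Polynomial (⨂[A] _ : Fin d, B) :=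
    ∏ σ : Equiv.Perm (Fin d), (Polynomial.X - Polynomial.C (SymTen.perm A B d σ z))
  have hfix : ∀ τ : Equiv.Perm (Fin d), P.map (SymTen.perm A B d τ).toRingHom = P := fun τ => by
    rw [Polynomial.map_prod]
    simp only [Polynomial.map_sub, Polynomial.map_X, Polynomial.map_C, AlgHom.toRingHom_eq_coe, RingHom.coe_coe,
      perm_perm]
    exact Equiv.prod_comp (Equiv.mulLeft τ) fun σ => Polynomial.X - Polynomial.C (SymTen.perm A B d σ z)
  have hl : P ∈ Polynomial.lifts (algebraMap (SymTen.TS A B d) (⨂[A] _ : Fin d, B)) := by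
    rw [Polynomial.lifts_iff_coeff_lifts]
    intro n
    refine ⟨⟨P.coeff n, fun τ => ?_⟩, rfl⟩
    rw [← SymTen.perm_apply]
    conv_rhs => rw [← hfix τ]
    rw [Polynomial.coeff_map]
    rfl
  have hm : P.Monic := Polynomial.monic_prod_of_monic _ _ fun σ _ => Polynomial.monic_X_sub_C _
  obtain ⟨Q, hQ, -, hQm⟩ := Polynomial.lifts_and_degree_eq_and_monic hl hm
  refine ⟨Q, hQm, ?_⟩
  rw [← Polynomial.eval_map, hQ, Polynomial.eval_prod]
  refine Finset.prod_eq_zero (Finset.mem_univ (1 : Equiv.Perm (Fin d))) ?_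
  rw [show SymTen.perm A B d 1 z = z by
    rw [SymTen.perm_apply, show (1 : Equiv.Perm (Fin d)) = Equiv.refl _ from rfl, PiTensorProduct.reindex_refl]
    rfl]
  simp

include hφ in
theorem eval_symm_mem (L : Type u) [Field L] [Algebra A L] (ev : (⨂[A] _ : Fin d, B) →ₐ[A] L)
    (K0 : Subfield L) (hK : ∀ c, ev (φ c).1 ∈ K0) (y : SymTen.TS A B d) : ev y.1 ∈ K0 := by
  classical
  have hA : ∀ a, algebraMap A L a ∈ K0 := fun a => by
    have h := hK (algebraMap A C a)
    rwa [AlgHom.commutes, show ((algebraMap A (SymTen.TS A B d) a : SymTen.TS A B d) : ⨂[A] _ : Fin d, B) =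
      algebraMap A _ a from rfl, AlgHom.commutes] at h
  letI : Algebra A K0 := ((algebraMap A L).codRestrict K0 hA).toAlgebra
  haveI : IsScalarTower A K0 L := IsScalarTower.of_algebraMap_eq fun a => rfl
  let S0 : Set (K0 ⊗[A] B) := Set.range fun b : B => (1 : K0) ⊗ₜ[A] b
  have hS : ⊤ ≤ Submodule.span K0 S0 := by
    rintro w -
    induction w using TensorProduct.induction_on with
    | zero => exact Submodule.zero_mem _
    | tmul k b =>
      rw [show k ⊗ₜ[A] b = k • ((1 : K0) ⊗ₜ[A] b) by rw [TensorProduct.smul_tmul', smul_eq_mul, mul_one]]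
      exact Submodule.smul_mem _ _ (Submodule.subset_span ⟨b, rfl⟩)
    | add p q hp hq => exact Submodule.add_mem _ hp hq
  let bK := Module.Basis.ofSpan hS
  have hx : ∀ i, ∃ x : B, bK i = (1 : K0) ⊗ₜ[A] x := fun i => by
    rw [show bK i = _ from Module.Basis.ofSpan_apply_self hS i]
    obtain ⟨x, hx⟩ := (linearIndepOn_empty K0 id).extend_subset (Set.empty_subset S0) i.2
    exact ⟨x, hx.symm⟩
  choose x hx using hx
  let coord : _ → (B →ₗ[A] K0) := fun i =>
    ((bK.coord i).restrictScalars A) ∘ₗ (TensorProduct.mk A K0 B 1)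
  let eva : Fin d → B →ₐ[A] L := fun a => ev.comp (PiTensorProduct.singleAlgHom (A := fun _ : Fin d => B) a)
  let lifta : Fin d → K0 ⊗[A] B →ₐ[K0] L := fun a =>
    Algebra.TensorProduct.lift (Algebra.ofId K0 L) (eva a) fun p q => Commute.all _ _
  have expand : ∀ (a : Fin d) (v : B) (U : Finset _), (bK.repr ((1 : K0) ⊗ₜ[A] v)).support ⊆ U →
      eva a v = ∑ i ∈ U, (coord i v : L) * eva a (x i) := fun a v U hU => by
    rw [show eva a v = lifta a ((1 : K0) ⊗ₜ[A] v) by simp [lifta]]
    conv_lhs => rw [← bK.linearCombination_repr ((1 : K0) ⊗ₜ[A] v),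
      Finsupp.linearCombination_apply_of_mem_supported K0 ((Finsupp.mem_supported K0 _).2 hU), map_sum]
    refine Finset.sum_congr rfl fun i _ => ?_
    rw [map_smul, hx i, Algebra.smul_def]
    simp [lifta, coord]
    exact Or.inl rfl
  obtain ⟨m, c, w, hw⟩ := Submodule.mem_span_set'.1
    (show y.1 ∈ Submodule.span A (Set.range (PiTensorProduct.tprod A (s := fun _ : Fin d => B))) by
      rw [PiTensorProduct.span_tprod_eq_top]; exact Submodule.mem_top)
  choose v hv using fun j => (w j).2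
  let U := Finset.univ.biUnion fun ja : Fin m × Fin d => (bK.repr ((1 : K0) ⊗ₜ[A] v ja.1 ja.2)).support
  let cf : (Fin d → U) → ((⨂[A] _ : Fin d, B) →ₗ[A] K0) := fun f =>
    PiTensorProduct.lift ((MultilinearMap.mkPiAlgebra A (Fin d) K0).compLinearMap fun a => coord (f a))
  have hcf : ∀ f v', cf f (PiTensorProduct.tprod A v') = ∏ a, coord (f a) (v' a) := fun f v' => by
    simp [cf]
  have hexp : ev y.1 = ∑ f : Fin d → U, (cf f y.1 : L) * ev (PiTensorProduct.tprod A fun a => x (f a)) := by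
    rw [← hw]
    simp only [map_sum, map_smul, AddSubmonoidClass.coe_finsetSum, Finset.sum_mul]
    rw [Finset.sum_comm]
    refine Finset.sum_congr rfl fun j _ => ?_
    have hs : ∀ f, ((c j • cf f (w j : ⨂[A] _ : Fin d, B) : K0) : L) = c j • ((cf f (w j) : K0) : L) :=
      fun f => by rw [Algebra.smul_def, Algebra.smul_def, Subfield.coe_mul]; rfl
    simp only [hs, smul_mul_assoc, ← Finset.smul_sum]
    congr 1
    rw [← hv j, ← prod_singleAlgHom (A := A) (v j), map_prod]
    have : ∀ a, ev (PiTensorProduct.singleAlgHom (A := fun _ : Fin d => B) a (v j a)) =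
        ∑ i : U, (coord i (v j a) : L) * eva a (x i) := fun a => by
      rw [Finset.sum_coe_sort U fun i => (coord i (v j a) : L) * eva a (x i)]
      exact expand a _ U fun i hi => Finset.mem_biUnion.2 ⟨(j, a), Finset.mem_univ _, hi⟩
    simp only [this]
    rw [Fintype.prod_sum]
    refine Finset.sum_congr rfl fun f _ => ?_
    rw [Finset.prod_mul_distrib, prod_singleAlgHom, hcf, SubmonoidClass.coe_finsetProd, ← prod_singleAlgHom,
      map_prod]
    rfl
  have hinv : ∀ (f : Fin d → U) (σ : Equiv.Perm (Fin d)), cf (f ∘ σ) y.1 = cf f y.1 := fun f σ => by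
    conv_rhs => rw [← y.2 σ]
    suffices h : cf (f ∘ σ) = cf f ∘ₗ (PiTensorProduct.reindex A (fun _ : Fin d => B) σ).toLinearMap from
      LinearMap.congr_fun h y.1
    refine PiTensorProduct.ext (MultilinearMap.ext fun v' => ?_)
    simp only [LinearMap.compMultilinearMap_apply, LinearMap.comp_apply, LinearEquiv.coe_coe,
      PiTensorProduct.reindex_tprod, hcf]
    rw [← Equiv.prod_comp σ fun a => coord (f a) (v' (σ.symm a))]
    simp
  rw [hexp]
  let e := U.equivFin
  rw [← Equiv.sum_comp (Equiv.arrowCongr (Equiv.refl (Fin d)) e.symm)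
    fun f : Fin d → U => (cf f y.1 : L) * ev (PiTensorProduct.tprod A fun a => x (f a)),
    ← Finset.sum_fiberwise_of_maps_to (s := Finset.univ) (t := cset (Fin U.card) d) (g := cnt)
      fun g _ => mem_cset.2 (sum_cnt g)]
  refine K0.sum_mem fun k hk => ?_
  obtain ⟨g₀, rfl⟩ := exists_cnt (mem_cset.1 hk)
  rw [Finset.sum_congr rfl (g := fun g : Fin d → Fin U.card => (cf (fun a => e.symm (g₀ a)) y.1 : L) *
      ev (PiTensorProduct.tprod A fun a => x (e.symm (g a)))) fun g hg => ?_]
  · rw [← Finset.mul_sum]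
    refine K0.mul_mem (Subtype.coe_prop _) ?_
    have h := hK (coef γ.law (fun i => x (e.symm i)) (cnt g₀))
    rw [show (φ (coef γ.law (fun i => x (e.symm i)) (cnt g₀))).1 = osum (fun i => x (e.symm i)) (cnt g₀) by
      rw [← coef_tpow _ (sum_cnt g₀), ← hφ]
      exact (coef_postcomp ((SymTen.TS A B d).val.comp φ).toLinearMap γ.law _ _).symm] at h
    rw [osum, map_sum] at h
    convert h using 2
    ext; simp
  · obtain ⟨σ, rfl⟩ := exists_perm_of_cnt_eq (Finset.mem_filter.1 hg).2
    congr 2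
    exact hinv (fun a => e.symm (g₀ a)) σ

include hφ in
theorem exists_residue (Q : Ideal (SymTen.TS A B d)) [Q.IsPrime] (y : SymTen.TS A B d) :
    ∃ a s : C, φ s ∉ Q ∧ φ s * y - φ a ∈ Q := by
  haveI : Algebra.IsIntegral (SymTen.TS A B d) (⨂[A] _ : Fin d, B) := ⟨isIntegral_val⟩
  obtain ⟨P, hP, hPQ⟩ := Ideal.exists_ideal_over_prime_of_isIntegral Q (⊥ : Ideal (⨂[A] _ : Fin d, B))
    (fun t ht => by
      rw [Ideal.mem_comap, Ideal.mem_bot] at ht
      rw [show t = 0 from Subtype.ext ht]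
      exact Q.zero_mem)
  haveI := hPQ.1
  let L := P.ResidueField
  let ev : (⨂[A] _ : Fin d, B) →ₐ[A] L := IsScalarTower.toAlgHom A _ L
  let f : C →+* L := (ev.comp ((SymTen.TS A B d).val.comp φ)).toRingHom
  have h := eval_symm_mem γ φ hφ L ev (Subfield.closure (Set.range f))
    (fun c => Subfield.subset_closure ⟨c, rfl⟩) y
  rw [Subfield.mem_closure_iff] at h
  obtain ⟨u, hu, w, hw, huw⟩ := h
  have hr : Subring.closure (Set.range f) = f.range := by rw [← RingHom.coe_range, Subring.closure_eq]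
  rw [hr] at hu hw
  obtain ⟨a, rfl⟩ := hu
  obtain ⟨s, rfl⟩ := hw
  have hmem : ∀ t : SymTen.TS A B d, ev t.1 = 0 ↔ t ∈ Q := fun t => by
    rw [show ev t.1 = algebraMap _ L t.1 from rfl, Ideal.algebraMap_residueField_eq_zero, ← hPQ.2]
    rfl
  by_cases hs : φ s ∈ Q
  · have h0 : f s = 0 := (hmem _).2 hs
    rw [h0, div_zero] at huw
    refine ⟨0, 1, ?_, ?_⟩
    · rw [map_one]; exact Q.ne_top_iff_one.1 (Ideal.IsPrime.ne_top ‹_›)
    · rw [map_one, map_zero, one_mul, sub_zero]
      exact (hmem y).1 huw.symm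
  · refine ⟨a, s, hs, (hmem _).1 ?_⟩
    have hs0 : f s ≠ 0 := fun h0 => hs ((hmem _).1 h0)
    rw [div_eq_iff hs0] at huw
    show ev ((φ s).1 * y.1 - (φ a).1) = 0
    rw [map_sub, map_mul]
    show f s * ev y.1 - f a = 0
    rw [huw, mul_comm, sub_self]

open AlgebraicGeometry in
include hφ in
theorem isUnivHomeo_phi (hγ : PolLaw.IsGammaD γ) :
    FlatMor.IsUnivHomeo (Spec.map (CommRingCat.ofHom φ.toRingHom)) ∧
      ∀ x : ↥(Spec (CommRingCat.of (SymTen.TS A B d))),
        Function.Surjective ((Spec.map (CommRingCat.ofHom φ.toRingHom)).residueFieldMap x).hom := by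
  have hres := fun (Q : Ideal (SymTen.TS A B d)) (_ : Q.IsPrime) y => exists_residue γ φ hφ Q y
  have hpow := pow_factorial_mem_range γ φ hφ
  have hhom : IsHomeomorph (PrimeSpectrum.comap φ.toRingHom) :=
    PrimeSpectrum.isHomeomorph_comap φ.toRingHom (fun y => ⟨d.factorial, Nat.factorial_pos d, hpow y⟩)
      fun c hc => ⟨d.factorial, pow_factorial_eq_zero γ φ hφ hγ (RingHom.mem_ker.1 hc)⟩
  letI := φ.toRingHom.toAlgebra
  refine ⟨(EtaLib.isUnivHomeo_Spec_iff φ.toRingHom).2 ⟨fun y => ?_, hhom.bijective.2, fun K _ g g' e => ?_⟩,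
    (UHTower.surjective_residueFieldMap_iff φ.toRingHom).2 hres⟩
  · obtain ⟨c, hc⟩ := hpow y
    letI := φ.toRingHom.toAlgebra
    exact IsIntegral.of_pow (Nat.factorial_pos d) (hc ▸ φ.toRingHom.isIntegralElem_map (x := c))
  · refine RingHom.ext fun y => ?_
    obtain ⟨a, s, hs, hm⟩ := hres (RingHom.ker g) (RingHom.ker_isPrime g) y
    rw [RingHom.mem_ker] at hs hm
    have e1 : ∀ c, g (φ c) = g' (φ c) := fun c => RingHom.congr_fun e c
    have hker : g' (φ s * y - φ a) = 0 := by
      obtain ⟨c, hc⟩ := hpow (φ s * y - φ a)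
      have h1 : g (φ c) = 0 := by
        rw [show φ c = (φ s * y - φ a) ^ d.factorial from hc, map_pow, hm, zero_pow (Nat.factorial_ne_zero d)]
      rw [e1, show φ c = (φ s * y - φ a) ^ d.factorial from hc, map_pow] at h1
      exact eq_zero_of_pow_eq_zero h1
    rw [map_sub, map_mul, sub_eq_zero] at hm hker
    rw [← e1, ← e1] at hker
    exact mul_left_cancel₀ hs (hm.trans hker.symm)

end Groth.Agent.GammaLib
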