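import Groth.Agent.GammaLib.Colim
import Groth.Agent.GammaLib.FlatGamma
import Groth.Agent.AWN.Ring
import Mathlib.FieldTheory.PurelyInseparable.Basic
import Mathlib.FieldTheory.Minpoly.Field

/-!
# Symmetric tensors land in a seminormal ring
-/

set_option autoImplicit false
set_option linter.style.haveILetI false

universe u

open scoped TensorProduct
open AlgebraicGeometry

namespace Groth.Agent.GammaLib

section Count

variable {d r : ℕ}

theorem mul_card_cnt (k : Fin r →₀ ℕ) (i : Fin r) :
    d ∣ k i * (Finset.univ.filter fun f : Fin d → Fin r => cnt f = k).card := by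
  classical
  rcases Nat.eq_zero_or_pos d with rfl | hd
  · by_cases h : (Finset.univ.filter fun f : Fin 0 → Fin r => cnt f = k).card = 0
    · rw [h, mul_zero]
    · obtain ⟨f, hf⟩ := Finset.card_ne_zero.1 h
      rw [← (Finset.mem_filter.1 hf).2]
      simp [cnt]
  let S := Finset.univ.filter fun f : Fin d → Fin r => cnt f = k
  let a₀ : Fin d := ⟨0, hd⟩
  have h1 : ∀ f ∈ S, k i = (Finset.univ.filter fun a : Fin d => f a = i).card := fun f hf => by
    rw [← (Finset.mem_filter.1 hf).2, cnt_apply, Fintype.card_subtype]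
  have h2 : ∀ a : Fin d, (S.filter fun f => f a = i).card = (S.filter fun f => f a₀ = i).card := fun a => by
    refine Finset.card_equiv (Equiv.arrowCongr (Equiv.swap a a₀) (Equiv.refl (Fin r))) fun f => ?_
    rw [show Equiv.arrowCongr (Equiv.swap a a₀) (Equiv.refl (Fin r)) f = f ∘ (Equiv.swap a a₀).symm from rfl]
    simp only [Finset.mem_filter, S, Finset.mem_univ, true_and]
    rw [cnt_comp, Function.comp_apply, Equiv.symm_swap, Equiv.swap_apply_right]
  refine ⟨(S.filter fun f => f a₀ = i).card, ?_⟩
  calc k i * S.card = ∑ f ∈ S, k i := by rw [Finset.sum_const, smul_eq_mul, mul_comm]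
    _ = ∑ f ∈ S, ∑ a : Fin d, (if f a = i then 1 else 0) := Finset.sum_congr rfl fun f hf => by
      rw [h1 f hf, Finset.card_filter]
    _ = ∑ a : Fin d, (S.filter fun f => f a = i).card := by
      rw [Finset.sum_comm]
      exact Finset.sum_congr rfl fun a _ => (Finset.card_filter _ _).symm
    _ = d * (S.filter fun f => f a₀ = i).card := by simp [h2]

theorem multinomial_mul_mem {k L : Type u} [Field k] [Field L] [Algebra k L] [IsPurelyInseparable k L]
    [FiniteDimensional k L] (hdvd : Module.finrank k L ∣ d) (β : Fin r → L) (κ : Fin r →₀ ℕ) :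
    ((Finset.univ.filter fun f : Fin d → Fin r => cnt f = κ).card : L) * mon β κ ∈ (algebraMap k L).range := by
  classical
  haveI : ExpChar k (ringExpChar k) := ringExpChar.expChar k
  let q := ringExpChar k
  by_cases h : ∀ i, β i ^ κ i ∈ (algebraMap k L).range
  · exact Subring.mul_mem _ (natCast_mem _ _) (Subring.prod_mem _ fun i _ => h i)
  push Not at h
  obtain ⟨i, hi⟩ := h
  obtain ⟨m, y, hm⟩ := IsPurelyInseparable.minpoly_eq_X_pow_sub_C k q (β i)
  have hpow : β i ^ q ^ m = algebraMap k L y := by
    have h0 := minpoly.aeval k (β i)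
    rw [hm] at h0
    simpa [sub_eq_zero] using h0
  have hdeg : q ^ m ∣ d := by
    refine dvd_trans ?_ hdvd
    have h1 := minpoly.degree_dvd (K := k) (L := L) (x := β i) (Algebra.IsIntegral.isIntegral _)
    rwa [hm, Polynomial.natDegree_X_pow_sub_C] at h1
  have hndvd : ¬ q ^ m ∣ κ i := by
    rintro ⟨c, hc⟩
    refine hi ⟨y ^ c, ?_⟩
    rw [hc, pow_mul, hpow, map_pow]
  have hqM : (((Finset.univ.filter fun f : Fin d → Fin r => cnt f = κ).card : ℕ) : L) = 0 := by
    rcases expChar_is_prime_or_one k q with hp | hq1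
    swap
    · exfalso
      exact hndvd (by simp [hq1])
    · haveI : CharP k q := by
        have hq' : ExpChar k q := inferInstance
        revert hp hq'
        generalize q = q'
        intro hp hq'
        cases hq' with
        | zero => exact absurd hp Nat.not_prime_one
        | prime hq'' => assumption
      haveI : CharP L q := charP_of_injective_algebraMap (algebraMap k L).injective q
      rw [CharP.cast_eq_zero_iff L q]
      by_contra hq
      refine hndvd ?_
      have hcop : Nat.Coprime (q ^ m) (Finset.univ.filter fun f : Fin d → Fin r => cnt f = κ).card :=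
        Nat.Coprime.pow_left _ ((Nat.Prime.coprime_iff_not_dvd hp).2 hq)
      exact hcop.dvd_of_dvd_mul_right (hdeg.trans (mul_card_cnt κ i))
  rw [hqM, zero_mul]
  exact Subring.zero_mem _

end Count

variable (A C C' B : Type u) [CommRing A] [CommRing C] [CommRing C'] [CommRing B]
    [Algebra A C] [Algebra A C'] [Algebra A B]

theorem mul_symTensor_mem_range (hC : HTop.IsSeminormalRing C) (g : C →ₐ[A] C') [_root_.IsReduced C']
    (hg : FlatMor.IsUnivHomeo (Spec.map (CommRingCat.ofHom g.toRingHom)))
    (d : ℕ) (hd : 0 < d)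
    (hdeg : ∀ q : PrimeSpectrum C',
      @Module.finrank (PrimeSpectrum.comap g.toRingHom q).asIdeal.ResidueField q.asIdeal.ResidueField _ _
          (Ideal.ResidueField.map (PrimeSpectrum.comap g.toRingHom q).asIdeal q.asIdeal g.toRingHom
            rfl).toAlgebra.toModule ∣ d)
    [Module.Flat A B] (φ : B →ₐ[A] C') (x : ⨂[A] _ : Fin d, B) (hx : x ∈ SymTen.TS A B d) :
    φ (PiTensorProduct.lift (MultilinearMap.mkPiAlgebra A (Fin d) B) x) ∈ g.range := by
  classical
  obtain ⟨n, G, z, hz, hzs⟩ := exists_symm_lift (M := B) x hx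
  rw [← hz]
  refine map_rT_mem (bFin A n) (φ.toLinearMap ∘ₗ
    (PiTensorProduct.lift (MultilinearMap.mkPiAlgebra A (Fin d) B)) ∘ₗ mp G)
    (Subalgebra.toSubmodule g.range) (fun r e _ f₀ => ?_) hzs
  let β : Fin r → C' := fun i => φ (G (bFin A n (e i)))
  let M : ℕ := (Finset.univ.filter fun f : Fin d → Fin r => cnt f = cnt f₀).card
  let u : C' := (M : C') * mon β (cnt f₀)
  have hu : φ (PiTensorProduct.lift (MultilinearMap.mkPiAlgebra A (Fin d) B)
      (mp G (osum (fun i => bFin A n (e i)) (cnt f₀)))) = u := by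
    simp only [osum, map_sum, PiTensorProduct.map_tprod, PiTensorProduct.lift.tprod,
      MultilinearMap.mkPiAlgebra_apply, map_prod]
    rw [Finset.sum_congr rfl (g := fun _ => mon β (cnt f₀)) fun f hf => ?_, Finset.sum_const, nsmul_eq_mul]
    · simp only [u, M]
      congr! 4
    · simp only [Finset.mem_filter, Finset.mem_univ, true_and] at hf
      rw [← hf, mon_cnt]
  show φ (PiTensorProduct.lift (MultilinearMap.mkPiAlgebra A (Fin d) B)
      (mp G (osum (fun i => bFin A n (e i)) (cnt f₀)))) ∈ g.range
  rw [hu]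
  letI : Algebra C C' := g.toRingHom.toAlgebra
  let D : Subalgebra C C' := Algebra.adjoin C {u}
  haveI : _root_.IsReduced D := isReduced_of_injective D.val Subtype.val_injective
  have hD : FlatMor.IsUnivHomeo (Spec.map (CommRingCat.ofHom (algebraMap C D))) :=
    AWN.isUnivHomeo_factor (algebraMap C D) D.val.toRingHom Subtype.val_injective hg
  obtain ⟨hint, hsurj, -⟩ := (EtaLib.isUnivHomeo_Spec_iff g.toRingHom).1 hg
  suffices hres : ∀ Q : PrimeSpectrum D, Function.Surjective
      (Ideal.ResidueField.map (PrimeSpectrum.comap (algebraMap C D) Q).asIdeal Q.asIdeal (algebraMap C D) rfl) by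
    obtain ⟨c, hc⟩ := (AWN.bijective_of_seminormal hC _ hD hres).2 ⟨u, Algebra.self_mem_adjoin_singleton C u⟩
    exact ⟨c, congrArg Subtype.val hc⟩
  intro Q
  have hbD := (EtaLib.isUnivHomeo_Spec_iff (algebraMap C D)).1 hD
  haveI : Algebra.IsIntegral C C' := ⟨hint⟩
  haveI : Algebra.IsIntegral D C' := Algebra.IsIntegral.tower_top (R := C)
  obtain ⟨P, -, hP, hPQ⟩ := Ideal.exists_ideal_over_prime_of_isIntegral Q.asIdeal (⊥ : Ideal C')
    (fun t ht => by
      rw [Ideal.mem_comap, Ideal.mem_bot] at ht
      rw [show t = 0 from Subtype.ext ht]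
      exact Q.asIdeal.zero_mem)
  let q : PrimeSpectrum C' := ⟨P, hP⟩
  let k := (PrimeSpectrum.comap g.toRingHom q).asIdeal.ResidueField
  let L := q.asIdeal.ResidueField
  letI : Algebra k L := (Ideal.ResidueField.map (PrimeSpectrum.comap g.toRingHom q).asIdeal q.asIdeal
    g.toRingHom rfl).toAlgebra
  have hdvd : Module.finrank k L ∣ d := hdeg q
  haveI : FiniteDimensional k L := Module.finite_of_finrank_pos (Nat.pos_of_dvd_of_pos hdvd hd)
  haveI : ExpChar k (ringExpChar k) := ringExpChar.expChar k
  haveI : IsPurelyInseparable k L := (isPurelyInseparable_iff_pow_mem k (ringExpChar k)).2 fun y =>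
    EtaLib.pow_mem_of_isUnivHomeo g.toRingHom hg q y
  have hu' : algebraMap C' L u ∈ (algebraMap k L).range := by
    have h := multinomial_mul_mem (k := k) hdvd (fun i => algebraMap C' L (β i)) (cnt f₀)
    rwa [← map_mon, ← map_natCast (algebraMap C' L), ← map_mul] at h
  have hD' : ∀ w : D, algebraMap C' L (w : C') ∈ (algebraMap k L).range := by
    rintro ⟨w, hw⟩
    induction hw using Algebra.adjoin_induction with
    | mem w hw =>
      show algebraMap C' L w ∈ _
      rw [Set.mem_singleton_iff.1 hw]; exact hu'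
    | algebraMap c =>
      exact ⟨algebraMap C k c,
        Ideal.ResidueField.map_algebraMap (PrimeSpectrum.comap g.toRingHom q).asIdeal q.asIdeal g.toRingHom rfl c⟩
    | add a b _ _ ha hb =>
      show algebraMap C' L (a + b) ∈ _
      rw [map_add]; exact Subring.add_mem _ ha hb
    | mul a b _ _ ha hb =>
      show algebraMap C' L (a * b) ∈ _
      rw [map_mul]; exact Subring.mul_mem _ ha hb
  have hqQ : (PrimeSpectrum.comap D.val.toRingHom q).asIdeal = Q.asIdeal := hPQ
  let ι := Ideal.ResidueField.map Q.asIdeal q.asIdeal D.val.toRingHom hqQ.symm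
  intro r'
  obtain ⟨a', s', hs, rfl⟩ := IsFractionRing.div_surjective (A := D ⧸ Q.asIdeal) r'
  obtain ⟨a, rfl⟩ := Ideal.Quotient.mk_surjective a'
  obtain ⟨s, rfl⟩ := Ideal.Quotient.mk_surjective s'
  obtain ⟨za, hza⟩ := hD' a
  obtain ⟨zs, hzs'⟩ := hD' s
  have hp : (PrimeSpectrum.comap g.toRingHom q) = PrimeSpectrum.comap (algebraMap C D) Q := by
    refine PrimeSpectrum.ext ?_
    show Ideal.comap g.toRingHom P = Ideal.comap (algebraMap C D) Q.asIdeal
    rw [← hqQ]
    rfl
  let e : k →+* (PrimeSpectrum.comap (algebraMap C D) Q).asIdeal.ResidueField :=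
    Ideal.ResidueField.map _ _ (RingHom.id C) (by rw [hp, Ideal.comap_id])
  refine ⟨e (za / zs), ι.injective ?_⟩
  have hcomm : ι.comp ((Ideal.ResidueField.map (PrimeSpectrum.comap (algebraMap C D) Q).asIdeal Q.asIdeal
      (algebraMap C D) rfl).comp e) = algebraMap k L := by
    refine Ideal.ResidueField.ringHom_ext (RingHom.ext fun c => ?_)
    simp only [RingHom.comp_apply, ι, e, Ideal.ResidueField.map_algebraMap, RingHom.id_apply]
    exact (Ideal.ResidueField.map_algebraMap (PrimeSpectrum.comap g.toRingHom q).asIdeal q.asIdeal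
      g.toRingHom rfl c).symm
  have h1 := RingHom.congr_fun hcomm (za / zs)
  simp only [RingHom.comp_apply] at h1
  rw [h1, map_div₀, map_div₀, hza, hzs']
  exact congr_arg₂ (· / ·) (Ideal.ResidueField.map_algebraMap Q.asIdeal q.asIdeal D.val.toRingHom hqQ.symm a).symm
    (Ideal.ResidueField.map_algebraMap Q.asIdeal q.asIdeal D.val.toRingHom hqQ.symm s).symm

end Groth.Agent.GammaLib
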