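import Groth.Agent.GammaLib.Univ
import Groth.Prelude.Def_W4c5normfunctorschNorm
import Mathlib.RingTheory.IntegralClosure.Algebra.Basic
import Mathlib.RingTheory.IsTensorProduct

/-!
# Consequences of spanning by coefficients
-/

set_option autoImplicit false
set_option linter.style.haveILetI false

universe u

open scoped TensorProduct

namespace Groth.Agent.GammaLib

variable {A : Type u} [CommRing A] {d : ℕ} {B : Type u} [CommRing B] [Algebra A B]
  {C : Type u} [CommRing C] [Algebra A C]

theorem coef_mem_span (G : B →ₚₗ[A] C) {ι κ : Type} [Fintype ι] [Fintype κ] (x : ι → B) (y : κ → B)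
    (hy : ∀ i, y i ∈ Submodule.span A (Set.range x)) (k : κ →₀ ℕ) :
    coef G y k ∈ Submodule.span A (Set.range (coef G x)) := by
  classical
  choose a ha using fun i => (Submodule.mem_span_range_iff_exists_fun A).1 (hy i)
  let s : ι → MvPolynomial κ A := fun j => ∑ i, a i j • MvPolynomial.X i
  have hgen : gen y = ∑ j, s j ⊗ₜ[A] x j := by
    rw [gen]
    simp only [← ha, s, TensorProduct.tmul_sum, TensorProduct.sum_tmul, TensorProduct.smul_tmul]
    exact Finset.sum_comm
  rw [coef, hgen, law_sum G x s, coords_finsetSum, Finsupp.finsetSum_apply]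
  refine Submodule.sum_mem _ fun l _ => ?_
  rw [coords, TensorProduct.equivFinsuppOfBasisLeft_apply_tmul_apply]
  exact Submodule.smul_mem _ _ (Submodule.subset_span ⟨l, rfl⟩)

variable {γ : PolLaw.MulLaw A B C d}

theorem span_coef_eq_top (hγ : PolLaw.IsGammaD γ) {ι : Type} [Fintype ι] (x : ι → B)
    (hx : Submodule.span A (Set.range x) = ⊤) : Submodule.span A (Set.range (coef γ.law x)) = ⊤ :=
  eq_top_of_coef hγ _ fun _ y k _ => coef_mem_span γ.law x y (fun i => hx ▸ Submodule.mem_top) k

theorem finite_of_isGammaD (hγ : PolLaw.IsGammaD γ) [Module.Finite A B] : Module.Finite A C := by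
  classical
  obtain ⟨n, x, hx⟩ := Module.Finite.exists_fin (R := A) (M := B)
  have h : (Submodule.span A (coef γ.law x '' ↑(cset (Fin n) d))) = ⊤ := by
    refine eq_top_iff.2 ((span_coef_eq_top hγ x hx).ge.trans (Submodule.span_le.2 ?_))
    rintro c ⟨k, rfl⟩
    by_cases hk : ∑ i, k i = d
    · exact Submodule.subset_span ⟨k, mem_cset.2 hk, rfl⟩
    · rw [coef_eq_zero_of_homog γ.homog x k hk]
      exact Submodule.zero_mem _
  exact ⟨h ▸ Submodule.fg_span (Set.Finite.image _ (Finset.finite_toSet _))⟩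

theorem isIntegral_coef (G : PolLaw.MulLaw A B C d) [Algebra.IsIntegral A B] {κ : Type} [Fintype κ] (y : κ → B)
    (k : κ →₀ ℕ) : IsIntegral A (coef G.law y k) := by
  let B' : Subalgebra A B := Algebra.adjoin A (Set.range y)
  haveI : Module.Finite A B' :=
    Module.Finite.iff_fg.2 (fg_adjoin_of_finite (Set.finite_range y) fun b _ => Algebra.IsIntegral.isIntegral b)
  obtain ⟨C₀, i1, i2, γ₀, hγ₀⟩ := exists_isGammaD A B' d
  haveI := finite_of_isGammaD hγ₀
  obtain ⟨f, hf, -⟩ := hγ₀ C (PolLaw.MulLaw.precomp G B'.val)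
  have h := coef_postcomp f.toLinearMap γ₀.law (fun i => (⟨y i, Algebra.subset_adjoin ⟨i, rfl⟩⟩ : B')) k
  rw [hf] at h
  rw [show (PolLaw.MulLaw.precomp G B'.val).law = PolLaw.precomp G.law B'.val.toLinearMap from rfl,
    coef_precomp] at h
  rw [show coef G.law y k = _ from h]
  exact (Algebra.IsIntegral.isIntegral (R := A) _).map f

theorem isIntegral_of_isGammaD (hγ : PolLaw.IsGammaD γ) [Algebra.IsIntegral A B] : Algebra.IsIntegral A C := by
  have h := eq_top_of_coef hγ (Subalgebra.toSubmodule (integralClosure A C))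
    fun r x k _ => isIntegral_coef γ x k
  exact ⟨fun c => (h ▸ Submodule.mem_top : c ∈ Subalgebra.toSubmodule (integralClosure A C))⟩

theorem surjective_map {B' : Type u} [CommRing B'] [Algebra A B'] {C' : Type u} [CommRing C'] [Algebra A C']
    {γ' : PolLaw.MulLaw A B' C' d} (hγ' : PolLaw.IsGammaD γ') (π : B →ₐ[A] B') (hπ : Function.Surjective π)
    (φ : C →ₐ[A] C') (hφ : PolLaw.postcomp φ.toLinearMap γ.law = (γ'.precomp π).law) :
    Function.Surjective φ := by
  intro c
  have h := eq_top_of_coef hγ' (LinearMap.range φ.toLinearMap) fun r x k _ => by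
    choose y hy using fun i => hπ (x i)
    refine ⟨coef γ.law y k, ?_⟩
    rw [← coef_postcomp φ.toLinearMap γ.law y k, hφ,
      show (γ'.precomp π).law = PolLaw.precomp γ'.law π.toLinearMap from rfl, coef_precomp]
    simp [hy]
  exact (h ▸ Submodule.mem_top : c ∈ LinearMap.range φ.toLinearMap)

theorem iversen_surjective {Ce : Type u} [CommRing Ce] [Algebra A Ce] (e : ℕ)
    {Cd : Type u} [CommRing Cd] [Algebra A Cd]
    (γd : PolLaw.MulLaw A B Cd (e + 1)) (γe : PolLaw.MulLaw A B Ce e) (hγe : PolLaw.IsGammaD γe)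
    (ω : Cd ⊗[A] B →ₐ[A] Ce ⊗[A] B)
    (hω : ∀ (S : Type u) [CommSemiring S] [Algebra A S] (x y : S ⊗[A] B),
      ω.toLinearMap.lTensor S
        ((Algebra.TensorProduct.includeLeft : Cd →ₐ[A] Cd ⊗[A] B).toLinearMap.lTensor S (γd.law.toFun' S x) *
          (Algebra.TensorProduct.includeRight : B →ₐ[A] Cd ⊗[A] B).toLinearMap.lTensor S y) =
      (Algebra.TensorProduct.includeLeft : Ce →ₐ[A] Ce ⊗[A] B).toLinearMap.lTensor S (γe.law.toFun' S x) *
        (Algebra.TensorProduct.includeRight : B →ₐ[A] Ce ⊗[A] B).toLinearMap.lTensor S (x * y)) :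
    Function.Surjective ω := by
  classical
  have hy : ∀ z : B, (1 : Ce) ⊗ₜ[A] z ∈ ω.range := fun z => by
    refine ⟨(1 : Cd) ⊗ₜ[A] z, ?_⟩
    have h := hω A 1 ((1 : A) ⊗ₜ[A] z)
    rw [(γd.mult A).1, (γe.mult A).1] at h
    simp only [Algebra.TensorProduct.one_def, Algebra.TensorProduct.tmul_mul_tmul, LinearMap.lTensor_tmul,
      AlgHom.toLinearMap_apply, map_one, one_mul] at h
    simpa [Algebra.TensorProduct.one_def] using congrArg (TensorProduct.lid A _) h
  have key : ∀ (n r : ℕ) (x : Fin r → B) (L : Fin r ⊕ Unit →₀ ℕ), ∑ i, L i = e → ∑ j, L (Sum.inl j) = n →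
      coef γe.law (Sum.elim x fun _ => (1 : B)) L ⊗ₜ[A] (1 : B) ∈ ω.range := by
    intro n
    induction n using Nat.strong_induction_on with
    | _ n ih =>
      intro r x L hL hn
      let z : Fin r ⊕ Unit → B := Sum.elim x fun _ => (1 : B)
      let X : Fin r ⊕ Unit → MvPolynomial (Fin r ⊕ Unit) A := MvPolynomial.X
      have h := hω _ (∑ i, X i ⊗ₜ[A] z i) 1
      rw [mul_one, law_sum_cset γd.homog, law_sum_cset γe.homog,
        PolLaw.lTensor_algHom_apply (Algebra.TensorProduct.includeRight : B →ₐ[A] Cd ⊗[A] B), map_one,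
        mul_one] at h
      simp only [map_sum, LinearMap.lTensor_tmul, Finset.sum_mul, Finset.mul_sum, AlgHom.toLinearMap_apply,
        Algebra.TensorProduct.tmul_mul_tmul, Algebra.TensorProduct.includeLeft_apply,
        Algebra.TensorProduct.includeRight_apply, mul_one, one_mul] at h
      have e1 : ∀ (M : Fin r ⊕ Unit →₀ ℕ) (i : Fin r ⊕ Unit),
          mon X M * X i = mon X (M + Finsupp.single i 1) := fun M i => by
        simp only [X, mon_X]
        rw [MvPolynomial.X, MvPolynomial.monomial_mul, mul_one]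
      simp only [e1] at h
      have key' := congrArg (fun w => coords w (L + Finsupp.single (Sum.inr ()) 1)) h
      simp only [X, mon_X, coords_finsetSum, Finsupp.finsetSum_apply, coords_tmul, Finsupp.single_apply] at key'
      rw [Finset.sum_eq_single (L + Finsupp.single (Sum.inr ()) 1) (fun M _ hM => if_neg hM)
        (fun hn => absurd (mem_cset.2 (by simp [Finset.sum_add_distrib, hL])) hn), if_pos rfl] at key'
      rw [Fintype.sum_sum_type, Fintype.sum_unique (ι := Unit)] at key'
      rw [Finset.sum_eq_single L (fun M _ hM => if_neg fun h => hM (add_right_cancel h))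
        (fun hn => absurd (mem_cset.2 hL) hn), if_pos rfl] at key'
      have hmem : ω (coef γd.law z (L + Finsupp.single (Sum.inr ()) 1) ⊗ₜ[A] (1 : B)) ∈ ω.range := ⟨_, rfl⟩
      rw [key'] at hmem
      refine (add_mem_cancel_left (H := ω.range) ?_).1 hmem
      refine Subalgebra.sum_mem _ fun j _ => Subalgebra.sum_mem _ fun M hM => ?_
      split_ifs with hMj
      · rw [← mul_one (coef γe.law z M), ← one_mul (z (Sum.inl j)), ← Algebra.TensorProduct.tmul_mul_tmul]
        refine Subalgebra.mul_mem _ (ih (∑ i, M (Sum.inl i)) ?_ r x M (mem_cset.1 hM) rfl) (hy _)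
        have h1 : ∀ i, M (Sum.inl i) + (Finsupp.single (Sum.inl j) 1 : Fin r ⊕ Unit →₀ ℕ) (Sum.inl i) =
            L (Sum.inl i) := fun i => by
          simpa using DFunLike.congr_fun hMj (Sum.inl i)
        have h2 := Finset.sum_congr rfl fun i (_ : i ∈ Finset.univ) => h1 i
        simp only [Finset.sum_add_distrib, Finsupp.single_apply, Sum.inl.injEq, Finset.sum_ite_eq,
          Finset.mem_univ, if_true, hn] at h2
        omega
      · exact Subalgebra.zero_mem _
  intro w
  induction w using TensorProduct.induction_on with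
  | zero => exact ⟨0, map_zero ω⟩
  | add a b ha hb => exact (ω.range.add_mem ha hb : a + b ∈ ω.range)
  | tmul c z =>
    show c ⊗ₜ[A] z ∈ ω.range
    rw [← mul_one c, ← one_mul z, ← Algebra.TensorProduct.tmul_mul_tmul]
    refine ω.range.mul_mem ?_ (hy z)
    have h := eq_top_of_coef hγe
      ((Subalgebra.toSubmodule ω.range).comap (Algebra.TensorProduct.includeLeft : Ce →ₐ[A] Ce ⊗[A] B).toLinearMap)
      fun r x k hk => by
        show coef γe.law x k ⊗ₜ[A] (1 : B) ∈ ω.range
        rw [show coef γe.law x k = coef γe.law (Sum.elim x fun _ : Unit => (1 : B)) (k.mapDomain Sum.inl) from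
          coef_comp γe.law (Sum.elim x fun _ : Unit => (1 : B)) Sum.inl Sum.inl_injective k]
        refine key _ r x _ ?_ rfl
        simp [Fintype.sum_sum_type, Finsupp.mapDomain_apply Sum.inl_injective,
          Finsupp.mapDomain_of_notMem_range, hk]
    exact (h ▸ Submodule.mem_top : c ∈ (Subalgebra.toSubmodule ω.range).comap
      (Algebra.TensorProduct.includeLeft : Ce →ₐ[A] Ce ⊗[A] B).toLinearMap)

end Groth.Agent.GammaLib
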