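import Groth.Agent.GammaLib.Coef
import Mathlib.LinearAlgebra.PiTensorProduct.Basis
import Mathlib.RingTheory.TensorProduct.Free

/-!
# Symmetric tensors of a module with a basis: orbit sums
-/

set_option autoImplicit false

universe u

open scoped TensorProduct

namespace Groth.Agent.GammaLib

variable {A : Type u} [CommRing A] {d : ℕ}

section Counting

variable {ι : Type} [Fintype ι]

theorem cnt_comp (f : Fin d → ι) (σ : Equiv.Perm (Fin d)) : cnt (f ∘ σ) = cnt f :=
  Equiv.sum_comp σ fun a => Finsupp.single (f a) 1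

theorem cnt_apply [DecidableEq ι] (f : Fin d → ι) (i : ι) : cnt f i = Fintype.card {a // f a = i} := by
  rw [Fintype.card_subtype]
  simp [cnt, Finsupp.finsetSum_apply, Finsupp.single_apply, Finset.sum_boole]

theorem exists_perm_of_cnt_eq {f g : Fin d → ι} (h : cnt g = cnt f) : ∃ σ : Equiv.Perm (Fin d), g = f ∘ σ := by
  classical
  have e : ∀ i, Fintype.card {a // g a = i} = Fintype.card {a // f a = i} := fun i => by
    convert ((cnt_apply g i).symm.trans (DFunLike.congr_fun h i)).trans (cnt_apply f i) using 1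
  exact ⟨Equiv.ofFiberEquiv fun i => Fintype.equivOfCardEq (e i),
    funext fun a => (Equiv.ofFiberEquiv_map _ a).symm⟩

variable {M N : Type u} [AddCommGroup M] [Module A M] [AddCommGroup N] [Module A N]

open scoped Classical in
/-- the symmetric sum of the pure tensors of the given multiplicities -/
noncomputable def osum (x : ι → M) (k : ι →₀ ℕ) : ⨂[A] _ : Fin d, M :=
  ∑ f ∈ Finset.univ.filter (fun f : Fin d → ι => cnt f = k), PiTensorProduct.tprod A fun a => x (f a)

theorem map_osum (g : M →ₗ[A] N) (x : ι → M) (k : ι →₀ ℕ) :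
    PiTensorProduct.map (fun _ : Fin d => g) (osum (A := A) x k) = osum (fun i => g (x i)) k := by
  simp [osum, map_sum]

theorem reindex_osum (σ : Equiv.Perm (Fin d)) (x : ι → M) (k : ι →₀ ℕ) :
    PiTensorProduct.reindex A (fun _ : Fin d => M) σ (osum x k) = osum (A := A) x k := by
  classical
  rw [osum, map_sum]
  refine Finset.sum_equiv (Equiv.arrowCongr σ (Equiv.refl ι)) (fun f => ?_) fun f _ => ?_
  · simp only [Finset.mem_filter, Finset.mem_univ, true_and]
    rw [show Equiv.arrowCongr σ (Equiv.refl ι) f = f ∘ σ.symm from rfl, cnt_comp]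
  · rw [PiTensorProduct.reindex_tprod]
    rfl

end Counting

section Tpow

variable {B : Type u} [CommRing B] [Algebra A B] {ι : Type} [Fintype ι]

theorem prod_singleAlgHom (x : Fin d → B) :
    ∏ a, PiTensorProduct.singleAlgHom (R := A) (A := fun _ : Fin d => B) a (x a) =
      PiTensorProduct.tprod A x := by
  simp only [PiTensorProduct.singleAlgHom_apply, MonoidHom.mulSingle_apply]
  rw [← PiTensorProduct.tprod_prod]
  exact congrArg _ (Finset.univ_prod_mulSingle x)

theorem tpow_sum {S : Type u} [CommSemiring S] [Algebra A S] (s : ι → S) (x : ι → B) :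
    (SymTen.tpowLaw A B d).law.toFun' S (∑ i, s i ⊗ₜ[A] x i) =
      ∑ k ∈ cset ι d, mon s k ⊗ₜ[A] osum x k := by
  classical
  rw [SymTen.tpowLaw, PolLaw.MulLaw.prodMap_toFun']
  simp only [map_sum, Algebra.TensorProduct.map_tmul, AlgHom.id_apply]
  rw [Fintype.prod_sum]
  simp only [osum, TensorProduct.tmul_sum]
  rw [← Finset.sum_fiberwise_of_maps_to (s := Finset.univ) (t := cset ι d) (g := cnt)
    fun f _ => mem_cset.2 (sum_cnt f)]
  refine Finset.sum_congr rfl fun k _ => Finset.sum_congr rfl fun f hf => ?_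
  rw [← (Finset.mem_filter.1 hf).2, mon_cnt, ← prod_singleAlgHom]
  induction (Finset.univ : Finset (Fin d)) using Finset.induction_on with
  | empty => simp [Algebra.TensorProduct.one_def]
  | insert a t ha ih =>
    rw [Finset.prod_insert ha, Finset.prod_insert ha, Finset.prod_insert ha, ih,
      Algebra.TensorProduct.tmul_mul_tmul]

theorem coef_tpow (x : ι → B) {k : ι →₀ ℕ} (hk : ∑ i, k i = d) :
    coef (SymTen.tpowLaw A B d).law x k = osum x k := by
  classical
  rw [coef_eq_of_expansion _ x (cset ι d) (fun k => osum x k) (tpow_sum _ x), if_pos (mem_cset.2 hk)]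

end Tpow

section Basis

variable {M : Type u} [AddCommGroup M] [Module A M] {ι : Type u} (b : Module.Basis ι A M)

/-- symmetric tensors of a module -/
def IsSymm (t : ⨂[A] _ : Fin d, M) : Prop :=
  ∀ σ : Equiv.Perm (Fin d), PiTensorProduct.reindex A (fun _ : Fin d => M) σ t = t

theorem isSymm_osum {κ : Type} [Fintype κ] (x : κ → M) (k : κ →₀ ℕ) :
    IsSymm (osum (A := A) (d := d) x k) := fun σ => reindex_osum σ x k

/-- the basis of the tensor power -/
noncomputable def bT : Module.Basis (Fin d → ι) A (⨂[A] _ : Fin d, M) :=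
  Basis.piTensorProduct fun _ => b

theorem bT_apply (f : Fin d → ι) : bT b f = PiTensorProduct.tprod A fun a => b (f a) :=
  Basis.piTensorProduct_apply _ f

theorem repr_reindex (σ : Equiv.Perm (Fin d)) (t : ⨂[A] _ : Fin d, M) (g : Fin d → ι) :
    (bT b).repr (PiTensorProduct.reindex A (fun _ : Fin d => M) σ t) g = (bT b).repr t (g ∘ σ) := by
  suffices h : Finsupp.lapply g ∘ₗ (bT b).repr.toLinearMap ∘ₗ
      (PiTensorProduct.reindex A (fun _ : Fin d => M) σ).toLinearMap =
      Finsupp.lapply (g ∘ σ) ∘ₗ (bT b).repr.toLinearMap from LinearMap.congr_fun h t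
  classical
  refine (bT b).ext fun f => ?_
  simp only [LinearMap.comp_apply, LinearEquiv.coe_coe, Finsupp.lapply_apply, Module.Basis.repr_self]
  rw [bT_apply, PiTensorProduct.reindex_tprod, ← bT_apply b fun a => f (σ.symm a), Module.Basis.repr_self,
    Finsupp.single_apply, Finsupp.single_apply]
  refine if_congr ⟨fun h => ?_, fun h => ?_⟩ rfl rfl
  · subst h; funext a; simp
  · subst h; funext a; simp

/-- functions up to permutation of the arguments -/
def orbSetoid (ι : Type u) (d : ℕ) : Setoid (Fin d → ι) where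
  r f g := ∃ σ : Equiv.Perm (Fin d), g = f ∘ σ
  iseqv :=
    ⟨fun f => ⟨1, rfl⟩,
      fun {f g} ⟨σ, h⟩ => ⟨σ.symm, by subst h; funext a; simp⟩,
      fun {f g h} ⟨σ, h1⟩ ⟨τ, h2⟩ => ⟨τ.trans σ, by subst h1 h2; funext a; simp⟩⟩

/-- a chosen representative -/
noncomputable def rep (f : Fin d → ι) : Fin d → ι := (Quotient.mk (orbSetoid ι d) f).out

theorem rep_spec (f : Fin d → ι) : ∃ σ : Equiv.Perm (Fin d), f = rep f ∘ σ :=
  Quotient.mk_out (s := orbSetoid ι d) f

theorem rep_comp (f : Fin d → ι) (σ : Equiv.Perm (Fin d)) : rep (f ∘ σ) = rep f :=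
  congrArg Quotient.out (Quotient.sound (⟨σ.symm, by funext a; simp⟩ : (orbSetoid ι d).r (f ∘ σ) f))

open scoped Classical in
/-- the orbit of a function -/
noncomputable def orbit (f : Fin d → ι) : Finset (Fin d → ι) :=
  Finset.univ.image fun σ : Equiv.Perm (Fin d) => f ∘ σ

theorem mem_orbit {f g : Fin d → ι} : g ∈ orbit f ↔ ∃ σ : Equiv.Perm (Fin d), g = f ∘ σ := by
  classical
  simp [orbit, eq_comm]

/-- the orbit sum -/
noncomputable def orb (f : Fin d → ι) : ⨂[A] _ : Fin d, M := ∑ g ∈ orbit f, bT b g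

theorem repr_orb [DecidableEq (Fin d → ι)] (f g : Fin d → ι) :
    (bT b).repr (orb b f) g = if g ∈ orbit f then 1 else 0 := by
  simp [orb, map_sum, Finsupp.finsetSum_apply, Finsupp.single_apply, Finset.sum_ite_eq']

open scoped Classical in
/-- the retraction onto the symmetric tensors -/
noncomputable def rT : (⨂[A] _ : Fin d, M) →ₗ[A] ⨂[A] _ : Fin d, M :=
  (bT b).constr A fun f => if rep f = f then orb b f else 0

theorem repr_rT (t : ⨂[A] _ : Fin d, M) (g : Fin d → ι) :
    (bT b).repr (rT b t) g = (bT b).repr t (rep g) := by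
  suffices h : Finsupp.lapply g ∘ₗ (bT b).repr.toLinearMap ∘ₗ rT b =
      Finsupp.lapply (rep g) ∘ₗ (bT b).repr.toLinearMap from LinearMap.congr_fun h t
  classical
  refine (bT b).ext fun f => ?_
  simp only [LinearMap.comp_apply, LinearEquiv.coe_coe, Finsupp.lapply_apply, Module.Basis.repr_self, rT,
    Module.Basis.constr_basis, Finsupp.single_apply]
  by_cases hf : rep f = f
  · rw [if_pos hf, repr_orb]
    refine if_congr ⟨fun h => ?_, fun h => ?_⟩ rfl rfl
    · obtain ⟨σ, rfl⟩ := mem_orbit.1 h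
      rw [rep_comp, hf]
    · rw [mem_orbit]
      obtain ⟨σ, hσ⟩ := rep_spec g
      exact ⟨σ, h ▸ hσ⟩
  · rw [if_neg hf, map_zero, Finsupp.zero_apply, if_neg]
    intro h
    refine hf ?_
    obtain ⟨σ, hσ⟩ := rep_spec g
    rw [h, ← rep_comp (rep g) σ, ← hσ]

theorem isSymm_rT (t : ⨂[A] _ : Fin d, M) : IsSymm (rT b t) := fun σ =>
  (bT b).ext_elem fun g => by rw [repr_reindex, repr_rT, repr_rT, rep_comp]

theorem repr_eq_rep {t : ⨂[A] _ : Fin d, M} (ht : IsSymm t) (g : Fin d → ι) :
    (bT b).repr t g = (bT b).repr t (rep g) := by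
  obtain ⟨σ, hσ⟩ := rep_spec g
  conv_lhs => rw [hσ, ← repr_reindex, ht σ]

theorem rT_of_isSymm {t : ⨂[A] _ : Fin d, M} (ht : IsSymm t) : rT b t = t :=
  (bT b).ext_elem fun g => by rw [repr_rT, ← repr_eq_rep b ht]

theorem lTensor_repr (S : Type u) [CommSemiring S] [Algebra A S] {κ : Type u} (c : Module.Basis κ A M)
    (φ : M →ₗ[A] M) (h : κ → κ) (hφ : ∀ t g, c.repr (φ t) g = c.repr t (h g)) (z : S ⊗[A] M) (g : κ) :
    (Algebra.TensorProduct.basis S c).repr (φ.lTensor S z) g =
      (Algebra.TensorProduct.basis S c).repr z (h g) := by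
  induction z using TensorProduct.induction_on with
  | zero => simp
  | tmul s m =>
    simp [LinearMap.lTensor_tmul, Algebra.TensorProduct.basis_repr_tmul, Finsupp.smul_apply,
      Finsupp.mapRange_apply, hφ]
  | add x y hx hy => simp only [map_add, Finsupp.add_apply, hx, hy]

theorem rT_lTensor_of_fixed {S : Type u} [CommSemiring S] [Algebra A S] (z : S ⊗[A] (⨂[A] _ : Fin d, M))
    (hz : ∀ σ : Equiv.Perm (Fin d),
      (PiTensorProduct.reindex A (fun _ : Fin d => M) σ).toLinearMap.lTensor S z = z) :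
    (rT b).lTensor S z = z := by
  refine (Algebra.TensorProduct.basis S (bT b)).ext_elem fun g => ?_
  rw [lTensor_repr S (bT b) (rT b) rep (repr_rT b)]
  obtain ⟨σ, hσ⟩ := rep_spec g
  conv_lhs => rw [← hz σ, lTensor_repr S (bT b) _ (fun g => g ∘ σ) (fun t g => repr_reindex b σ t g), ← hσ]

/-- a faithful enumeration of the values of a function -/
theorem exists_enum (f : Fin d → ι) : ∃ (r : ℕ) (e : Fin r → ι) (f₀ : Fin d → Fin r),
    Function.Injective e ∧ f = e ∘ f₀ := by
  classical
  let s := Finset.univ.image f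
  refine ⟨s.card, fun i => (s.equivFin.symm i : ι),
    fun a => s.equivFin ⟨f a, Finset.mem_image.2 ⟨a, Finset.mem_univ a, rfl⟩⟩,
    Subtype.val_injective.comp s.equivFin.symm.injective, ?_⟩
  funext a
  simp

theorem orb_eq_osum {κ : Type} [Fintype κ] (e : κ → ι) (he : Function.Injective e) (f₀ : Fin d → κ) :
    orb b (e ∘ f₀) = osum (fun i => b (e i)) (cnt f₀) := by
  classical
  rw [orb, osum, show orbit (e ∘ f₀) =
    (Finset.univ.filter (fun g : Fin d → κ => cnt g = cnt f₀)).image (e ∘ ·) from ?_,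
    Finset.sum_image (g := fun g₀ : Fin d → κ => e ∘ g₀)
      (fun g _ g' _ h => funext fun a => he (congrFun h a))]
  · exact Finset.sum_congr rfl fun g _ => bT_apply b _
  ext g
  rw [mem_orbit, Finset.mem_image]
  constructor
  · rintro ⟨σ, rfl⟩
    exact ⟨f₀ ∘ σ, Finset.mem_filter.2 ⟨Finset.mem_univ _, cnt_comp f₀ σ⟩, rfl⟩
  · rintro ⟨g₀, hg, rfl⟩
    obtain ⟨σ, rfl⟩ := exists_perm_of_cnt_eq (Finset.mem_filter.1 hg).2
    exact ⟨σ, rfl⟩

end Basis

end Groth.Agent.GammaLib
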