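import Groth.Agent.GammaLib.Univ

/-!
# The symmetrisation law from tensor powers to divided powers
-/

set_option autoImplicit false
set_option linter.style.haveILetI false

universe u

open scoped TensorProduct

namespace Groth.Agent.GammaLib

variable {A : Type u} [CommRing A] {d : ℕ}

theorem perm_perm {B : Type u} [CommRing B] [Algebra A B] (σ τ : Equiv.Perm (Fin d)) (z : ⨂[A] _ : Fin d, B) :
    SymTen.perm A B d σ (SymTen.perm A B d τ z) = SymTen.perm A B d (τ.trans σ) z := by
  induction z using PiTensorProduct.induction_on with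
  | smul_tprod r f => simp
  | add x y hx hy => simp only [map_add, hx, hy]

theorem perm_comp {B : Type u} [CommRing B] [Algebra A B] (σ τ : Equiv.Perm (Fin d)) :
    (SymTen.perm A B d σ).comp (SymTen.perm A B d τ) = SymTen.perm A B d (τ.trans σ) :=
  AlgHom.ext (perm_perm σ τ)

theorem tmap_perm {B P : Type u} [CommRing B] [Algebra A B] [CommRing P] [Algebra A P] (f : P →ₐ[A] B)
    (σ : Equiv.Perm (Fin d)) (z : ⨂[A] _ : Fin d, P) :
    SymTen.tmap A d f (SymTen.perm A P d σ z) = SymTen.perm A B d σ (SymTen.tmap A d f z) := by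
  rw [SymTen.perm_apply, SymTen.perm_apply, SymTen.tmap_reindex]

theorem tmap_comp {B P P' : Type u} [CommRing B] [Algebra A B] [CommRing P] [Algebra A P] [CommRing P']
    [Algebra A P'] (f : P →ₐ[A] B) (g : P' →ₐ[A] P) :
    (SymTen.tmap A d f).comp (SymTen.tmap A d g) = SymTen.tmap A d (f.comp g) := by
  refine AlgHom.ext fun z => ?_
  induction z using PiTensorProduct.induction_on with
  | smul_tprod r v => simp
  | add x y hx hy => simp only [map_add, hx, hy]

theorem tmap_surjective {B P : Type u} [CommRing B] [Algebra A B] [CommRing P] [Algebra A P] (f : P →ₐ[A] B)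
    (hf : Function.Surjective f) : Function.Surjective (SymTen.tmap A d f) := by
  intro z
  induction z using PiTensorProduct.induction_on with
  | smul_tprod r v =>
    choose w hw using fun a => hf (v a)
    exact ⟨r • PiTensorProduct.tprod A w, by simp [hw]⟩
  | add x y hx hy =>
    obtain ⟨x', rfl⟩ := hx
    obtain ⟨y', rfl⟩ := hy
    exact ⟨x' + y', map_add _ _ _⟩

/-- `S ⊗ f` for an algebra map `f`, as an algebra map -/
noncomputable def lT {M N : Type u} [CommRing M] [Algebra A M] [CommRing N] [Algebra A N] (f : M →ₐ[A] N)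
    (S : Type u) [CommSemiring S] [Algebra A S] : S ⊗[A] M →ₐ[S] S ⊗[A] N :=
  Algebra.TensorProduct.map (AlgHom.id S S) f

theorem lT_comp {M N Q : Type u} [CommRing M] [Algebra A M] [CommRing N] [Algebra A N] [CommRing Q]
    [Algebra A Q] (f : N →ₐ[A] Q) (g : M →ₐ[A] N) (S : Type u) [CommSemiring S] [Algebra A S] (x : S ⊗[A] M) :
    lT f S (lT g S x) = lT (f.comp g) S x := by
  induction x using TensorProduct.induction_on with
  | zero => simp
  | tmul s m => simp [lT]
  | add x y hx hy => simp only [map_add, hx, hy]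

theorem lT_eq {M N : Type u} [CommRing M] [Algebra A M] [CommRing N] [Algebra A N] (f : M →ₐ[A] N)
    (S : Type u) [CommSemiring S] [Algebra A S] (x : S ⊗[A] M) : f.toLinearMap.lTensor S x = lT f S x :=
  PolLaw.lTensor_algHom_apply f S x

section descend

variable {P B C : Type u} [CommRing P] [Algebra A P] [CommRing B] [Algebra A B] [CommRing C] [Algebra A C]
  (π : P →ₐ[A] B)

/-- descent of a multiplicative law along a surjection -/
noncomputable def descend (hπ : Function.Surjective π) (G : PolLaw.MulLaw A P C d)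
    (hG : ∀ (S : Type u) [CommSemiring S] [Algebra A S] (x y : S ⊗[A] P),
      π.toLinearMap.lTensor S x = π.toLinearMap.lTensor S y → G.law.toFun' S x = G.law.toFun' S y) :
    PolLaw.MulLaw A B C d where
  law :=
  { toFun' := fun S _ _ x => G.law.toFun' S (Function.surjInv (lTensor_pi_surjective π hπ S) x)
    isCompat' := fun {S} _ _ {S'} _ _ φ => funext fun x => by
      show φ.toLinearMap.rTensor C (G.law.toFun' S _) = G.law.toFun' S' _
      rw [law_compat]
      refine hG S' _ _ ?_
      rw [Function.surjInv_eq (lTensor_pi_surjective π hπ S'), ← rTensor_lTensor φ π.toLinearMap,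
        Function.surjInv_eq (lTensor_pi_surjective π hπ S)] }
  homog S _ _ s x := by
    show G.law.toFun' S _ = s ^ d • G.law.toFun' S _
    rw [← G.homog S s]
    refine hG S _ _ ?_
    rw [Function.surjInv_eq (lTensor_pi_surjective π hπ S), lT_eq, map_smul, ← lT_eq,
      Function.surjInv_eq (lTensor_pi_surjective π hπ S)]
  mult S _ _ := by
    refine ⟨?_, fun x y => ?_⟩
    · show G.law.toFun' S _ = 1
      rw [← (G.mult S).1]
      refine hG S _ _ ?_
      rw [Function.surjInv_eq (lTensor_pi_surjective π hπ S), lT_eq, map_one]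
    · show G.law.toFun' S _ = G.law.toFun' S _ * G.law.toFun' S _
      rw [← (G.mult S).2]
      refine hG S _ _ ?_
      rw [Function.surjInv_eq (lTensor_pi_surjective π hπ S), lT_eq, map_mul, ← lT_eq, ← lT_eq,
        Function.surjInv_eq (lTensor_pi_surjective π hπ S), Function.surjInv_eq (lTensor_pi_surjective π hπ S)]

theorem descend_pi (hπ : Function.Surjective π) (G : PolLaw.MulLaw A P C d)
    (hG : ∀ (S : Type u) [CommSemiring S] [Algebra A S] (x y : S ⊗[A] P),
      π.toLinearMap.lTensor S x = π.toLinearMap.lTensor S y → G.law.toFun' S x = G.law.toFun' S y)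
    (S : Type u) [CommSemiring S] [Algebra A S] (x : S ⊗[A] P) :
    (descend π hπ G hG).law.toFun' S (π.toLinearMap.lTensor S x) = G.law.toFun' S x :=
  hG S _ _ (Function.surjInv_eq _ _)

end descend

section kernel

variable {P B : Type u} [CommRing P] [Algebra A P] [CommRing B] [Algebra A B] (π : P →ₐ[A] B)

/-- tensors with a factor in the kernel -/
noncomputable def slotKer : Submodule A (⨂[A] _ : Fin d, P) :=
  Submodule.span A {z | ∃ f : Fin d → P, (∃ a, π (f a) = 0) ∧ z = PiTensorProduct.tprod A f}

theorem tprod_sub_mem (f g : Fin d → P) (h : ∀ a, π (f a) = π (g a)) :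
    PiTensorProduct.tprod A f - PiTensorProduct.tprod A g ∈ slotKer (d := d) π := by
  classical
  suffices H : ∀ s : Finset (Fin d),
      PiTensorProduct.tprod A (fun a => if a ∈ s then f a else g a) - PiTensorProduct.tprod A g ∈ slotKer π by
    simpa using H Finset.univ
  intro s
  induction s using Finset.induction_on with
  | empty => simp
  | insert c s hc ih =>
    let m := fun a => if a ∈ s then f a else g a
    have e1 : (fun a => if a ∈ insert c s then f a else g a) = Function.update m c (f c) := by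
      funext a
      by_cases ha : a = c
      · subst ha; simp
      · simp [ha, m]
    have e2 : m = Function.update m c (g c) := by
      rw [show g c = m c by simp [m, hc], Function.update_eq_self]
    have hd : PiTensorProduct.tprod A (Function.update m c (f c - g c)) ∈ slotKer π :=
      Submodule.subset_span ⟨_, ⟨c, by simp [h c]⟩, rfl⟩
    rw [MultilinearMap.map_update_sub, ← e1, ← e2] at hd
    simpa [m] using add_mem hd ih

theorem mem_slotKer_of_tmap (hπ : Function.Surjective π) {z : ⨂[A] _ : Fin d, P}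
    (hz : SymTen.tmap A d π z = 0) : z ∈ slotKer π := by
  classical
  let Q := (slotKer (d := d) π).mkQ
  have wd : ∀ f g : Fin d → P, (∀ a, π (f a) = π (g a)) →
      Q (PiTensorProduct.tprod A f) = Q (PiTensorProduct.tprod A g) := fun f g h =>
    (Submodule.Quotient.eq _).2 (tprod_sub_mem π f g h)
  let Ψ : MultilinearMap A (fun _ : Fin d => B) ((⨂[A] _ : Fin d, P) ⧸ slotKer (d := d) π) :=
    MultilinearMap.mk' (fun v => Q (PiTensorProduct.tprod A fun a => Function.surjInv hπ (v a)))
      (fun v c x y => by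
        rw [← map_add, wd _ (Function.update (fun a => Function.surjInv hπ (v a)) c
            (Function.surjInv hπ x + Function.surjInv hπ y)) fun a => ?_,
          MultilinearMap.map_update_add]
        · simp only [map_add]
          congr 1 <;> refine wd _ _ fun a => ?_ <;>
            (by_cases ha : a = c <;> [(subst ha; simp [Function.surjInv_eq hπ]); simp [ha]])
        · by_cases ha : a = c <;> [(subst ha; simp [Function.surjInv_eq hπ]); simp [ha]])
      (fun v c r x => by
        rw [← map_smul, wd _ (Function.update (fun a => Function.surjInv hπ (v a)) c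
            (r • Function.surjInv hπ x)) fun a => ?_, MultilinearMap.map_update_smul]
        · simp only [map_smul]
          congr 1
          refine wd _ _ fun a => ?_
          by_cases ha : a = c <;> [(subst ha; simp [Function.surjInv_eq hπ]); simp [ha]]
        · by_cases ha : a = c <;> [(subst ha; simp [Function.surjInv_eq hπ]); simp [ha]])
  have h : PiTensorProduct.lift Ψ ∘ₗ (SymTen.tmap A d π).toLinearMap = Q := by
    refine PiTensorProduct.ext (MultilinearMap.ext fun f => ?_)
    show PiTensorProduct.lift Ψ (SymTen.tmap A d π (PiTensorProduct.tprod A f)) = Q (PiTensorProduct.tprod A f)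
    rw [SymTen.tmap_tprod, PiTensorProduct.lift.tprod]
    exact wd _ _ fun a => Function.surjInv_eq hπ _
  refine (Submodule.Quotient.mk_eq_zero _).1 ?_
  rw [← Submodule.mkQ_apply, show (slotKer π).mkQ z = Q z from rfl, ← h, LinearMap.comp_apply,
    AlgHom.toLinearMap_apply, hz, map_zero]

end kernel

section symm

variable {P : Type u} [CommRing P] [Algebra A P] {ι : Type u} (b : Module.Basis ι A P)

theorem symm_apply {B : Type u} [CommRing B] [Algebra A B] (S : Type u) [CommSemiring S] [Algebra A S]
    (z : S ⊗[A] (⨂[A] _ : Fin d, B)) :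
    (SymTen.symmLaw A B d).law.toFun' S z = ∏ σ : Equiv.Perm (Fin d), lT (SymTen.perm A B d σ) S z := rfl

theorem reindex_eq_perm {B : Type u} [CommRing B] [Algebra A B] (σ : Equiv.Perm (Fin d)) :
    (PiTensorProduct.reindex A (fun _ : Fin d => B) σ).toLinearMap = (SymTen.perm A B d σ).toLinearMap :=
  LinearMap.ext fun t => (SymTen.perm_apply A B d σ t).symm

theorem reindex_symm {B : Type u} [CommRing B] [Algebra A B] {S : Type u} [CommSemiring S] [Algebra A S]
    (σ : Equiv.Perm (Fin d)) (z : S ⊗[A] (⨂[A] _ : Fin d, B)) :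
    (PiTensorProduct.reindex A (fun _ : Fin d => B) σ).toLinearMap.lTensor S
        ((SymTen.symmLaw A B d).law.toFun' S z) = (SymTen.symmLaw A B d).law.toFun' S z := by
  rw [reindex_eq_perm, lT_eq, symm_apply, map_prod]
  simp only [lT_comp, perm_comp]
  exact (Equiv.prod_comp (Equiv.mulLeft σ) fun τ => lT (SymTen.perm A B d τ) S z)

/-- the symmetrisation law with values in symmetric tensors -/
noncomputable def sFun (S : Type u) [CommSemiring S] [Algebra A S] (z : S ⊗[A] (⨂[A] _ : Fin d, P)) :
    S ⊗[A] SymTen.TS A P d :=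
  (rTS b).lTensor S ((SymTen.symmLaw A P d).law.toFun' S z)

theorem val_sFun (S : Type u) [CommSemiring S] [Algebra A S] (z : S ⊗[A] (⨂[A] _ : Fin d, P)) :
    (SymTen.TS A P d).val.toLinearMap.lTensor S (sFun b S z) = (SymTen.symmLaw A P d).law.toFun' S z := by
  rw [sFun, ← LinearMap.comp_apply, ← LinearMap.lTensor_comp, val_comp_rTS]
  exact rT_lTensor_of_fixed b _ fun σ => reindex_symm σ z

/-- the symmetrisation law with values in symmetric tensors -/
noncomputable def sLaw : PolLaw.MulLaw A (⨂[A] _ : Fin d, P) (SymTen.TS A P d) d.factorial where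
  law :=
  { toFun' := fun S _ _ => sFun b S
    isCompat' := fun {S} _ _ {S'} _ _ φ => funext fun x => by
      show φ.toLinearMap.rTensor _ (sFun b S x) = sFun b S' (φ.toLinearMap.rTensor _ x)
      rw [sFun, rTensor_lTensor, law_compat]
      rfl }
  homog S _ _ s x := lTensor_val_injective b S (by
    show (SymTen.TS A P d).val.toLinearMap.lTensor S (sFun b S (s • x)) =
      (SymTen.TS A P d).val.toLinearMap.lTensor S (s ^ d.factorial • sFun b S x)
    rw [val_sFun, (SymTen.symmLaw A P d).homog S s x, ← val_sFun b S x, lT_eq, lT_eq, map_smul])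
  mult S _ _ := by
    refine ⟨lTensor_val_injective b S ?_, fun x y => lTensor_val_injective b S ?_⟩
    · show (SymTen.TS A P d).val.toLinearMap.lTensor S (sFun b S 1) = _
      rw [val_sFun, ((SymTen.symmLaw A P d).mult S).1, lT_eq, map_one]
    · show (SymTen.TS A P d).val.toLinearMap.lTensor S (sFun b S (x * y)) =
        (SymTen.TS A P d).val.toLinearMap.lTensor S (sFun b S x * sFun b S y)
      rw [val_sFun, ((SymTen.symmLaw A P d).mult S).2, ← val_sFun b S x, ← val_sFun b S y,
        lT_eq, lT_eq, lT_eq, map_mul]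

end symm

section main

variable {P B C : Type u} [CommRing P] [Algebra A P] {ι : Type u} (b : Module.Basis ι A P) [CommRing B]
  [Algebra A B] (π : P →ₐ[A] B) [CommRing C] [Algebra A C] (γ : PolLaw.MulLaw A B C d)

/-- the linear map on tensors of the presentation -/
noncomputable def LL : (⨂[A] _ : Fin d, P) →ₗ[A] C := (th b π γ).toLinearMap ∘ₗ rTS b

/-- the free algebra on the elements of `P` -/
noncomputable def aug : MvPolynomial P A →ₐ[A] P := MvPolynomial.aeval id

open scoped Classical in
/-- the projection killing the variables in the kernel -/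
noncomputable def rho : MvPolynomial P A →ₐ[A] MvPolynomial P A :=
  MvPolynomial.aeval fun p => if π p = 0 then 0 else MvPolynomial.X p

theorem rho_dichotomy (k : P →₀ ℕ) : rho π (bTaut A P k) = bTaut A P k ∨
    (rho π (bTaut A P k) = 0 ∧ π (aug (bTaut A P k)) = 0) := by
  classical
  have hk : bTaut A P k = k.prod fun p e => (MvPolynomial.X p : MvPolynomial P A) ^ e := by
    rw [bTaut, MvPolynomial.coe_basisMonomials]
    simp [MvPolynomial.monomial_eq]
  rw [hk]
  simp only [Finsupp.prod, map_prod, map_pow, rho, aug, MvPolynomial.aeval_X, id]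
  by_cases h : ∃ p ∈ k.support, π p = 0
  · obtain ⟨p, hp, h0⟩ := h
    exact Or.inr ⟨Finset.prod_eq_zero hp (by rw [if_pos h0, zero_pow (Finsupp.mem_support_iff.1 hp)]),
      Finset.prod_eq_zero hp (by rw [h0, zero_pow (Finsupp.mem_support_iff.1 hp)])⟩
  · push_neg at h
    exact Or.inl (Finset.prod_congr rfl fun p hp => by rw [if_neg (h p hp)])

theorem LL_rho (z : ⨂[A] _ : Fin d, MvPolynomial P A) :
    LL (bTaut A P) (π.comp aug) γ (SymTen.tmap A d (rho π) z) = LL (bTaut A P) (π.comp aug) γ z := by
  classical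
  refine LinearMap.congr_fun ((bT (bTaut A P)).ext (f₁ := (LL (bTaut A P) (π.comp aug) γ) ∘ₗ
    (SymTen.tmap A d (rho π)).toLinearMap) (f₂ := LL (bTaut A P) (π.comp aug) γ) fun f => ?_) z
  rw [LinearMap.comp_apply, AlgHom.toLinearMap_apply, bT_apply, SymTen.tmap_tprod]
  by_cases h : ∀ a, rho π (bTaut A P (f a)) = bTaut A P (f a)
  · simp only [h]
  push_neg at h
  obtain ⟨a, ha⟩ := h
  obtain ⟨h0, h1⟩ := (rho_dichotomy π (f a)).resolve_left ha
  rw [(PiTensorProduct.tprod A).map_coord_zero a h0, map_zero, LL, LinearMap.comp_apply, AlgHom.toLinearMap_apply]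
  symm
  rw [← bT_apply]
  by_cases hf : rep f = f
  · obtain ⟨r, e, f₀, he, rfl⟩ := exists_enum f
    rw [show rTS (bTaut A P) (bT (bTaut A P) (e ∘ f₀)) = oTS (fun i => bTaut A P (e i)) (cnt f₀) from
      Subtype.ext (by
        show rT (bTaut A P) (bT (bTaut A P) (e ∘ f₀)) = osum (fun i => bTaut A P (e i)) (cnt f₀)
        rw [rT, Module.Basis.constr_basis, if_pos hf, orb_eq_osum _ e he f₀]), th_oTS _ _ _ _ (sum_cnt f₀)]
    refine coef_eq_zero _ _ (i := f₀ a) h1 ?_
    rw [cnt_apply]
    exact haveI : Nonempty {c // f₀ c = f₀ a} := ⟨⟨a, rfl⟩⟩; Fintype.card_ne_zero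
  · rw [show rTS (bTaut A P) (bT (bTaut A P) f) = 0 from Subtype.ext (by
      show rT (bTaut A P) (bT (bTaut A P) f) = 0
      rw [rT, Module.Basis.constr_basis, if_neg hf]), map_zero]

theorem LL_nat {P' : Type u} [CommRing P'] [Algebra A P'] {ι' : Type u} (b' : Module.Basis ι' A P')
    (h : P' →ₐ[A] P) (t : SymTen.TS A P' d) :
    LL b π γ (SymTen.tmap A d h t.1) = th b' (π.comp h) γ t := by
  refine LinearMap.congr_fun (TS_ext b'
    (f := LL b π γ ∘ₗ (SymTen.tmap A d h).toLinearMap ∘ₗ (SymTen.TS A P' d).val.toLinearMap)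
    (g := (th b' (π.comp h) γ).toLinearMap) fun r x k hk => ?_) t
  show th b π γ (rTS b (SymTen.tmap A d h (osum x k))) = th b' (π.comp h) γ (oTS x k)
  rw [show SymTen.tmap A d h (osum x k) = (oTS (d := d) (fun i => h (x i)) k).1 by simp [osum, oTS, map_sum],
    rTS_val, th_oTS _ _ _ _ hk, th_oTS _ _ _ _ hk]
  rfl

theorem LL_nat_S {P' : Type u} [CommRing P'] [Algebra A P'] {ι' : Type u} (b' : Module.Basis ι' A P')
    (h : P' →ₐ[A] P) {S : Type u} [CommSemiring S] [Algebra A S] (z : S ⊗[A] (⨂[A] _ : Fin d, P'))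
    (hz : ∀ σ : Equiv.Perm (Fin d),
      (PiTensorProduct.reindex A (fun _ : Fin d => P') σ).toLinearMap.lTensor S z = z) :
    (LL b π γ).lTensor S ((SymTen.tmap A d h).toLinearMap.lTensor S z) =
      (LL b' (π.comp h) γ).lTensor S z := by
  conv_lhs => rw [← rT_lTensor_of_fixed b' z hz]
  rw [← val_comp_rTS, ← LinearMap.comp_apply, ← LinearMap.comp_apply, ← LinearMap.lTensor_comp,
    ← LinearMap.lTensor_comp]
  refine congrArg (fun L : (⨂[A] _ : Fin d, P') →ₗ[A] C => L.lTensor S z) (LinearMap.ext fun t => ?_)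
  exact LL_nat b π γ b' h (rTS b' t)

theorem symm_nat {P' : Type u} [CommRing P'] [Algebra A P'] (h : P' →ₐ[A] P) {S : Type u} [CommSemiring S]
    [Algebra A S] (z : S ⊗[A] (⨂[A] _ : Fin d, P')) :
    lT (SymTen.tmap A d h) S ((SymTen.symmLaw A P' d).law.toFun' S z) =
      (SymTen.symmLaw A P d).law.toFun' S (lT (SymTen.tmap A d h) S z) := by
  rw [symm_apply, symm_apply, map_prod]
  refine Finset.prod_congr rfl fun σ _ => ?_
  rw [lT_comp, lT_comp, show (SymTen.tmap A d h).comp (SymTen.perm A P' d σ) =
    (SymTen.perm A P d σ).comp (SymTen.tmap A d h) from AlgHom.ext fun t => tmap_perm h σ t]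

theorem exists_lift_slotKer {S : Type u} [CommSemiring S] [Algebra A S]
    (w : S ⊗[A] slotKer (d := d) π) : ∃ y : S ⊗[A] (⨂[A] _ : Fin d, MvPolynomial P A),
      lT (SymTen.tmap A d (aug (A := A) (P := P))) S y = (slotKer π).subtype.lTensor S w ∧
      lT (SymTen.tmap A d (rho π)) S y = 0 := by
  classical
  induction w using TensorProduct.induction_on with
  | zero => exact ⟨0, by simp, by simp⟩
  | add a c ha hc =>
    obtain ⟨y, hy, hy'⟩ := ha
    obtain ⟨y', hy2, hy2'⟩ := hc
    exact ⟨y + y', by rw [map_add, map_add, hy, hy2], by rw [map_add, hy', hy2', add_zero]⟩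
  | tmul s n =>
    obtain ⟨n, hn⟩ := n
    have key : ∃ Y, SymTen.tmap A d (aug (A := A) (P := P)) Y = n ∧ SymTen.tmap A d (rho π) Y = 0 := by
      induction hn using Submodule.span_induction with
      | mem z hz =>
        obtain ⟨f, ⟨a, ha⟩, rfl⟩ := hz
        refine ⟨PiTensorProduct.tprod A fun c => MvPolynomial.X (f c), by simp [aug], ?_⟩
        rw [SymTen.tmap_tprod]
        exact (PiTensorProduct.tprod A).map_coord_zero a (by simp [rho, ha])
      | zero => exact ⟨0, map_zero _, map_zero _⟩
      | add x y _ _ hx hy =>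
        obtain ⟨X, hX, hX'⟩ := hx
        obtain ⟨Y, hY, hY'⟩ := hy
        exact ⟨X + Y, by rw [map_add, hX, hY], by rw [map_add, hX', hY', add_zero]⟩
      | smul r x _ hx =>
        obtain ⟨X, hX, hX'⟩ := hx
        exact ⟨r • X, by rw [map_smul, hX], by rw [map_smul, hX', smul_zero]⟩
    obtain ⟨Y, h1, h2⟩ := key
    exact ⟨s ⊗ₜ[A] Y, by simp [lT, h1], by simp [lT, h2]⟩

variable (hπ : Function.Surjective π)

include hπ in
theorem LL_symm_wd {S : Type u} [CommSemiring S] [Algebra A S] (x x' : S ⊗[A] (⨂[A] _ : Fin d, P))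
    (hxx : (SymTen.tmap A d π).toLinearMap.lTensor S x = (SymTen.tmap A d π).toLinearMap.lTensor S x') :
    (LL b π γ).lTensor S ((SymTen.symmLaw A P d).law.toFun' S x) =
      (LL b π γ).lTensor S ((SymTen.symmLaw A P d).law.toFun' S x') := by
  classical
  letI : CommRing S := { Algebra.semiringToRing A, ‹CommSemiring S› with }
  let a : MvPolynomial P A →ₐ[A] P := aug
  have ha : Function.Surjective a := fun p => ⟨MvPolynomial.X p, MvPolynomial.aeval_X _ _⟩
  have hex : Function.Exact ((slotKer (d := d) π).subtype.lTensor S) ((SymTen.tmap A d π).toLinearMap.lTensor S) := by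
    refine lTensor_exact S (f := (slotKer (d := d) π).subtype) (fun z => ⟨fun hz => ⟨⟨z, mem_slotKer_of_tmap π hπ hz⟩, rfl⟩, ?_⟩)
      (tmap_surjective π hπ)
    rintro ⟨⟨z, hz⟩, rfl⟩
    show SymTen.tmap A d π z = 0
    induction hz using Submodule.span_induction with
    | mem z hz =>
      obtain ⟨f, ⟨c, hc⟩, rfl⟩ := hz
      rw [SymTen.tmap_tprod]
      exact (PiTensorProduct.tprod A).map_coord_zero c hc
    | zero => exact map_zero _
    | add x y _ _ hx hy => rw [map_add, hx, hy, add_zero]
    | smul r x _ hx => rw [map_smul, hx, smul_zero]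
  obtain ⟨w, hw⟩ := (hex (x' - x)).1 (by rw [map_sub, hxx, sub_self])
  obtain ⟨y, hy, hy'⟩ := exists_lift_slotKer π w
  obtain ⟨z, hz⟩ := lTensor_pi_surjective (SymTen.tmap A d a) (tmap_surjective a ha) S x
  rw [lT_eq] at hz
  have e : ∀ u : S ⊗[A] (⨂[A] _ : Fin d, MvPolynomial P A),
      (LL b π γ).lTensor S ((SymTen.symmLaw A P d).law.toFun' S (lT (SymTen.tmap A d a) S u)) =
        (LL (bTaut A P) (π.comp a) γ).lTensor S
          ((SymTen.symmLaw A (MvPolynomial P A) d).law.toFun' S (lT (SymTen.tmap A d (rho π)) S u)) := fun u => by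
    rw [← symm_nat, ← lT_eq, LL_nat_S b π γ (bTaut A P) a _ (fun σ => reindex_symm σ u), ← symm_nat, ← lT_eq,
      ← LinearMap.comp_apply, ← LinearMap.lTensor_comp]
    exact congrArg (fun L : (⨂[A] _ : Fin d, MvPolynomial P A) →ₗ[A] C =>
      L.lTensor S ((SymTen.symmLaw A (MvPolynomial P A) d).law.toFun' S u))
      (LinearMap.ext fun t => (LL_rho π γ t).symm)
  rw [show x' = lT (SymTen.tmap A d a) S (z + y) by rw [map_add, hz, hy, hw, add_sub_cancel], ← hz, e, e,
    map_add, hy', add_zero]

/-- the symmetrisation law on tensors of `B` with values in the divided powers -/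
noncomputable def symGamma : PolLaw.MulLaw A (⨂[A] _ : Fin d, B) C d.factorial :=
  descend (SymTen.tmap A d π) (tmap_surjective π hπ) (PolLaw.MulLaw.postcomp (th b π γ) (sLaw b))
    fun S _ _ x y h => by
      show (th b π γ).toLinearMap.lTensor S (sFun b S x) = (th b π γ).toLinearMap.lTensor S (sFun b S y)
      rw [sFun, sFun, ← LinearMap.comp_apply, ← LinearMap.comp_apply, ← LinearMap.lTensor_comp]
      exact LL_symm_wd b π γ hπ x y h

theorem symGamma_pi (S : Type u) [CommSemiring S] [Algebra A S] (x : S ⊗[A] (⨂[A] _ : Fin d, P)) :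
    (symGamma b π γ hπ).law.toFun' S ((SymTen.tmap A d π).toLinearMap.lTensor S x) =
      (th b π γ).toLinearMap.lTensor S (sFun b S x) :=
  descend_pi _ _ _ _ S x

variable (φ : C →ₐ[A] SymTen.TS A B d)
  (hφ : PolLaw.MulLaw.postcomp ((SymTen.TS A B d).val.comp φ) γ = SymTen.tpowLaw A B d)

include hφ in
theorem phi_th (t : SymTen.TS A P d) : (φ (th b π γ t)).1 = SymTen.tmap A d π t.1 := by
  rw [← th_tpow b π t, ← hφ, th_postcomp]
  rfl

include hφ in
theorem postcomp_symGamma :
    PolLaw.MulLaw.postcomp ((SymTen.TS A B d).val.comp φ) (symGamma b π γ hπ) = SymTen.symmLaw A B d := by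
  refine PolLaw.MulLaw.ext (PolynomialLaw.ext ?_)
  funext S _ _ x
  obtain ⟨z, rfl⟩ := lTensor_pi_surjective (SymTen.tmap A d π) (tmap_surjective π hπ) S x
  show ((SymTen.TS A B d).val.comp φ).toLinearMap.lTensor S ((symGamma b π γ hπ).law.toFun' S _) = _
  rw [symGamma_pi, ← LinearMap.comp_apply, ← LinearMap.lTensor_comp,
    show ((SymTen.TS A B d).val.comp φ).toLinearMap ∘ₗ (th b π γ).toLinearMap =
      (SymTen.tmap A d π).toLinearMap ∘ₗ (SymTen.TS A P d).val.toLinearMap from
      LinearMap.ext fun t => phi_th b π γ φ hφ t,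
    LinearMap.lTensor_comp, LinearMap.comp_apply, val_sFun, lT_eq, lT_eq, symm_nat]

end main

end Groth.Agent.GammaLib
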