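import Groth.Agent.GammaLib.SymmLaw

/-!
# Divided powers versus symmetric tensors
-/

set_option autoImplicit false
set_option linter.style.haveILetI false

universe u

open scoped TensorProduct

namespace Groth.Agent.GammaLib

variable {A : Type u} [CommRing A] {d : ℕ} {B C : Type u} [CommRing B] [Algebra A B] [CommRing C] [Algebra A C]

theorem tpow_sum_raw {S : Type u} [CommSemiring S] [Algebra A S] {ι : Type} [Fintype ι] (s : ι → S) (x : ι → B) :
    (SymTen.tpowLaw A B d).law.toFun' S (∑ i, s i ⊗ₜ[A] x i) =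
      ∑ f : Fin d → ι, (∏ a, s (f a)) ⊗ₜ[A] PiTensorProduct.tprod A fun a => x (f a) := by
  classical
  rw [SymTen.tpowLaw, PolLaw.MulLaw.prodMap_toFun']
  simp only [map_sum, Algebra.TensorProduct.map_tmul, AlgHom.id_apply]
  rw [Fintype.prod_sum]
  refine Finset.sum_congr rfl fun f _ => ?_
  rw [← prod_singleAlgHom]
  induction (Finset.univ : Finset (Fin d)) using Finset.induction_on with
  | empty => simp [Algebra.TensorProduct.one_def]
  | insert a t ha ih =>
    rw [Finset.prod_insert ha, Finset.prod_insert ha, Finset.prod_insert ha, ih,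
      Algebra.TensorProduct.tmul_mul_tmul]

theorem postcomp_eq_tpow_of_sums (γ : PolLaw.MulLaw A B C d) (ψ : C →ₐ[A] (⨂[A] _ : Fin d, B))
    (hφ : ∀ (S : Type u) [CommSemiring S] [Algebra A S] (n : ℕ) (s : Fin n → S) (b : Fin n → B),
      ψ.toLinearMap.lTensor S (γ.law.toFun' S (∑ j, s j ⊗ₜ[A] b j)) =
        ∑ c : Fin d → Fin n, (∏ i, s (c i)) ⊗ₜ[A] PiTensorProduct.tprod A (fun i => b (c i))) :
    PolLaw.MulLaw.postcomp ψ γ = SymTen.tpowLaw A B d := by
  refine PolLaw.MulLaw.ext (PolynomialLaw.ext ?_)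
  funext S _ _ x
  obtain ⟨n, s, y, rfl⟩ := exists_sum_tmul x
  rw [tpow_sum_raw]
  exact hφ S n s y

theorem ground_apply_map {M N : Type u} [AddCommGroup M] [Module A M] [AddCommGroup N] [Module A N]
    (G : M →ₚₗ[A] N) (m : M) : G.toFun' A ((1 : A) ⊗ₜ[A] m) = (1 : A) ⊗ₜ[A] G.ground m := by
  rw [PolynomialLaw.ground_apply]
  exact (TensorProduct.lid A N).injective (by simp)

variable (γ : PolLaw.MulLaw A B C d) (φ : C →ₐ[A] SymTen.TS A B d)
  (hφ : PolLaw.MulLaw.postcomp ((SymTen.TS A B d).val.comp φ) γ = SymTen.tpowLaw A B d)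

/-- the symmetrisation law into divided powers -/
noncomputable def symG : PolLaw.MulLaw A (⨂[A] _ : Fin d, B) C d.factorial :=
  symGamma (bTaut A B) (piTaut A B) γ (piTaut_surjective A B)

include hφ in
theorem val_phi_symG (z : ⨂[A] _ : Fin d, B) :
    ((SymTen.TS A B d).val (φ ((symG γ).law.ground z)) : ⨂[A] _ : Fin d, B) =
      ∏ σ : Equiv.Perm (Fin d), SymTen.perm A B d σ z := by
  have h := postcomp_symGamma (bTaut A B) (piTaut A B) γ (piTaut_surjective A B) φ hφ
  have h1 : ((SymTen.TS A B d).val.comp φ).toLinearMap.lTensor A ((symG γ).law.toFun' A ((1 : A) ⊗ₜ[A] z)) =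
      ∏ σ : Equiv.Perm (Fin d), lT (SymTen.perm A B d σ) A ((1 : A) ⊗ₜ[A] z) :=
    congrFun (congrArg (fun L : PolLaw.MulLaw A (⨂[A] _ : Fin d, B) (⨂[A] _ : Fin d, B) d.factorial =>
      L.law.toFun' A) h) ((1 : A) ⊗ₜ[A] z)
  rw [ground_apply_map, LinearMap.lTensor_tmul] at h1
  have h2 := congrArg (Algebra.TensorProduct.lid A (⨂[A] _ : Fin d, B)) h1
  simpa [map_prod, lT] using h2

theorem val_symm_fixed {S : Type u} [CommSemiring S] [Algebra A S] (x : S ⊗[A] SymTen.TS A B d) :
    (SymTen.symmLaw A B d).law.toFun' S (lT (SymTen.TS A B d).val S x) =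
      lT (SymTen.TS A B d).val S (x ^ d.factorial) := by
  rw [symm_apply, map_pow]
  have h : ∀ σ : Equiv.Perm (Fin d), lT (SymTen.perm A B d σ) S (lT (SymTen.TS A B d).val S x) =
      lT (SymTen.TS A B d).val S x := fun σ => by
    rw [lT_comp, show (SymTen.perm A B d σ).comp (SymTen.TS A B d).val = (SymTen.TS A B d).val from
      AlgHom.ext fun t => by
        show SymTen.perm A B d σ t.1 = t.1
        rw [SymTen.perm_apply]; exact t.2 σ]
  simp only [h, Finset.prod_const, Finset.card_univ, Fintype.card_perm, Fintype.card_fin]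

/-- the symmetrisation law on symmetric tensors -/
noncomputable def symF : PolLaw.MulLaw A (SymTen.TS A B d) C d.factorial :=
  PolLaw.MulLaw.precomp (symG γ) (SymTen.TS A B d).val

include hφ in
theorem postcomp_phi_symF :
    PolLaw.MulLaw.postcomp φ (symF γ) = PolLaw.MulLaw.pow A (SymTen.TS A B d) d.factorial := by
  refine PolLaw.MulLaw.ext (law_ext fun n x k => Subtype.ext ?_)
  have e : PolLaw.postcomp (SymTen.TS A B d).val.toLinearMap (PolLaw.MulLaw.postcomp φ (symF γ)).law =
      PolLaw.postcomp (SymTen.TS A B d).val.toLinearMap (PolLaw.MulLaw.pow A (SymTen.TS A B d) d.factorial).law := by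
    refine PolynomialLaw.ext ?_
    funext S _ _ z
    have h := postcomp_symGamma (bTaut A B) (piTaut A B) γ (piTaut_surjective A B) φ hφ
    show (SymTen.TS A B d).val.toLinearMap.lTensor S (φ.toLinearMap.lTensor S
        ((symG γ).law.toFun' S ((SymTen.TS A B d).val.toLinearMap.lTensor S z))) =
      (SymTen.TS A B d).val.toLinearMap.lTensor S (z ^ d.factorial)
    rw [← LinearMap.comp_apply, ← LinearMap.lTensor_comp, ← AlgHom.comp_toLinearMap,
      show ((SymTen.TS A B d).val.comp φ).toLinearMap.lTensor S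
          ((symG γ).law.toFun' S ((SymTen.TS A B d).val.toLinearMap.lTensor S z)) =
        (SymTen.symmLaw A B d).law.toFun' S ((SymTen.TS A B d).val.toLinearMap.lTensor S z) from
      congrFun (congrArg (fun L : PolLaw.MulLaw A (⨂[A] _ : Fin d, B) (⨂[A] _ : Fin d, B) d.factorial =>
        L.law.toFun' S) h) _, lT_eq, lT_eq, val_symm_fixed]
  have h1 := congrArg (fun L => coef L x k) e
  simp only [coef_postcomp] at h1
  exact h1

include hφ in
theorem precomp_symF_phi (hγ : PolLaw.IsGammaD γ) :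
    PolLaw.MulLaw.precomp (symF γ) φ = PolLaw.MulLaw.pow A C d.factorial := by
  refine PolLaw.MulLaw.ext (PolynomialLaw.ext ?_)
  funext S _ _ x
  obtain ⟨t, rfl⟩ := LinearMap.lTensor_surjective S
    (g := (th (bTaut A B) (piTaut A B) γ).toLinearMap)
    (th_surjective (bTaut A B) (piTaut A B) (piTaut_surjective A B) hγ) x
  show (symG γ).law.toFun' S ((SymTen.TS A B d).val.toLinearMap.lTensor S (φ.toLinearMap.lTensor S
      ((th (bTaut A B) (piTaut A B) γ).toLinearMap.lTensor S t))) =
    ((th (bTaut A B) (piTaut A B) γ).toLinearMap.lTensor S t) ^ d.factorial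
  rw [← LinearMap.comp_apply, ← LinearMap.comp_apply, ← LinearMap.lTensor_comp, ← LinearMap.lTensor_comp,
    show ((SymTen.TS A B d).val.toLinearMap ∘ₗ φ.toLinearMap) ∘ₗ (th (bTaut A B) (piTaut A B) γ).toLinearMap =
      (SymTen.tmap A d (piTaut A B)).toLinearMap ∘ₗ (SymTen.TS A (MvPolynomial B A) d).val.toLinearMap from
      LinearMap.ext fun u => phi_th (bTaut A B) (piTaut A B) γ φ hφ u,
    LinearMap.lTensor_comp, LinearMap.comp_apply]
  rw [show (symG γ).law.toFun' S _ = _ from symGamma_pi (bTaut A B) (piTaut A B) γ (piTaut_surjective A B) S _,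
    lT_eq (th (bTaut A B) (piTaut A B) γ), lT_eq (th (bTaut A B) (piTaut A B) γ), ← map_pow]
  congr 1
  refine lTensor_val_injective (bTaut A B) S ?_
  rw [val_sFun, lT_eq, lT_eq, val_symm_fixed]

include hφ in
theorem pow_factorial_eq_zero (hγ : PolLaw.IsGammaD γ) {x : C} (hx : φ x = 0) : x ^ d.factorial = 0 := by
  have h := congrFun (congrArg (fun L : PolLaw.MulLaw A C C d.factorial => L.law.toFun' A)
    (precomp_symF_phi γ φ hφ hγ)) ((1 : A) ⊗ₜ[A] x)
  change (symF γ).law.toFun' A (φ.toLinearMap.lTensor A ((1 : A) ⊗ₜ[A] x)) =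
    ((1 : A) ⊗ₜ[A] x) ^ d.factorial at h
  rw [LinearMap.lTensor_tmul, AlgHom.toLinearMap_apply, hx, TensorProduct.tmul_zero] at h
  have h0 := (symF γ).homog A (0 : A) 0
  rw [smul_zero, zero_pow (Nat.factorial_ne_zero d), zero_smul] at h0
  rw [h0] at h
  simpa using (congrArg (Algebra.TensorProduct.lid A C) h).symm

include hφ in
theorem pow_factorial_mem_range (y : SymTen.TS A B d) : y ^ d.factorial ∈ φ.range := by
  have h := congrFun (congrArg (fun L : PolLaw.MulLaw A (SymTen.TS A B d) (SymTen.TS A B d) d.factorial =>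
    L.law.toFun' A) (postcomp_phi_symF γ φ hφ)) ((1 : A) ⊗ₜ[A] y)
  change φ.toLinearMap.lTensor A ((symF γ).law.toFun' A ((1 : A) ⊗ₜ[A] y)) =
    ((1 : A) ⊗ₜ[A] y) ^ d.factorial at h
  rw [ground_apply_map, LinearMap.lTensor_tmul] at h
  refine ⟨(symF γ).law.ground y, ?_⟩
  simpa using congrArg (Algebra.TensorProduct.lid A (SymTen.TS A B d)) h

/-- the sum over the symmetric group -/
noncomputable def trS (P : Type u) [CommRing P] [Algebra A P] :
    (⨂[A] _ : Fin d, P) →ₗ[A] (⨂[A] _ : Fin d, P) :=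
  ∑ σ : Equiv.Perm (Fin d), (SymTen.perm A P d σ).toLinearMap

theorem trS_isSymm (P : Type u) [CommRing P] [Algebra A P] (z : ⨂[A] _ : Fin d, P) : IsSymm (trS (A := A) P z) := by
  intro σ
  rw [← SymTen.perm_apply, trS, LinearMap.sum_apply, map_sum]
  simp only [AlgHom.toLinearMap_apply, perm_perm]
  exact Equiv.sum_comp (Equiv.mulLeft σ) fun τ => SymTen.perm A P d τ z

theorem tmap_trS {P Q : Type u} [CommRing P] [Algebra A P] [CommRing Q] [Algebra A Q] (h : P →ₐ[A] Q)
    (z : ⨂[A] _ : Fin d, P) :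
    SymTen.tmap A d h (trS (A := A) P z) = trS (A := A) Q (SymTen.tmap A d h z) := by
  simp [trS, LinearMap.sum_apply, map_sum, tmap_perm]

theorem trS_fixed (P : Type u) [CommRing P] [Algebra A P] (t : SymTen.TS A P d) :
    trS (A := A) P t.1 = d.factorial • t.1 := by
  rw [trS, LinearMap.sum_apply]
  simp only [AlgHom.toLinearMap_apply, SymTen.perm_apply, t.2 _]
  simp [Finset.card_univ, Fintype.card_perm]

theorem LL_trS_eq_zero {P : Type u} [CommRing P] [Algebra A P] {ι : Type u} (b : Module.Basis ι A P)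
    (π : P →ₐ[A] B) {z : ⨂[A] _ : Fin d, P} (hz : z ∈ slotKer π) : LL b π γ (trS (A := A) P z) = 0 := by
  classical
  obtain ⟨y, hy, hy'⟩ := exists_lift_slotKer π ((1 : A) ⊗ₜ[A] (⟨z, hz⟩ : slotKer (d := d) π))
  have h1 : SymTen.tmap A d (aug (A := A) (P := P)) (Algebra.TensorProduct.lid A _ y) = z := by
    have h := congrArg (Algebra.TensorProduct.lid A _) hy
    rw [LinearMap.lTensor_tmul] at h
    rw [show Algebra.TensorProduct.lid A _ (lT (SymTen.tmap A d (aug (A := A) (P := P))) A y) =
      SymTen.tmap A d (aug (A := A) (P := P)) (Algebra.TensorProduct.lid A _ y) from by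
      clear h hy hy'
      induction y using TensorProduct.induction_on with
      | zero => simp
      | tmul a m => simp [lT]
      | add a b ha hb => simp only [map_add, ha, hb]] at h
    simpa using h
  have h2 : SymTen.tmap A d (rho π) (Algebra.TensorProduct.lid A _ y) = 0 := by
    have h := congrArg (Algebra.TensorProduct.lid A _) hy'
    rw [map_zero] at h
    rw [← h]
    clear h hy hy' h1
    induction y using TensorProduct.induction_on with
    | zero => simp
    | tmul a m => simp [lT]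
    | add a b ha hb => simp only [map_add, ha, hb]
  have key : LL b π γ (SymTen.tmap A d (aug (A := A) (P := P))
      (trS (A := A) (MvPolynomial P A) (Algebra.TensorProduct.lid A _ y))) =
      LL (bTaut A P) (π.comp aug) γ (trS (A := A) (MvPolynomial P A) (Algebra.TensorProduct.lid A _ y)) := by
    have h := LL_nat b π γ (bTaut A P) (aug (A := A) (P := P))
      (rTS (bTaut A P) (trS (A := A) (MvPolynomial P A) (Algebra.TensorProduct.lid A _ y)))
    rw [show (rTS (bTaut A P) (trS (A := A) (MvPolynomial P A) (Algebra.TensorProduct.lid A _ y))).1 =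
      trS (A := A) (MvPolynomial P A) (Algebra.TensorProduct.lid A _ y) from
        rT_of_isSymm _ (trS_isSymm _ _)] at h
    exact h
  rw [tmap_trS, h1] at key
  rw [key, ← LL_rho π γ, tmap_trS, h2, map_zero, map_zero]

include hφ in
theorem factorial_smul_eq_zero (hγ : PolLaw.IsGammaD γ) {x : C} (hx : φ x = 0) : d.factorial • x = 0 := by
  obtain ⟨t, rfl⟩ := th_surjective (bTaut A B) (piTaut A B) (piTaut_surjective A B) hγ x
  have hz : SymTen.tmap A d (piTaut A B) t.1 = 0 := by
    rw [← phi_th (bTaut A B) (piTaut A B) γ φ hφ t, hx]; rfl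
  have h := LL_trS_eq_zero γ (bTaut A B) (piTaut A B)
    (mem_slotKer_of_tmap (piTaut A B) (piTaut_surjective A B) hz)
  rw [trS_fixed, map_nsmul, LL, LinearMap.comp_apply, rTS_val] at h
  exact h

include hφ in
theorem factorial_smul_mem_range (y : SymTen.TS A B d) : d.factorial • y ∈ φ.range := by
  obtain ⟨z, hz⟩ := tmap_surjective (d := d) (piTaut A B) (piTaut_surjective A B) y.1
  refine ⟨th (bTaut A B) (piTaut A B) γ (rTS (bTaut A B) (trS (A := A) (MvPolynomial B A) z)), Subtype.ext ?_⟩
  show (φ (th (bTaut A B) (piTaut A B) γ _)).1 = _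
  rw [phi_th (bTaut A B) (piTaut A B) γ φ hφ,
    show (rTS (bTaut A B) (trS (A := A) (MvPolynomial B A) z)).1 = trS (A := A) (MvPolynomial B A) z from
      rT_of_isSymm _ (trS_isSymm _ _), tmap_trS, hz, trS_fixed]
  simp

end Groth.Agent.GammaLib
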