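import Groth.Agent.GammaLib.Chi
import Mathlib.LinearAlgebra.TensorProduct.RightExactness
import Mathlib.RingTheory.Ideal.Quotient.Operations

/-!
# Existence of `Γ^d_A(B)` and spanning by coefficients
-/

set_option autoImplicit false
set_option linter.style.haveILetI false

universe u

open scoped TensorProduct

namespace Groth.Agent.GammaLib

variable {A : Type u} [CommRing A] {d : ℕ}

section Presentation

variable {P : Type u} [CommRing P] [Algebra A P] {ι : Type u} (b : Module.Basis ι A P)
  {B : Type u} [CommRing B] [Algebra A B] (π : P →ₐ[A] B)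
  {C : Type u} [CommRing C] [Algebra A C]

/-- the map on symmetric tensors of the presentation attached to a law on `B` -/
noncomputable def th (F : PolLaw.MulLaw A B C d) : SymTen.TS A P d →ₐ[A] C :=
  chiAlg b (PolLaw.MulLaw.precomp F π)

theorem th_coef (F : PolLaw.MulLaw A B C d) {κ : Type} [Fintype κ] (x : κ → P) (k : κ →₀ ℕ) :
    th b π F (coef (tLaw (d := d) b).law x k) = coef F.law (fun i => π (x i)) k := by
  have h := congrArg PolLaw.MulLaw.law (postcomp_chiAlg b (PolLaw.MulLaw.precomp F π))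
  have h' := coef_postcomp (chiAlg b (PolLaw.MulLaw.precomp F π)).toLinearMap (tLaw (d := d) b).law x k
  rw [show PolLaw.postcomp (chiAlg b (PolLaw.MulLaw.precomp F π)).toLinearMap (tLaw (d := d) b).law =
    PolLaw.precomp F.law π.toLinearMap from h, coef_precomp] at h'
  exact h'.symm

theorem th_oTS (F : PolLaw.MulLaw A B C d) {κ : Type} [Fintype κ] (x : κ → P) {k : κ →₀ ℕ}
    (hk : ∑ i, k i = d) : th b π F (oTS (d := d) x k) = coef F.law (fun i => π (x i)) k := by
  rw [← coef_tLaw b x hk, th_coef]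

include b in
theorem TS_ext {N : Type u} [AddCommGroup N] [Module A N] {f g : SymTen.TS A P d →ₗ[A] N}
    (h : ∀ (r : ℕ) (x : Fin r → P) (k : Fin r →₀ ℕ), ∑ i, k i = d → f (oTS x k) = g (oTS x k)) : f = g := by
  refine LinearMap.ext fun t => ?_
  have h' := TS_eq_top_of_oTS b (LinearMap.eqLocus f g) fun r e _ f₀ => h r _ _ (sum_cnt f₀)
  exact (h' ▸ Submodule.mem_top : t ∈ LinearMap.eqLocus f g)

theorem th_postcomp {C' : Type u} [CommRing C'] [Algebra A C'] (f : C →ₐ[A] C') (F : PolLaw.MulLaw A B C d) :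
    th b π (PolLaw.MulLaw.postcomp f F) = f.comp (th b π F) := by
  refine AlgHom.ext fun t => LinearMap.congr_fun (TS_ext b (f := (th b π _).toLinearMap)
    (g := (f.comp (th b π F)).toLinearMap) fun r x k hk => ?_) t
  show th b π _ (oTS x k) = f (th b π F (oTS x k))
  rw [th_oTS b π _ x hk, th_oTS b π _ x hk]
  exact coef_postcomp f.toLinearMap F.law _ k

theorem th_tpow (t : SymTen.TS A P d) : th b π (SymTen.tpowLaw A B d) t = SymTen.tmap A d π t.1 := by
  refine LinearMap.congr_fun (TS_ext b (f := (th b π (SymTen.tpowLaw A B d)).toLinearMap)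
    (g := (SymTen.tmap A d π).toLinearMap ∘ₗ (SymTen.TS A P d).val.toLinearMap) fun r x k hk => ?_) t
  show th b π _ (oTS x k) = SymTen.tmap A d π (osum x k)
  rw [th_oTS b π _ x hk, coef_tpow _ hk]
  simp [osum, map_sum]

/-- the kernel of the universal quotient -/
noncomputable def gammaKer : Ideal (SymTen.TS A P d) where
  carrier := {t | ∀ (C : Type u) [CommRing C] [Algebra A C] (F : PolLaw.MulLaw A B C d), th b π F t = 0}
  zero_mem' C _ _ F := map_zero _
  add_mem' {s t} hs ht C _ _ F := by rw [map_add, hs C F, ht C F, add_zero]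
  smul_mem' c {t} ht C _ _ F := by rw [smul_eq_mul, map_mul, ht C F, mul_zero]

/-- a model of the divided powers of `B` -/
def Gamma : Type u := SymTen.TS A P d ⧸ gammaKer (d := d) b π

noncomputable instance : CommRing (Gamma (d := d) b π) := Ideal.Quotient.commRing (gammaKer (d := d) b π)

noncomputable instance : Algebra A (Gamma (d := d) b π) := Ideal.instAlgebraQuotient A (gammaKer (d := d) b π)

/-- the quotient map -/
noncomputable def gq : SymTen.TS A P d →ₐ[A] Gamma (d := d) b π := Ideal.Quotient.mkₐ A _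

/-- the map out of the model attached to a law -/
noncomputable def gLift {C' : Type u} [CommRing C'] [Algebra A C'] (F : PolLaw.MulLaw A B C' d) :
    Gamma (d := d) b π →ₐ[A] C' :=
  Ideal.Quotient.liftₐ (gammaKer (d := d) b π) (th b π F) fun a ha => ha C' F

theorem gLift_gq {C' : Type u} [CommRing C'] [Algebra A C'] (F : PolLaw.MulLaw A B C' d) :
    (gLift b π F).comp (gq (d := d) b π) = th b π F := rfl

theorem gq_surjective : Function.Surjective (gq (d := d) b π) := Ideal.Quotient.mkₐ_surjective A _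

theorem gq_coef_eq_zero {κ : Type} [Fintype κ] (x : κ → P) {k : κ →₀ ℕ} {i : κ} (hi : π (x i) = 0)
    (hk : k i ≠ 0) : gq (d := d) b π (coef (tLaw (d := d) b).law x k) = 0 :=
  Ideal.Quotient.eq_zero_iff_mem.2 fun C _ _ F => by
    rw [th_coef]; exact coef_eq_zero _ _ hi hk

variable (hπ : Function.Surjective π)

theorem lTensor_pi_surjective (hπ : Function.Surjective π) (S : Type u) [CommSemiring S] [Algebra A S] :
    Function.Surjective (π.toLinearMap.lTensor S) := LinearMap.lTensor_surjective S hπ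

include hπ in
theorem gq_tLaw_eq {S : Type u} [CommSemiring S] [Algebra A S] {y y' : S ⊗[A] P}
    (h : π.toLinearMap.lTensor S y = π.toLinearMap.lTensor S y') :
    (gq (d := d) b π).toLinearMap.lTensor S ((tLaw (d := d) b).law.toFun' S y) =
      (gq (d := d) b π).toLinearMap.lTensor S ((tLaw (d := d) b).law.toFun' S y') := by
  letI : CommRing S := { Algebra.semiringToRing A, ‹CommSemiring S› with }
  have hex : Function.Exact ((LinearMap.ker π.toLinearMap).subtype.lTensor S) (π.toLinearMap.lTensor S) :=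
    lTensor_exact S (LinearMap.exact_subtype_ker_map π.toLinearMap) hπ
  obtain ⟨w, hw⟩ := (hex (y' - y)).1 (by rw [map_sub, h, sub_self])
  obtain ⟨n, s, x, hy⟩ := exists_sum_tmul y
  obtain ⟨m, t, z, hz⟩ := exists_sum_tmul w
  let X : Fin n ⊕ Fin m → P := Sum.elim x fun j => (z j : P)
  have e1 : y = ∑ i, Sum.elim s (0 : Fin m → S) i ⊗ₜ[A] X i := by
    rw [Fintype.sum_sum_type, hy]
    simp [X]
  have e2 : y' = ∑ i, Sum.elim s t i ⊗ₜ[A] X i := by
    rw [Fintype.sum_sum_type, ← sub_add_cancel y' y, ← hw, hz, hy, add_comm, map_sum]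
    simp [X]
  rw [e1, e2, law_sum_cset (tLaw b).homog, law_sum_cset (tLaw b).homog, map_sum, map_sum]
  refine Finset.sum_congr rfl fun k _ => ?_
  rw [LinearMap.lTensor_tmul, LinearMap.lTensor_tmul]
  by_cases hk : ∃ j, k (Sum.inr j) ≠ 0
  · obtain ⟨j, hj⟩ := hk
    rw [AlgHom.toLinearMap_apply, gq_coef_eq_zero b π X (i := Sum.inr j) (z j).2 hj, TensorProduct.tmul_zero,
      TensorProduct.tmul_zero]
  · push_neg at hk
    congr 1
    refine Finset.prod_congr rfl fun i _ => ?_
    rcases i with i | j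
    · rfl
    · rw [hk j, pow_zero, pow_zero]

/-- the value of the universal law -/
noncomputable def gFun (S : Type u) [CommSemiring S] [Algebra A S] (x : S ⊗[A] B) : S ⊗[A] Gamma (d := d) b π :=
  (gq (d := d) b π).toLinearMap.lTensor S
    ((tLaw (d := d) b).law.toFun' S (Function.surjInv (lTensor_pi_surjective π hπ S) x))

theorem gFun_pi (S : Type u) [CommSemiring S] [Algebra A S] (y : S ⊗[A] P) :
    gFun (d := d) b π hπ S (π.toLinearMap.lTensor S y) =
      (gq (d := d) b π).toLinearMap.lTensor S ((tLaw (d := d) b).law.toFun' S y) :=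
  gq_tLaw_eq b π hπ (Function.surjInv_eq _ _)

/-- the universal law -/
noncomputable def gLaw : PolLaw.MulLaw A B (Gamma (d := d) b π) d where
  law :=
  { toFun' := fun S _ _ => gFun (d := d) b π hπ S
    isCompat' := fun {S} _ _ {S'} _ _ φ => funext fun x => by
      obtain ⟨y, rfl⟩ := lTensor_pi_surjective π hπ S x
      show φ.toLinearMap.rTensor _ (gFun (d := d) b π hπ S _) = gFun (d := d) b π hπ S' (φ.toLinearMap.rTensor B _)
      rw [rTensor_lTensor φ π.toLinearMap, gFun_pi, gFun_pi, rTensor_lTensor φ (gq (d := d) b π).toLinearMap,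
        law_compat] }
  homog S _ _ s x := by
    obtain ⟨y, rfl⟩ := lTensor_pi_surjective π hπ S x
    show gFun (d := d) b π hπ S _ = s ^ d • gFun (d := d) b π hπ S _
    rw [show s • π.toLinearMap.lTensor S y = π.toLinearMap.lTensor S (s • y) by
      rw [PolLaw.lTensor_algHom_apply, PolLaw.lTensor_algHom_apply, map_smul], gFun_pi, gFun_pi,
      (tLaw b).homog, PolLaw.lTensor_algHom_apply, PolLaw.lTensor_algHom_apply, map_smul]
  mult S _ _ := by
    refine ⟨?_, fun x x' => ?_⟩
    · show gFun (d := d) b π hπ S 1 = 1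
      rw [show (1 : S ⊗[A] B) = π.toLinearMap.lTensor S 1 by rw [PolLaw.lTensor_algHom_apply, map_one],
        gFun_pi, ((tLaw b).mult S).1, PolLaw.lTensor_algHom_apply, map_one]
    · obtain ⟨y, rfl⟩ := lTensor_pi_surjective π hπ S x
      obtain ⟨y', rfl⟩ := lTensor_pi_surjective π hπ S x'
      show gFun (d := d) b π hπ S _ = gFun (d := d) b π hπ S _ * gFun (d := d) b π hπ S _
      rw [show π.toLinearMap.lTensor S y * π.toLinearMap.lTensor S y' = π.toLinearMap.lTensor S (y * y') by
        rw [PolLaw.lTensor_algHom_apply, PolLaw.lTensor_algHom_apply, PolLaw.lTensor_algHom_apply, map_mul],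
        gFun_pi, gFun_pi, gFun_pi, ((tLaw b).mult S).2, PolLaw.lTensor_algHom_apply,
        PolLaw.lTensor_algHom_apply, PolLaw.lTensor_algHom_apply, map_mul]

theorem precomp_gLaw : PolLaw.MulLaw.precomp (gLaw (d := d) b π hπ) π =
    PolLaw.MulLaw.postcomp (gq (d := d) b π) (tLaw b) :=
  PolLaw.MulLaw.ext (PolynomialLaw.ext (funext fun S => funext fun _ => funext fun _ => funext fun y =>
    gFun_pi b π hπ S y))

theorem gLaw_isGammaD : PolLaw.IsGammaD (gLaw (d := d) b π hπ) := by
  intro C' _ _ F
  refine ⟨gLift b π F, ?_, fun f hf => ?_⟩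
  · refine PolynomialLaw.ext ?_
    funext S _ _ x
    obtain ⟨y, rfl⟩ := lTensor_pi_surjective π hπ S x
    show (gLift b π F).toLinearMap.lTensor S (gFun (d := d) b π hπ S _) = _
    rw [gFun_pi, ← LinearMap.comp_apply, ← LinearMap.lTensor_comp, ← AlgHom.comp_toLinearMap, gLift_gq]
    exact congrFun (congrFun (congrFun (congrFun (congrArg (fun L => L.law.toFun')
      (postcomp_chiAlg b (PolLaw.MulLaw.precomp F π))) S) _) _) y
  · have h : f.comp (gq (d := d) b π) = th b π F := by
      refine eq_chiAlg b _ _ (PolLaw.MulLaw.ext ?_)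
      refine PolynomialLaw.ext ?_
      funext S _ _ y
      show (f.comp (gq (d := d) b π)).toLinearMap.lTensor S ((tLaw b).law.toFun' S y) =
        F.law.toFun' S (π.toLinearMap.lTensor S y)
      rw [AlgHom.comp_toLinearMap, LinearMap.lTensor_comp, LinearMap.comp_apply, ← gFun_pi b π hπ S y]
      exact congrFun (congrArg (fun L : B →ₚₗ[A] C' => L.toFun' S) hf) _
    refine AlgHom.ext fun a => ?_
    obtain ⟨t, rfl⟩ := gq_surjective b π a
    exact DFunLike.congr_fun h t

variable {γ : PolLaw.MulLaw A B C d}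

theorem th_eq_zero_of (hγ : PolLaw.IsGammaD γ) {t : SymTen.TS A P d} (ht : th b π γ t = 0)
    (C' : Type u) [CommRing C'] [Algebra A C'] (F : PolLaw.MulLaw A B C' d) : th b π F t = 0 := by
  obtain ⟨f, hf, -⟩ := hγ C' F
  rw [show F = PolLaw.MulLaw.postcomp f γ from (PolLaw.MulLaw.ext hf).symm, th_postcomp,
    AlgHom.comp_apply, ht, map_zero]

include hπ in
theorem th_surjective (hγ : PolLaw.IsGammaD γ) : Function.Surjective (th b π γ) := by
  obtain ⟨g, hg, -⟩ := hγ (Gamma (d := d) b π) (gLaw b π hπ)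
  let f : Gamma (d := d) b π →ₐ[A] C := gLift b π γ
  have hfγ : PolLaw.MulLaw.postcomp f (gLaw b π hπ) = γ := by
    obtain ⟨f', hf', hu⟩ := gLaw_isGammaD b π hπ C γ
    have hf'' : f = f' := by
      refine AlgHom.ext fun a => ?_
      obtain ⟨t, rfl⟩ := gq_surjective b π a
      have h2 : th b π γ = f'.comp (gq (d := d) b π) := by
        refine (eq_chiAlg b _ _ (PolLaw.MulLaw.ext (PolynomialLaw.ext ?_))).symm
        funext S _ _ y
        show (f'.comp (gq (d := d) b π)).toLinearMap.lTensor S ((tLaw b).law.toFun' S y) =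
          γ.law.toFun' S (π.toLinearMap.lTensor S y)
        rw [AlgHom.comp_toLinearMap, LinearMap.lTensor_comp, LinearMap.comp_apply, ← gFun_pi b π hπ S y]
        exact congrFun (congrArg (fun L : B →ₚₗ[A] C => L.toFun' S) hf') _
      exact DFunLike.congr_fun h2 t
    subst hf''
    exact PolLaw.MulLaw.ext hf'
  intro c
  obtain ⟨t, ht⟩ := gq_surjective b π (g c)
  refine ⟨t, ?_⟩
  have hfg : f.comp g = AlgHom.id A C := by
    refine (hγ C γ).unique ?_ ?_
    · refine PolynomialLaw.ext ?_
      funext S _ _ x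
      show (f.comp g).toLinearMap.lTensor S (γ.law.toFun' S x) = γ.law.toFun' S x
      rw [AlgHom.comp_toLinearMap, LinearMap.lTensor_comp, LinearMap.comp_apply,
        show g.toLinearMap.lTensor S (γ.law.toFun' S x) = (gLaw b π hπ).law.toFun' S x from
          congrFun (congrArg (fun L : B →ₚₗ[A] Gamma (d := d) b π => L.toFun' S) hg) _]
      exact congrFun (congrFun (congrFun (congrFun (congrArg (fun L => L.law.toFun') hfγ) S) _) _) x
    · refine PolynomialLaw.ext ?_
      funext S _ _ x
      show (AlgHom.id A C).toLinearMap.lTensor S (γ.law.toFun' S x) = γ.law.toFun' S x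
      rw [AlgHom.toLinearMap_id, LinearMap.lTensor_id, LinearMap.id_apply]
  calc th b π γ t = f (g c) := by rw [← ht]; rfl
    _ = c := DFunLike.congr_fun hfg c

end Presentation

section Span

variable (A) (B : Type u) [CommRing B] [Algebra A B]

/-- the tautological presentation -/
noncomputable def piTaut : MvPolynomial B A →ₐ[A] B := MvPolynomial.aeval id

theorem piTaut_surjective : Function.Surjective (piTaut A B) := fun x =>
  ⟨MvPolynomial.X x, MvPolynomial.aeval_X _ _⟩

/-- a basis of the tautological presentation -/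
noncomputable def bTaut : Module.Basis (B →₀ ℕ) A (MvPolynomial B A) := MvPolynomial.basisMonomials B A

theorem exists_isGammaD (d : ℕ) :
    ∃ (C : Type u) (_ : CommRing C) (_ : Algebra A C) (γ : PolLaw.MulLaw A B C d), PolLaw.IsGammaD γ :=
  ⟨_, inferInstance, inferInstance, gLaw (bTaut A B) (piTaut A B) (piTaut_surjective A B),
    gLaw_isGammaD _ _ _⟩

variable {A B} {C : Type u} [CommRing C] [Algebra A C] {γ : PolLaw.MulLaw A B C d}

/-- `C` is spanned by the coefficients of its universal law -/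
theorem eq_top_of_coef (hγ : PolLaw.IsGammaD γ) (W : Submodule A C)
    (h : ∀ (r : ℕ) (x : Fin r → B) (k : Fin r →₀ ℕ), ∑ i, k i = d → coef γ.law x k ∈ W) : W = ⊤ := by
  refine eq_top_iff.2 fun c _ => ?_
  obtain ⟨t, rfl⟩ := th_surjective (bTaut A B) (piTaut A B) (piTaut_surjective A B) hγ c
  have h' := TS_eq_top_of_oTS (bTaut A B) (W.comap (th (bTaut A B) (piTaut A B) γ).toLinearMap)
    fun r e _ f₀ => by
      show th (bTaut A B) (piTaut A B) γ _ ∈ W
      rw [th_oTS _ _ _ _ (sum_cnt f₀)]
      exact h r _ _ (sum_cnt f₀)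
  exact (h' ▸ Submodule.mem_top : t ∈ W.comap (th (bTaut A B) (piTaut A B) γ).toLinearMap)

theorem hom_ext (hγ : PolLaw.IsGammaD γ) {N : Type u} [AddCommGroup N] [Module A N] {f g : C →ₗ[A] N}
    (h : ∀ (r : ℕ) (x : Fin r → B) (k : Fin r →₀ ℕ), ∑ i, k i = d → f (coef γ.law x k) = g (coef γ.law x k)) :
    f = g :=
  LinearMap.eqLocus_eq_top.1 (eq_top_of_coef hγ (LinearMap.eqLocus f g) h)

end Span

end Groth.Agent.GammaLib
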